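import Cfsg.Agent.Lib.ClassicalSimple.OrthMatrix

/-!
# `PΩ` under a change of the coordinates' names
-/

set_option autoImplicit false

namespace Cfsg.Agent.Schur.OrthW

open scoped Matrix MatrixGroups

universe u

variable {F : Type u} [Field F] {ι ι' : Type} [Fintype ι] [DecidableEq ι] [Fintype ι'] [DecidableEq ι']

theorem pomega_reindex (σ : ι ≃ ι') (Q : (ι → F) → F) (Q' : (ι' → F) → F) (h : ∀ v, Q' v = Q (v ∘ σ)) :
    Nonempty (Cfsg.POmega F Q ≃* Cfsg.POmega F Q') := by
  let e : GL ι F ≃* GL ι' F := Units.mapEquiv (Matrix.reindexAlgEquiv F F σ).toMulEquiv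
  have he : ∀ (g : GL ι' F) (x : ι → F),
      ((e.symm g : GL ι F) : Matrix ι ι F) *ᵥ x = ((g : Matrix ι' ι' F) *ᵥ (x ∘ σ.symm)) ∘ σ := fun g x => by
    show ((g : Matrix ι' ι' F).submatrix σ σ) *ᵥ x = _
    rw [Matrix.submatrix_mulVec_equiv]
  have hm : (Cfsg.isometryGroup F Q).map e.toMonoidHom = Cfsg.isometryGroup F Q' := by
    ext g
    rw [Subgroup.mem_map_equiv]
    constructor
    · intro hg x y
      have e1 := hg (x ∘ σ) (y ∘ σ)
      simp only [Units.coeHom_apply, he] at e1 ⊢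
      rw [h, h]
      simpa [Function.comp_def] using e1
    · intro hg x y
      have e1 := hg (x ∘ σ.symm) (y ∘ σ.symm)
      simp only [Units.coeHom_apply, he, h] at e1 ⊢
      simpa [Function.comp_def] using e1
  let eI := (e.subgroupMap (Cfsg.isometryGroup F Q)).trans (MulEquiv.subgroupCongr hm)
  exact ⟨ClassicalSimple.centerQuotientCongr
    ((eI.subgroupMap _).trans (MulEquiv.subgroupCongr (ClassicalSimple.map_commutator_top eI)))⟩

end Cfsg.Agent.Schur.OrthW
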