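import Cfsg.Agent.Lib.Schur.OrthW.Centre
import Cfsg.Agent.Lib.Schur.OrthW.Reindex
import Mathlib.FieldTheory.IsAlgClosed.AlgebraicClosure

/-!
# The multiplier of `PΩ` of minus type

The anisotropic binary form factors over an algebraic closure as `L * L'`; rotations multiply `L` by scalars, so
they form a cyclic group.
-/

set_option autoImplicit false

namespace Cfsg.Agent.Schur.OrthW

open CurtisTits CurtisTits.DType
open Cfsg.Agent.MaxCl Cfsg.Agent.MaxCl.Orth
open scoped MatrixGroups

universe u

variable {F : Type u} [Field F]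

/-- The binary form `z₁² + a z₁ z₂ + b z₂²`. -/
noncomputable def binQ (a b : F) : QuadraticForm F (Fin 2 → F) :=
  QuadraticMap.linMulLin (LinearMap.proj 0) (LinearMap.proj 0) +
    a • QuadraticMap.linMulLin (LinearMap.proj 0) (LinearMap.proj 1) +
    b • QuadraticMap.linMulLin (LinearMap.proj 1) (LinearMap.proj 1)

variable {a b : F}

theorem binQ_apply (z : Fin 2 → F) : binQ a b z = z 0 ^ 2 + a * z 0 * z 1 + b * z 1 ^ 2 := by
  simp [binQ]
  ring

theorem polar_binQ (z w : Fin 2 → F) :
    QuadraticMap.polar (⇑(binQ a b)) z w = 2 * z 0 * w 0 + a * (z 0 * w 1 + z 1 * w 0) + 2 * b * z 1 * w 1 := by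
  simp only [QuadraticMap.polar, binQ_apply, Pi.add_apply]
  ring

/-- The linear factor with root `r`. -/
noncomputable def lf {K : Type*} [Field K] [Algebra F K] (r : K) (z : Fin 2 → F) : K :=
  algebraMap F K (z 0) - r * algebraMap F K (z 1)

section Factor

variable {K : Type*} [Field K] [Algebra F K] {r : K}

theorem binQ_factor (hr : r ^ 2 + algebraMap F K a * r + algebraMap F K b = 0) (z : Fin 2 → F) :
    algebraMap F K (binQ a b z) = lf r z * lf (-algebraMap F K a - r) z := by
  simp only [binQ_apply, lf, map_add, map_mul, map_pow]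
  linear_combination (algebraMap F K (z 1)) ^ 2 * hr

theorem lf_rW (hr : r ^ 2 + algebraMap F K a * r + algebraMap F K b = 0) {v : Fin 2 → F}
    (hv : binQ a b v ≠ 0) (z : Fin 2 → F) :
    lf r (rW (binQ a b) v z) * lf (-algebraMap F K a - r) v = -(lf r v * lf (-algebraMap F K a - r) z) := by
  have hv' : algebraMap F K (binQ a b v) ≠ 0 := (map_ne_zero _).2 hv
  rw [binQ_factor hr] at hv'
  obtain ⟨h1, h2⟩ := mul_ne_zero_iff.1 hv'
  have hB : algebraMap F K (QuadraticMap.polar (⇑(binQ a b)) v z) =
      lf r v * lf (-algebraMap F K a - r) z + lf r z * lf (-algebraMap F K a - r) v := by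
    simp only [polar_binQ, lf, map_add, map_mul, map_ofNat]
    linear_combination (2 * algebraMap F K (v 1) * algebraMap F K (z 1)) * hr
  have he : lf r (rW (binQ a b) v z) =
      lf r z - (algebraMap F K (binQ a b v))⁻¹ * algebraMap F K (QuadraticMap.polar (⇑(binQ a b)) v z) * lf r v := by
    simp only [lf, rW_apply, Pi.sub_apply, Pi.smul_apply, smul_eq_mul, map_sub, map_mul, map_inv₀]
    ring
  rw [he, hB, binQ_factor hr]
  field_simp
  ring

end Factor

variable (hab : ∀ z₁ z₂ : F, z₁ ^ 2 + a * z₁ * z₂ + b * z₂ ^ 2 = 0 → z₁ = 0 ∧ z₂ = 0)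
include hab

theorem binQ_aniso (w : Fin 2 → F) (hw : binQ a b w = 0) : w = 0 := by
  rw [binQ_apply] at hw
  obtain ⟨h0, h1⟩ := hab _ _ hw
  funext i
  fin_cases i <;> assumption

theorem disc_ne [Finite F] : 4 * b - a ^ 2 ≠ 0 := by
  intro h
  by_cases h2 : (2 : F) = 0
  · have ha : a = 0 := sq_eq_zero_iff.1 (by linear_combination (2 * b) * h2 - h)
    have hc : ringChar F = 2 := by
      by_contra hc
      exact Ring.two_ne_zero hc h2
    obtain ⟨t, ht⟩ := FiniteField.isSquare_of_char_two hc b
    exact one_ne_zero (hab t 1 (by rw [ha, ht]; linear_combination (t * t) * h2)).2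
  · refine one_ne_zero (hab (-a / 2) 1 ?_).2
    field_simp
    linear_combination h

theorem binQ_nondeg [Finite F] : (QuadraticMap.polarBilin (binQ a b)).Nondegenerate := by
  have key : ∀ w, (∀ z, QuadraticMap.polar (⇑(binQ a b)) w z = 0) → w = 0 := by
    intro w hw
    have h0 := hw ![1, 0]
    have h1 := hw ![0, 1]
    simp only [polar_binQ, Matrix.cons_val_zero, Matrix.cons_val_one] at h0 h1
    have e0 : (4 * b - a ^ 2) * w 0 = 0 := by linear_combination (2 * b) * h0 - a * h1
    have e1 : (4 * b - a ^ 2) * w 1 = 0 := by linear_combination (2 : F) * h1 - a * h0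
    funext i
    fin_cases i
    · exact (mul_eq_zero.1 e0).resolve_left (disc_ne hab)
    · exact (mul_eq_zero.1 e1).resolve_left (disc_ne hab)
  exact ⟨key, fun w hw => key w fun z => by rw [QuadraticMap.polar_comm]; exact hw z⟩

/-- A vector neither orthogonal nor proportional to the first basis vector. -/
theorem exists_skew [Finite F] : ∃ t : F, 2 * t + a ≠ 0 := by
  by_cases ha : a = 0
  · refine ⟨1, fun e => disc_ne hab ?_⟩
    subst ha
    linear_combination (2 * b) * e
  · exact ⟨0, by simpa using ha⟩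

theorem isCyclic_rot [Finite F] : IsCyclic (Rot (binQ a b)) := by
  classical
  let K := AlgebraicClosure F
  obtain ⟨r, hr⟩ : ∃ r : K, r ^ 2 + algebraMap F K a * r + algebraMap F K b = 0 := by
    obtain ⟨r, hr⟩ := IsAlgClosed.exists_root (k := K)
      (Polynomial.C 1 * Polynomial.X ^ 2 + Polynomial.C (algebraMap F K a) * Polynomial.X +
        Polynomial.C (algebraMap F K b)) (by rw [Polynomial.degree_quadratic one_ne_zero]; decide)
    exact ⟨r, by simpa using hr⟩
  let r' : K := -algebraMap F K a - r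
  have hinj : ∀ z z' : Fin 2 → F, lf r z = lf r z' → z = z' := by
    intro z z' h
    have h1 : z 1 = z' 1 := by
      by_contra hne
      set c := (z 0 - z' 0) / (z 1 - z' 1)
      have hc : r = algebraMap F K c := by
        simp only [c, map_div₀, map_sub]
        rw [eq_div_iff (sub_ne_zero.2 fun e => hne ((algebraMap F K).injective e))]
        unfold lf at h
        linear_combination -h
      have : binQ a b ![c, 1] = 0 := (algebraMap F K).injective (by
        rw [binQ_factor hr, map_zero, lf, hc]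
        simp)
      exact one_ne_zero (congrFun (binQ_aniso hab _ this) 1)
    have h0 : z 0 = z' 0 := (algebraMap F K).injective (by unfold lf at h; rw [h1] at h; linear_combination h)
    funext i
    fin_cases i <;> assumption
  let S : Subgroup ((Fin 2 → F) ≃ₗ[F] (Fin 2 → F)) :=
    { carrier := {g | ∃ c : K, ∀ z, lf r (g z) = c * lf r z}
      one_mem' := ⟨1, fun z => (one_mul _).symm⟩
      mul_mem' := by
        rintro g g' ⟨c, hc⟩ ⟨c', hc'⟩
        exact ⟨c * c', fun z => by rw [LinearEquiv.mul_apply, hc, hc', mul_assoc]⟩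
      inv_mem' := by
        rintro g ⟨c, hc⟩
        refine ⟨c⁻¹, fun z => ?_⟩
        have hz := hc (g⁻¹ z)
        rw [show g (g⁻¹ z) = z from g.apply_symm_apply z] at hz
        by_cases h0 : c = 0
        · rw [h0, zero_mul] at hz
          have hz0 : z = 0 := hinj z 0 (by rw [hz]; simp [lf])
          subst hz0
          simp [lf]
        · rw [hz, inv_mul_cancel_left₀ h0] }
  have hle : Rot (binQ a b) ≤ S := by
    rw [Rot, Subgroup.closure_le]
    rintro _ ⟨x, y, hx, hy, rfl⟩
    have hr' : r' ^ 2 + algebraMap F K a * r' + algebraMap F K b = 0 := by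
      simp only [r']
      linear_combination hr
    have ne : ∀ v, binQ a b v ≠ 0 → lf r v ≠ 0 ∧ lf r' v ≠ 0 := fun v hv => by
      have := (map_ne_zero (algebraMap F K)).2 hv
      rw [binQ_factor hr] at this
      exact mul_ne_zero_iff.1 this
    refine ⟨lf r x * lf r' y / (lf r' x * lf r y), fun z => ?_⟩
    show lf r (rW (binQ a b) x (rW (binQ a b) y z)) = _
    have e1 := lf_rW hr hx (rW (binQ a b) y z)
    have e2 := lf_rW hr' hy z
    rw [show -algebraMap F K a - r' = r by show _ - (-algebraMap F K a - r) = r; ring] at e2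
    rw [div_mul_eq_mul_div, eq_div_iff (mul_ne_zero (ne x hx).2 (ne y hy).1)]
    linear_combination lf r y * e1 - lf r x * e2
  let χ : Rot (binQ a b) →* K :=
    { toFun := fun g => lf r (g.1 ![1, 0])
      map_one' := by simp [lf]
      map_mul' := fun g g' => by
        obtain ⟨c, hc⟩ := hle g.2
        show lf r (g.1 (g'.1 ![1, 0])) = _
        rw [hc, hc ![1, 0]]
        simp [lf] }
  have hfin : Finite ((Fin 2 → F) ≃ₗ[F] (Fin 2 → F)) := Finite.of_injective _ DFunLike.coe_injective
  refine isCyclic_of_subgroup_isDomain χ fun g g' h => Subtype.ext (LinearEquiv.ext fun z => hinj _ _ ?_)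
  obtain ⟨c, hc⟩ := hle g.2
  obtain ⟨c', hc'⟩ := hle g'.2
  change lf r (g.1 ![1, 0]) = lf r (g'.1 ![1, 0]) at h
  rw [hc, hc'] at h
  simp [lf] at h
  rw [hc, hc', h]

variable [Finite F]

theorem good_minus {n : ℕ} (hn : 3 ≤ n) : Good n (binQ a b) := by
  have hW := binQ_nondeg hab
  obtain ⟨t, ht⟩ := exists_skew hab
  have hA := binQ_aniso hab
  set x : Fin 2 → F := ![1, 0]
  set v : Fin 2 → F := ![t, 1]
  have hBxv : QuadraticMap.polar (⇑(binQ a b)) x v = 2 * t + a := by simp [polar_binQ, x, v]
  refine ⟨hn, hA, hW, ⟨x, (2 * t + a)⁻¹ • v, ?_⟩, isCyclic_rot hab, ?_⟩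
  · rw [QuadraticMap.polar_smul_right, hBxv, smul_eq_mul, inv_mul_cancel₀ ht]
  intro p c d hcd h1 h2
  have hv : binQ a b v ≠ 0 := fun e => one_ne_zero (congrFun (hA _ e) 1)
  have hx : binQ a b x ≠ 0 := fun e => one_ne_zero (congrFun (hA _ e) 0)
  set y := rW (binQ a b) v x with hy
  have hyx : binQ a b y = binQ a b x := Q_rW _ v x
  have hy1 : y 1 ≠ 0 := by
    rw [hy, rW_apply, QuadraticMap.polar_comm, hBxv]
    simp [x, v, ht, hv]
  refine ⟨wS (binQ a b) p x * wS (binQ a b) p y, _, _, ?_,
    by have := (mono_wS (binQ a b) p hx).mul (mono_wS (binQ a b) p (u := y) (by rwa [hyx]))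
       rwa [Equiv.swap_mul_self] at this, Or.inl ⟨?_, fun w hw => ?_⟩⟩
  · have hS := S_mem_omega (binQ a b) hn hW
    exact mul_mem (mul_mem (mul_mem (hS _ _) (hS _ _)) (hS _ _)) (mul_mem (mul_mem (hS _ _) (hS _ _)) (hS _ _))
  · have key : ∀ q, wSc p (binQ a b x) (Equiv.swap p (ng p) q) * wSc p (binQ a b y) q = 1 := fun q => by
      rw [hyx]
      by_cases h1 : q = p
      · subst h1; simp [wSc, ng_ne, hx]
      by_cases h2 : q = ng p
      · subst h2; simp [wSc, ng_ne, hx]
      simp [wSc, Equiv.swap_apply_of_ne_of_ne h1 h2, h1, h2]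
    rw [key, key, mul_one]
  · have key : wSc p (binQ a b x) (Equiv.swap p (ng p) p) * wSc p (binQ a b y) p = 1 := by
      rw [hyx]; simp [wSc, ng_ne, hx]
    rw [key, one_smul, LinearMap.comp_apply] at hw
    have e : rW (binQ a b) y w = rW (binQ a b) x w := by
      conv_rhs => rw [← hw, rW_rW]
    rw [rW_apply, rW_apply, sub_right_inj] at e
    have e1 := congrFun e 1
    simp [x, hy1, hyx, hx] at e1
    have e0 := congrFun e 0
    simp [x, e1, hx] at e0
    rw [polar_binQ] at e1 e0
    simp [x] at e0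
    refine (binQ_nondeg hab).1 w fun z => ?_
    have e1' : 2 * w 0 * y 0 + a * (w 0 * y 1 + w 1 * y 0) + 2 * b * w 1 * y 1 = 0 := by linear_combination e1
    have e0' : 2 * w 0 + a * w 1 = 0 := by linear_combination e0
    have e2 : (a * w 0 + 2 * b * w 1) * y 1 = 0 := by linear_combination e1' - y 0 * e0'
    have e3 := (mul_eq_zero.1 e2).resolve_right hy1
    show QuadraticMap.polar (⇑(binQ a b)) w z = 0
    rw [polar_binQ]
    linear_combination z 0 * e0' + z 1 * e3

theorem pomega_minus_mult {l : ℕ} (hl : 4 ≤ l) :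
    Cfsg.HasCyclicSchurMultiplier (Cfsg.POmega F (Cfsg.quadFormMinus (l - 1) F a b))
      (Nat.gcd 4 (Nat.card F ^ l + 1)) := by
  classical
  have := Fintype.ofFinite F
  obtain ⟨n, rfl⟩ : ∃ n, l = n + 1 := ⟨l - 1, by omega⟩
  rw [Nat.add_sub_cancel, Nat.card_eq_fintype_card]
  have hfun : Cfsg.quadFormMinus n F a b = ⇑(qf n (binQ a b)) := funext fun v => by
    rw [qf_apply, binQ_apply, QForm.plusForm_apply, Cfsg.quadFormPlus, Cfsg.quadFormMinus]
  rw [hfun]
  have G := good_minus (n := n) hab (by omega)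
  by_cases h2 : (2 : F) = 0
  · have hc : ringChar F = 2 := by
      by_contra hc
      exact Ring.two_ne_zero hc h2
    have he : Even (Fintype.card F) := Nat.even_iff.2 (FiniteField.even_card_iff_char_two.1 hc)
    rw [show Nat.gcd 4 (Fintype.card F ^ (n + 1) + 1) = 1 from
      Nat.Coprime.pow_left 2 (Nat.coprime_two_left.2 (he.pow_of_ne_zero (by omega)).add_one)]
    exact hasMult_one G h2
  have hc : ringChar F ≠ 2 := fun hc => h2 (by
    have := ringChar.Nat.cast_ringChar (R := F)
    rwa [hc, Nat.cast_ofNat] at this)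
  have ho : Fintype.card F % 2 = 1 := FiniteField.odd_card_of_char_ne_two hc
  by_cases h4 : Even n ∧ Fintype.card F % 4 = 3
  · obtain ⟨hev, h43⟩ := h4
    have hg : 4 ∣ Fintype.card F ^ (n + 1) + 1 := by
      obtain ⟨k, rfl⟩ := hev.two_dvd
      refine Nat.dvd_of_mod_eq_zero ?_
      rw [Nat.add_mod, Nat.pow_mod, h43, pow_succ, pow_mul, Nat.mul_mod, Nat.pow_mod]
      norm_num
    rw [Nat.gcd_eq_left hg]
    have hm1 : ¬ IsSquare (-1 : F) := fun h => FiniteField.isSquare_neg_one_iff.1 h h43
    have hD : IsSquare (4 * b - a ^ 2) := by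
      by_contra hD
      have hneg := (quadraticChar_neg_one_iff_not_isSquare.2 hD)
      have hneg1 := (quadraticChar_neg_one_iff_not_isSquare.2 hm1)
      have : quadraticChar F (a ^ 2 - 4 * b) = 1 := by
        rw [show a ^ 2 - 4 * b = -1 * (4 * b - a ^ 2) by ring, map_mul, hneg, hneg1]
        norm_num
      obtain ⟨s, hs⟩ := (quadraticChar_one_iff_isSquare (fun e => disc_ne hab (by linear_combination -e))).1 this
      refine one_ne_zero (hab ((-a + s) / 2) 1 ?_).2
      field_simp
      linear_combination -hs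
    obtain ⟨s, hs⟩ := hD
    have hs0 : s ≠ 0 := fun e => disc_ne hab (by rw [hs, e, mul_zero])
    obtain ⟨g, hg1, hg2⟩ := exists_neg_one G h2 hev (x := s⁻¹ • ![-a, 2]) (u := ![1, 0])
      (by
        rw [QuadraticMap.map_smul, binQ_apply, smul_eq_mul, Matrix.cons_val_zero, Matrix.cons_val_one,
          Matrix.cons_val_fin_one]
        field_simp
        linear_combination hs)
      (by simp [binQ_apply]) (by simp [polar_binQ]; ring) fun w => by
        funext i
        fin_cases i
        · simp [polar_binQ]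
          field_simp
          linear_combination (-a * w 1) * hs
        · simp [polar_binQ]
          field_simp
          linear_combination (w 1) * hs
    exact hasMult_four G h2 hg1 hg2
  · have hg : Nat.gcd 4 (Fintype.card F ^ (n + 1) + 1) = 2 := by
      have hmod : (Fintype.card F ^ (n + 1) + 1) % 4 = 2 := by
        rcases (show Fintype.card F % 4 = 1 ∨ Fintype.card F % 4 = 3 by omega) with h | h
        · rw [Nat.add_mod, Nat.pow_mod, h]; simp
        · obtain ⟨k, rfl⟩ : Odd n := Nat.not_even_iff_odd.1 fun e => h4 ⟨e, h⟩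
          rw [show 2 * k + 1 + 1 = 2 * (k + 1) by ring, Nat.add_mod, Nat.pow_mod, h, pow_mul, Nat.pow_mod]
          norm_num
      rw [Nat.gcd_rec, hmod]
      rfl
    rw [hg]
    refine hasMult_two G h2 fun z hz => not_isSquare_of_neg_one G h2 z hz ?_
    rcases n.even_or_odd with he | he
    · have h1 : Fintype.card F % 4 ≠ 3 := fun e => h4 ⟨he, e⟩
      rw [(show Odd (n + 1) from he.add_one).neg_one_pow]
      exact FiniteField.isSquare_neg_one_iff.2 h1
    · rw [he.add_one.neg_one_pow]
      exact IsSquare.one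

end Cfsg.Agent.Schur.OrthW
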