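import Cfsg.Agent.Lib.Schur.OrthW.KerBound

/-!
# Perfect central extensions of `Ω`: the kernel has at most two elements
-/

set_option autoImplicit false

namespace Cfsg.Agent.Schur.OrthW

open CurtisTits CurtisTits.DType
open Cfsg.Agent.MaxCl Cfsg.Agent.MaxCl.Orth
open scoped MatrixGroups commutatorElement

universe u

variable {F : Type u} [Field F] {κ : Type} [Fintype κ] [DecidableEq κ]

/-- The hypotheses on the form and the rank. -/
structure Good (n : ℕ) (QW : QuadraticForm F (κ → F)) : Prop where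
  hn : 3 ≤ n
  hA : ∀ w, QW w = 0 → w = 0
  hW : (QuadraticMap.polarBilin QW).Nondegenerate
  hB : ∃ w w' : κ → F, QuadraticMap.polar (⇑QW) w w' = 1
  hrot : IsCyclic (Rot QW)
  /-- a diagonal element separating a long from a short root -/
  sep : ∀ a c d : SIdx n, lv c ≠ lv d → a ≠ d → a ≠ ng c →
    ∃ (g : GL (J n κ) F) (k : SIdx n → F) (R : (κ → F) →ₗ[F] (κ → F)),
      g ∈ Cfsg.Geo.omegaGL ⇑(qf n QW) ∧ IsMono QW g 1 k R ∧
      ((k c * k (ng d) = 1 ∧ ∀ w, k a • R w = w → w = 0) ∨ ((∀ w, k a • R w = w) ∧ k c * k (ng d) ≠ 1))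

variable {n : ℕ} {QW : QuadraticForm F (κ → F)} [Finite F]

/-- Lifts of separated root elements commute. -/
theorem commute_of_sep (G : Good n QW) {M : Type u} [Group M] {p : M →* GL (J n κ) F}
    (hz : p.ker ≤ Subgroup.center M) (hr : p.range = Cfsg.Geo.omegaGL ⇑(qf n QW)) {a c d : SIdx n}
    (hcd : lv c ≠ lv d) (h1 : a ≠ d) (h2 : a ≠ ng c) (t : F) (w : κ → F) (g h : M)
    (hg : p g = E QW c d t) (hh : p h = S QW a w) : Commute g h := by
  classical
  have hE : ∀ t, E QW c d t ∈ p.range := fun t => by rw [hr]; exact E_mem_omega QW G.hn G.hW c d t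
  have hS : ∀ w, S QW a w ∈ p.range := fun w => by rw [hr]; exact S_mem_omega QW G.hn G.hW a w
  choose x hx using hE
  choose y hy using hS
  let γ : F → (κ → F) → M := fun t w => ⁅x t, y w⁆
  have hγ : ∀ {t w g h}, p g = E QW c d t → p h = S QW a w → ⁅g, h⁆ = γ t w := fun h1 h2 =>
    Schur.commutator_congr hz (h1.trans (hx _).symm) (h2.trans (hy _).symm)
  have hc : ∀ t w, γ t w ∈ Subgroup.center M := fun t w => hz (by
    rw [MonoidHom.mem_ker, map_commutatorElement, hx, hy, commutatorElement_eq_one_iff_commute]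
    exact S_comm_E QW hcd h1 h2 t w)
  have addR : ∀ t w w', γ t (w + w') = γ t w * γ t w' := fun t w w' => by
    rw [← hγ (hx t) (show p (y w * y w') = S QW a (w + w') by rw [map_mul, hy, hy, S_add]),
      show ⁅x t, y w * y w'⁆ = ⁅x t, y w⁆ * (y w * ⁅x t, y w'⁆ * (y w)⁻¹) by simp only [commutatorElement_def]; group,
      Subgroup.mem_center_iff.1 (hc t w') (y w), mul_inv_cancel_right]
  have addL : ∀ t t' w, γ (t + t') w = γ t w * γ t' w := fun t t' w => by
    rw [← hγ (show p (x t * x t') = E QW c d (t + t') by rw [map_mul, hx, hx, E_add QW hcd]) (hy w),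
      show ⁅x t * x t', y w⁆ = x t * ⁅x t', y w⁆ * (x t)⁻¹ * ⁅x t, y w⁆ by simp only [commutatorElement_def]; group,
      Subgroup.mem_center_iff.1 (hc t' w) (x t), mul_inv_cancel_right]
    exact Subgroup.mem_center_iff.1 (hc t w) _
  obtain ⟨g0, k, R, hg0, hm, hcase⟩ := G.sep a c d hcd h1 h2
  obtain ⟨m, rfl⟩ : g0 ∈ p.range := by rw [hr]; exact hg0
  have inv : ∀ t w, γ (k c * k (ng d) * t) (k a • R w) = γ t w := fun t w => by
    rw [← hγ (g := m * x t * m⁻¹) (h := m * y w * m⁻¹)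
      (by rw [map_mul, map_mul, map_inv, hx, hm.conj_E hcd]; rfl)
      (by rw [map_mul, map_mul, map_inv, hy, hm.conj_S]; rfl),
      ← conjugate_commutatorElement, Subgroup.mem_center_iff.1 (hc t w) m, mul_inv_cancel_right]
  rw [← commutatorElement_eq_one_iff_commute, hγ hg hh]
  rcases hcase with ⟨hl, hinj⟩ | ⟨hid, hl⟩
  · let f : (κ → F) →ₗ[F] (κ → F) := k a • R - LinearMap.id
    have hf : Function.Injective f := by
      rw [← LinearMap.ker_eq_bot, Submodule.eq_bot_iff]
      intro v hv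
      exact hinj v (sub_eq_zero.1 hv)
    obtain ⟨v, rfl⟩ := LinearMap.injective_iff_surjective.1 hf w
    have e := inv t v
    rw [hl, one_mul] at e
    have e2 := addR t (f v) v
    rw [show f v + v = k a • R v by simp [f], e] at e2
    exact right_eq_mul.1 e2
  · set l := k c * k (ng d)
    have hl' : l - 1 ≠ 0 := sub_ne_zero.2 hl
    have e := inv ((l - 1)⁻¹ * t) w
    rw [hid] at e
    have e2 := addL t ((l - 1)⁻¹ * t) w
    rw [show t + (l - 1)⁻¹ * t = l * ((l - 1)⁻¹ * t) by field_simp; ring, e] at e2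
    exact right_eq_mul.1 e2

/-- A perfect central extension as a setting. -/
noncomputable def extOf (G : Good n QW) {M : Type u} [Group M] (p : M →* GL (J n κ) F)
    (hz : p.ker ≤ Subgroup.center M) (hr : p.range = Cfsg.Geo.omegaGL ⇑(qf n QW)) : Ext (n := n) QW M where
  p := p
  central := hz
  memE a b _ t := by rw [hr]; exact E_mem_omega QW G.hn G.hW a b t
  memS a w := by rw [hr]; exact S_mem_omega QW G.hn G.hW a w
  hn := G.hn
  hC _ _ _ hcd h1 h2 t w g h hg hh := commute_of_sep G hz hr hcd h1 h2 t w g h hg hh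
  hB := G.hB

theorem gen_of_perfect (G : Good n QW) {M : Type u} [Group M] (p : M →* GL (J n κ) F)
    (hz : p.ker ≤ Subgroup.center M) (hr : p.range = Cfsg.Geo.omegaGL ⇑(qf n QW))
    (hperf : _root_.commutator M = ⊤) :
    Subgroup.closure ({g | ∃ a b, lv a ≠ lv b ∧ ∃ t : F, g = (extOf G p hz hr).X a b t} ∪
      {g | ∃ a, ∃ w, g = (extOf G p hz hr).Y a w}) = ⊤ := by
  set C := Subgroup.closure ({g | ∃ a b, lv a ≠ lv b ∧ ∃ t : F, g = (extOf G p hz hr).X a b t} ∪
      {g | ∃ a, ∃ w, g = (extOf G p hz hr).Y a w})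
  have hmap : Cfsg.Geo.omegaGL ⇑(qf n QW) ≤ C.map p :=
    omega_le QW G.hn G.hW
      (fun a b h t => ⟨_, Subgroup.subset_closure (Or.inl ⟨a, b, h, t, rfl⟩), (extOf G p hz hr).p_X h t⟩)
      (fun a w => ⟨_, Subgroup.subset_closure (Or.inr ⟨a, w, rfl⟩), (extOf G p hz hr).p_Y a w⟩)
  rw [eq_top_iff, ← hperf, commutator_def, Subgroup.commutator_le]
  rintro a - b -
  obtain ⟨a', ha', ea⟩ := hmap (show p a ∈ _ by rw [← hr]; exact ⟨a, rfl⟩)
  obtain ⟨b', hb', eb⟩ := hmap (show p b ∈ _ by rw [← hr]; exact ⟨b, rfl⟩)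
  rw [Schur.commutator_congr hz ea.symm eb.symm, commutatorElement_def]
  exact mul_mem (mul_mem (mul_mem ha' hb') (inv_mem ha')) (inv_mem hb')

/-- **The kernel of a perfect central extension is small.** -/
theorem card_ker_le (G : Good n QW) {M : Type u} [Group M] [Finite M] (p : M →* GL (J n κ) F)
    (hz : p.ker ≤ Subgroup.center M) (hr : p.range = Cfsg.Geo.omegaGL ⇑(qf n QW))
    (hperf : _root_.commutator M = ⊤) : Nat.card p.ker ≤ Nat.card (powMonoidHom 2 : Fˣ →* Fˣ).ker := by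
  classical
  set D := extOf G p hz hr
  have hgen := gen_of_perfect G p hz hr hperf
  have hex : ∀ g : p.ker, ∃ q : Schur.OrthPlus.P F n,
      (q : Fˣ × Fˣ).1 = 1 ∧ (g : M) = D.L (Schur.OrthPlus.phi D.hn q) :=
    fun g => D.exists_of_mem_ker G.hA G.hrot hgen g.2
  choose q hq1 hq2 using hex
  refine Nat.card_le_card_of_injective
    (fun g => (⟨(q g : Fˣ × Fˣ).2, ?_⟩ : (powMonoidHom 2 : Fˣ →* Fˣ).ker)) fun g g' h => ?_
  · rw [MonoidHom.mem_ker, powMonoidHom_apply, (q g).2.2, hq1, one_pow]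
  · have h2 : (q g : Fˣ × Fˣ).2 = (q g' : Fˣ × Fˣ).2 := congrArg Subtype.val h
    have : q g = q g' := Subtype.ext (Prod.ext ((hq1 g).trans (hq1 g').symm) h2)
    exact Subtype.ext (by rw [hq2, hq2, this])

end Cfsg.Agent.Schur.OrthW
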