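import Cfsg.Agent.Lib.Schur.OrthW.Weyl
import Cfsg.Agent.Lib.RootBN.Setup

/-!
# The cells of a central extension

The lifted root subgroups satisfy the axioms of `RootBN`; hence the kernel is contained in `U H`.
-/

set_option autoImplicit false

namespace Cfsg.Agent.Schur.OrthW

open CurtisTits CurtisTits.DType
open Cfsg.Agent.MaxCl Cfsg.Agent.MaxCl.Orth
open scoped MatrixGroups commutatorElement

universe u

namespace Ext

variable {F : Type u} [Field F] {n : ℕ} {κ : Type} [Fintype κ] [DecidableEq κ]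
  {QW : QuadraticForm F (κ → F)} {M : Type u} [Group M] (D : Ext (n := n) QW M)

/-- The root subgroups. -/
def XR : Root n → Subgroup M
  | .inl r =>
    { carrier := Set.range (D.X r.1.1 r.1.2)
      one_mem' := ⟨0, D.X_zero r.ne⟩
      mul_mem' := by rintro _ _ ⟨t, rfl⟩ ⟨u, rfl⟩; exact ⟨t + u, D.X_add r.ne t u⟩
      inv_mem' := by rintro _ ⟨t, rfl⟩; exact ⟨-t, D.X_neg r.ne t⟩ }
  | .inr a =>
    { carrier := Set.range (D.Y a)
      one_mem' := ⟨0, D.Y_zero a⟩
      mul_mem' := by rintro _ _ ⟨t, rfl⟩ ⟨u, rfl⟩; exact ⟨t + u, D.Y_add a t u⟩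
      inv_mem' := by rintro _ ⟨t, rfl⟩; exact ⟨-t, D.Y_neg a t⟩ }

theorem X_mem_XR {a b : SIdx n} (h : lv a ≠ lv b) (t : F) : D.X a b t ∈ D.XR (.inl (canon a b h)) := by
  rcases canon_cases a b h with e | e <;> show _ ∈ Set.range _ <;> rw [e]
  · exact ⟨t, rfl⟩
  · exact ⟨-t, by rw [D.X_symm h, neg_neg]⟩

theorem Y_mem_XR (a : SIdx n) (w : κ → F) : D.Y a w ∈ D.XR (.inr a) := ⟨w, rfl⟩

/-- The representatives of the simple reflections. -/
noncomputable def nn (i : Fin n) : M :=
  if h : i.val + 1 < n then D.rels.w (Sum.inl i) (Sum.inl ⟨i.val + 1, h⟩) 1 else D.WY (Sum.inl i) D.w1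

/-- The representatives of all reflections. -/
noncomputable def nroot : Root n → M
  | .inl r => D.rels.w r.1.1 r.1.2 1
  | .inr a => D.WY a D.w1

variable (hA : ∀ w, QW w = 0 → w = 0)

include hA in
theorem Q_w1 : QW D.w1 ≠ 0 := fun e => by
  have := D.B_w12
  rw [hA _ e] at this
  simp [QuadraticMap.polar] at this

include hA in
theorem mono_nn (i : Fin n) : ∃ c R, IsMono QW (D.p (D.nn i)) (tau i) c R := by
  unfold nn
  split_ifs with h
  · rw [tau_long h]; exact ⟨_, _, D.mono_w' (node_ne h) one_ne_zero⟩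
  · rw [tau_short h]; exact ⟨_, _, D.mono_WY _ (D.Q_w1 hA)⟩

include D in
/-- Conjugation by monomial elements permutes the root subgroups. -/
theorem conj_XR {g : M} {σ : Equiv.Perm (SIdx n)} (hσ : Signed σ) {c : SIdx n → F}
    {R : (κ → F) →ₗ[F] (κ → F)} (hg : IsMono QW (D.p g) σ c R) (r : Root n) {y : M} (hy : y ∈ D.XR r) :
    g * y * g⁻¹ ∈ D.XR (mapR σ hσ r) := by
  rcases r with r | a <;> obtain ⟨t, rfl⟩ := hy
  · show g * D.X r.1.1 r.1.2 t * g⁻¹ ∈ D.XR (.inl _)
    rw [D.conj_X hg r.ne]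
    exact D.X_mem_XR _ _
  · show g * D.Y a t * g⁻¹ ∈ D.XR (.inr (σ a))
    rw [D.conj_Y hg]
    exact D.Y_mem_XR _ _

/-- The data. -/
noncomputable def data : RootBN.Data M (Root n) (Fin n) where
  X := D.XR
  H := D.H
  nn := D.nn
  nroot := D.nroot
  refl := reflR
  opp := oppR
  simp := simpB
  Pos := Pos

theorem X_le_grp {a b : SIdx n} (h : lv a ≠ lv b) (t : F) : D.X a b t ∈ D.data.grp :=
  RootBN.Data.X_le_grp (D := D.data) _ (D.X_mem_XR h t)

theorem Y_le_grp (a : SIdx n) (w : κ → F) : D.Y a w ∈ D.data.grp :=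
  RootBN.Data.X_le_grp (D := D.data) _ (D.Y_mem_XR a w)

theorem w_le_grp {a b : SIdx n} (h : lv a ≠ lv b) (t : F) : D.rels.w a b t ∈ D.data.grp :=
  mul_mem (mul_mem (D.X_le_grp h t) (D.X_le_grp h.symm _)) (D.X_le_grp h t)

theorem WY_le_grp (a : SIdx n) (u : κ → F) : D.WY a u ∈ D.data.grp :=
  mul_mem (mul_mem (D.Y_le_grp a u) (D.Y_le_grp _ _)) (D.Y_le_grp a u)

/-! ### The flag -/

/-- The flag `⟨e_0, …, e_{k-1}⟩`. -/
def flag (F : Type u) [Field F] (n : ℕ) (κ : Type) (k : ℕ) : Set (J n κ → F) :=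
  {x | (∀ i, x (.inl (.inr i)) = 0) ∧ (∀ j, x (.inr j) = 0) ∧ ∀ i : Fin n, k ≤ i.val → x (.inl (.inl i)) = 0}

/-- The stabiliser of the flag. -/
def UT : Subgroup (GL (J n κ) F) where
  carrier := {g | ∀ k x, x ∈ flag F n κ k → act g x ∈ flag F n κ k ∧ act g⁻¹ x ∈ flag F n κ k}
  one_mem' := fun k x hx => by simp only [inv_one, act_one]; exact ⟨hx, hx⟩
  mul_mem' := fun {a b} ha hb k x hx => by
    simp only [mul_inv_rev, act_mul]
    exact ⟨(ha k _ (hb k x hx).1).1, (hb k _ (ha k x hx).2).2⟩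
  inv_mem' := fun {a} ha k x hx => ⟨(ha k x hx).2, by rw [inv_inv]; exact (ha k x hx).1⟩

theorem E_mem_UT {i : Fin n} {b : SIdx n} (h : i < lv b) (t : F) :
    E QW (Sum.inl i) b t ∈ UT (n := n) (κ := κ) (F := F) := by
  have hne : lv (Sum.inl i : SIdx n) ≠ lv b := ne_of_lt h
  have key : ∀ t : F, ∀ k x, x ∈ flag F n κ k → act (E QW (Sum.inl i) b t) x ∈ flag F n κ k := by
    intro t k x hx
    obtain ⟨h1, h2, h3⟩ := hx
    have e : act (E QW (Sum.inl i) b t) x = x + (t * x (.inl b)) • e F κ (Sum.inl i) := by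
      rw [act_E QW hne, show x (.inl (ng (Sum.inl i))) = 0 from h1 i]; module
    rw [e]
    refine ⟨fun j => by simp [h1 j, e_inl], fun j => by simp [h2 j, e_inr], fun j hj => ?_⟩
    by_cases hij : j = i
    · subst hij
      rcases b with l | l
      · have hl : j.val < l.val := h
        simp [h3 j hj, h3 l (by omega)]
      · simp [h3 j hj, h1 l]
    · simp [h3 j hj, e_inl, hij]
  intro k x hx
  exact ⟨key t k x hx, by rw [← E_neg QW hne]; exact key (-t) k x hx⟩

theorem S_mem_UT (i : Fin n) (w : κ → F) : S QW (Sum.inl i) w ∈ UT (n := n) (κ := κ) (F := F) := by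
  have key : ∀ w : κ → F, ∀ k x, x ∈ flag F n κ k → act (S QW (Sum.inl i) w) x = x := by
    intro w k x hx
    obtain ⟨h1, h2, -⟩ := hx
    rw [act_S, show x (.inl (ng (Sum.inl i))) = 0 from h1 i, show (fun j => x (.inr j)) = 0 from funext h2,
      QuadraticMap.polar_zero_right]
    module
  intro k x hx
  exact ⟨by rw [key w k x hx]; exact hx, by rw [← S_neg QW, key (-w) k x hx]; exact hx⟩

theorem diag_mem_UT {g : GL (J n κ) F} {c : SIdx n → F} {R : (κ → F) →ₗ[F] (κ → F)}
    (hg : IsMono QW g 1 c R) : g ∈ UT (n := n) (κ := κ) (F := F) := by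
  have key : ∀ {g : GL (J n κ) F} {c : SIdx n → F} {R : (κ → F) →ₗ[F] (κ → F)}, IsMono QW g 1 c R →
      ∀ k x, x ∈ flag F n κ k → act g x ∈ flag F n κ k := by
    intro g c R hg k x hx
    obtain ⟨h1, h2, h3⟩ := hx
    have e : act g x = ∑ a, (x (.inl a) * c a) • e F κ a := by
      conv_lhs => rw [eq_sum x, show (fun j => x (.inr j)) = 0 from funext h2, wv_zero, add_zero]
      rw [map_sum]
      refine Finset.sum_congr rfl fun a _ => ?_
      rw [map_smul, hg.map_e, Equiv.Perm.one_apply, smul_smul]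
    rw [e]
    refine ⟨fun j => ?_, fun j => by simp [Finset.sum_apply, e_inr], fun j hj => ?_⟩
    · simp [Finset.sum_apply, e_inl, h1 j]
    · simp [Finset.sum_apply, e_inl, h3 j hj]
  intro k x hx
  obtain ⟨c', R', h'⟩ := hg.inv
  exact ⟨key hg k x hx, key h' k x hx⟩

theorem map_B_le : D.data.B.map D.p ≤ UT := by
  rw [RootBN.Data.B, Subgroup.map_sup, sup_le_iff]
  constructor
  · rw [RootBN.Data.U, Subgroup.map_iSup]
    refine iSup_le fun r => ?_
    rw [Subgroup.map_iSup]
    refine iSup_le fun hr => ?_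
    rintro _ ⟨_, hy, rfl⟩
    rcases r with ⟨⟨c, d⟩, h⟩ | a <;> obtain ⟨t, rfl⟩ := hy
    · obtain ⟨i, hi⟩ := hr
      change c = Sum.inl i at hi
      subst hi
      rw [D.p_X (ne_of_lt h)]
      exact E_mem_UT h t
    · obtain ⟨i, rfl⟩ := hr
      rw [D.p_Y]
      exact S_mem_UT i t
  · rintro _ ⟨h, hh, rfl⟩
    obtain ⟨c, R, hm⟩ := D.H_le_Diag hh
    exact diag_mem_UT hm

theorem neg_not_UT {r : Root n} (hr : ¬ Pos r) {y : M} (hy : y ∈ D.XR r) (hU : D.p y ∈ UT) : y = 1 := by
  rcases r with ⟨⟨c, d⟩, h⟩ | a <;> obtain ⟨t, rfl⟩ := hy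
  · rcases c with i | i
    · exact absurd ⟨i, rfl⟩ hr
    have hne : lv (Sum.inr i : SIdx n) ≠ lv d := ne_of_lt h
    have hne' : lv (ng d) ≠ lv (Sum.inl i : SIdx n) := by rw [lv_ng]; exact (ne_of_lt h).symm
    rw [D.p_X hne, show E QW (Sum.inr i) d t = E QW (ng d) (Sum.inl i) (-t) by
      have := E_symm QW hne (-t); rw [neg_neg] at this; exact this.symm] at hU
    have hx : e F κ (Sum.inl i : SIdx n) ∈ flag F n κ (i.val + 1) :=
      ⟨fun j => by simp [e_inl], fun j => rfl, fun j hj => by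
        simp only [e_inl, Sum.inl.injEq]; rw [if_neg]; intro e; subst e; omega⟩
    obtain ⟨h1, -, h3⟩ := (hU _ _ hx).1
    rw [act_E_e QW hne'] at h1 h3
    have hnd : ng d ≠ Sum.inl i := (DType.lv_ne.1 hne').1
    rcases d with j | j
    · have := h1 j
      simp [e_inl] at this
      show D.X _ _ t = 1
      rw [this, D.X_zero hne]
    · have hij : i.val < j.val := h
      have := h3 j (by omega)
      have hji : j ≠ i := fun e => by subst e; omega
      simp [e_inl, hji, hji.symm] at this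
      show D.X _ _ t = 1
      rw [this, D.X_zero hne]
  · rcases a with i | i
    · exact absurd ⟨i, rfl⟩ hr
    rw [D.p_Y] at hU
    have hx : e F κ (Sum.inl i : SIdx n) ∈ flag F n κ (i.val + 1) :=
      ⟨fun j => by simp [e_inl], fun j => rfl, fun j hj => by
        simp only [e_inl, Sum.inl.injEq]; rw [if_neg]; intro e; subst e; omega⟩
    obtain ⟨-, h2, -⟩ := (hU _ _ hx).1
    rw [show (Sum.inl i : SIdx n) = ng (Sum.inr i) from rfl, act_S_e] at h2
    show D.Y _ t = 1
    have ht : t = 0 := funext fun k => by simpa [e_inr, wv_inr] using h2 k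
    rw [ht, D.Y_zero]

/-! ### The axioms -/

theorem canon_inl_pos {i : Fin n} {b : SIdx n} (h : i < lv b) :
    Pos (.inl (canon (Sum.inl i) b (ne_of_lt h)) : Root n) := by
  refine ⟨i, ?_⟩
  rw [canon, dif_pos (show lv (Sum.inl i : SIdx n) < lv b from h)]

theorem simp_normal' (i : Fin n) (r : Root n) (hr : Pos r) (hne : r ≠ simpB i) {y z : M}
    (hy : y ∈ D.XR (simpB i)) (hz : z ∈ D.XR r) : y * z * y⁻¹ ∈ D.data.Urad i := by
  have hmemX : ∀ {a b : SIdx n} (h : lv a ≠ lv b), pos a < pos b → ∀ s,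
      Sum.inl (canon a b h) ≠ simpB i → D.X a b s ∈ D.data.Urad i := fun {a b} h hp s hs =>
    RootBN.Data.X_le_Urad (D := D.data) (r := .inl (canon a b h)) ((isPos_canon a b h).2 hp) hs (D.X_mem_XR h s)
  have hz' : z ∈ D.data.Urad i := RootBN.Data.X_le_Urad (D := D.data) hr hne hz
  by_cases hi : i.val + 1 < n
  · -- a long simple root
    have hy' : ∃ t, y = D.X (Sum.inl i) (Sum.inl ⟨i.val + 1, hi⟩) t := by
      rw [simpB, dif_pos hi] at hy
      obtain ⟨t, rfl⟩ := hy
      exact ⟨t, rfl⟩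
    obtain ⟨t, rfl⟩ := hy'
    set B : SIdx n := Sum.inl ⟨i.val + 1, hi⟩ with hB
    set A : SIdx n := Sum.inl i with hA
    have hAB : lv A ≠ lv B := node_ne hi
    have hpAB : pos A < pos B := by simp [A, B, pos]
    have hnew : ∀ p m q : SIdx n, ∀ _ : lv p ≠ lv q, lv m ≠ lv p → lv m ≠ lv q → pos p < pos m → pos m < pos q →
        ∀ s, D.X p q s ∈ D.data.Urad i := by
      intro p m q h h1 h2 h3 h4 s
      refine hmemX h (h3.trans h4) s fun e => ?_
      rw [simpB_long (by omega) hi] at e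
      exact canon_ne_simpR (by omega) i h h1 h2 h3 h4 (Sum.inl.inj e)
    rcases r with ⟨⟨c, d⟩, hcd⟩ | a
    · obtain ⟨u, rfl⟩ := hz
      obtain ⟨k, hk⟩ := hr
      change c = Sum.inl k at hk
      subst hk
      set c : SIdx n := Sum.inl k
      have hcd' : lv c ≠ lv d := ne_of_lt hcd
      have hposcd : pos c < pos d := (isPos_iff ⟨(c, d), hcd⟩).1 ⟨k, rfl⟩
      have hbc : ∀ {c d : SIdx n} (h' : lv c ≠ lv d), pos c < pos d → B = c → ∀ u, D.X c d u ∈ D.data.Urad i →
          D.X A B t * D.X c d u * (D.X A B t)⁻¹ ∈ D.data.Urad i := by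
        intro c d h' hcd e u hmem
        subst e
        by_cases had : lv A = lv d
        · rcases lv_eq.1 had with e | e
          · rw [← e] at hcd; omega
          · have e' : d = ng A := by rw [e, ng_ng]
            subst e'
            have hc : Commute (D.X A B t) (D.X B (ng A) u) := by
              have := D.lX_commute_two hAB t (-u) (D.p_X hAB t)
              rwa [← D.X_symm (show lv A ≠ lv (ng B) by rwa [lv_ng]), ng_ng] at this
            rw [hc.eq, mul_inv_cancel_right]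
            exact hmem
        · rw [D.X_chain hAB h' had, mul_inv_cancel_right]
          exact mul_mem (hnew A B d had hAB.symm h' hpAB hcd _) hmem
      have had : ∀ {c d : SIdx n} (h' : lv c ≠ lv d), pos c < pos d → A = d → ∀ u, D.X c d u ∈ D.data.Urad i →
          D.X A B t * D.X c d u * (D.X A B t)⁻¹ ∈ D.data.Urad i := by
        intro c d h' hcd e u hmem
        subst e
        by_cases hcb : lv c = lv B
        · rcases lv_eq.1 hcb with e | e
          · rw [e] at hcd; omega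
          · subst e
            have hc : Commute (D.X A B t) (D.X (ng B) A u) := by
              have hne : lv (ng B) ≠ lv (ng A) := by rw [lv_ng, lv_ng]; exact hAB.symm
              have := D.lX_commute_two hne (-t) u (D.p_X hne (-t))
              rwa [D.X_symm hAB, neg_neg, ng_ng] at this
            rw [hc.eq, mul_inv_cancel_right]
            exact hmem
        · have e := D.X_chain h' hAB hcb u t
          have e2 : D.X A B t * D.X c A u = (D.X c B (u * t))⁻¹ * D.X c A u * D.X A B t := by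
            rw [mul_assoc _ (D.X c A u), e]; group
          rw [e2, mul_inv_cancel_right]
          exact mul_mem (inv_mem (hnew c A B hcb h'.symm hAB hcd hpAB _)) hmem
      have hs : lv (ng d) ≠ lv (ng c) := by rw [lv_ng, lv_ng]; exact hcd'.symm
      have hsp : pos (ng d) < pos (ng c) := by have := pos_ng d; have := pos_ng c; omega
      have hsx : D.X c d u = D.X (ng d) (ng c) (-u) := by rw [D.X_symm hcd', neg_neg]
      show D.X A B t * D.X c d u * (D.X A B t)⁻¹ ∈ _
      by_cases e1 : B = c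
      · exact hbc hcd' hposcd e1 u hz'
      by_cases e2 : A = d
      · exact had hcd' hposcd e2 u hz'
      by_cases e3 : B = ng d
      · change D.X c d u ∈ _ at hz'
        rw [hsx] at hz' ⊢
        exact hbc hs hsp e3 _ hz'
      by_cases e4 : A = ng c
      · simp [A, c] at e4
      rw [(D.X_comm hAB hcd' e2 e1 e4 e3 t u).eq, mul_inv_cancel_right]
      exact hz'
    · obtain ⟨k, rfl⟩ := hr
      obtain ⟨w, rfl⟩ := hz
      show D.X A B t * D.Y (Sum.inl k) w * (D.X A B t)⁻¹ ∈ _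
      by_cases e1 : (Sum.inl k : SIdx n) = B
      · rw [e1, show D.X A B t * D.Y B w * (D.X A B t)⁻¹ = ⁅D.X A B t, D.Y B w⁆ * D.Y B w by
          rw [commutatorElement_def]; group, D.comm_XY hAB]
        refine mul_mem (mul_mem ?_ ?_) ?_
        · refine RootBN.Data.X_le_Urad (D := D.data) (r := .inr A) ⟨i, rfl⟩ ?_ (D.Y_mem_XR _ _)
          show (Sum.inr A : Root n) ≠ simpB i
          rw [simpB, dif_pos hi]; simp
        · refine hmemX (show lv A ≠ lv (ng B) by rwa [lv_ng]) (by simp [A, B, pos]; omega) _ fun e => ?_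
          rw [simpB, dif_pos hi, Sum.inl.injEq] at e
          have e2 := congrArg (fun r : DRoot n => r.1.2) e
          rw [canon, dif_pos (show lv A < lv (ng B) by rw [lv_ng, Fin.lt_def]; simp [A, B, lv])] at e2
          simp [B] at e2
        · rw [← e1]; exact hz'
      · rw [(D.X_commute_Y hAB e1 (by simp [A]) t w).eq, mul_inv_cancel_right]
        exact hz'
  · -- the short simple root
    have hy' : ∃ v, y = D.Y (Sum.inl i) v := by
      rw [simpB, dif_neg hi] at hy
      obtain ⟨v, rfl⟩ := hy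
      exact ⟨v, rfl⟩
    obtain ⟨v, rfl⟩ := hy'
    set A : SIdx n := Sum.inl i with hA
    rcases r with ⟨⟨c, d⟩, hcd⟩ | a
    · obtain ⟨u, rfl⟩ := hz
      obtain ⟨k, hk⟩ := hr
      change c = Sum.inl k at hk
      subst hk
      show D.Y A v * D.X (Sum.inl k) d u * (D.Y A v)⁻¹ ∈ _
      have hkd : lv (Sum.inl k : SIdx n) ≠ lv d := ne_of_lt hcd
      by_cases e1 : A = d
      · subst e1
        have hc : D.Y A v * D.X (Sum.inl k) A u * (D.Y A v)⁻¹ =
            ⁅D.X (Sum.inl k) A u, D.Y A v⁆⁻¹ * D.X (Sum.inl k) A u := by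
          rw [commutatorElement_def]; group
        rw [hc, D.comm_XY hkd]
        refine mul_mem (inv_mem (mul_mem ?_ ?_)) hz'
        · refine RootBN.Data.X_le_Urad (D := D.data) (r := .inr (Sum.inl k)) ⟨k, rfl⟩ ?_ (D.Y_mem_XR _ _)
          show (Sum.inr (Sum.inl k) : Root n) ≠ simpB i
          rw [simpB, dif_neg hi]
          simp only [ne_eq, Sum.inr.injEq]
          exact fun e => hkd (congrArg lv e)
        · refine hmemX (show lv (Sum.inl k : SIdx n) ≠ lv (ng A) by rwa [lv_ng]) ?_ _ ?_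
          · have := i.isLt; have := k.isLt; simp [A, pos]; omega
          · rw [simpB, dif_neg hi]; simp
      · rw [(D.X_commute_Y hkd e1 (by simp [A]) u v).symm.eq, mul_inv_cancel_right]
        exact hz'
    · obtain ⟨k, rfl⟩ := hr
      obtain ⟨w, rfl⟩ := hz
      show D.Y A v * D.Y (Sum.inl k) w * (D.Y A v)⁻¹ ∈ _
      by_cases hki : k = i
      · subst hki
        exact absurd (by rw [simpB, dif_neg hi]) hne
      have hne' : lv A ≠ lv (Sum.inl k : SIdx n) := Ne.symm hki
      rw [show D.Y A v * D.Y (Sum.inl k) w * (D.Y A v)⁻¹ = ⁅D.Y A v, D.Y (Sum.inl k) w⁆ * D.Y (Sum.inl k) w by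
        rw [commutatorElement_def]; group, D.comm_YY hne']
      refine mul_mem (hmemX (show lv A ≠ lv (ng (Sum.inl k) : SIdx n) by rwa [lv_ng]) ?_ _ ?_) hz'
      · have := i.isLt; have := k.isLt; simp [A, pos]; omega
      · rw [simpB, dif_neg hi]; simp

include hA in
/-- The axioms hold. -/
theorem axioms : D.data.Axioms where
  pos_opp := pos_oppR
  opp_opp := oppR_oppR
  pos_simp := pos_simpB
  refl_simp := reflR_simpB
  refl_opp i r := oppR_mapR (tau i) (signed_tau i) r
  refl_refl := reflR_reflR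
  refl_pos i r hr hne := reflR_pos (by have := D.hn; omega) i r hr hne
  simp_inj := simpB_injective
  reach := reach
  X_inj r s hrs := by
    change D.XR r = D.XR s at hrs
    rcases r with r | a <;> rcases s with s | b
    · have hmem : D.X r.1.1 r.1.2 1 ∈ D.XR (.inl r) := ⟨1, rfl⟩
      rw [hrs] at hmem
      obtain ⟨t, ht⟩ := hmem
      have e := congrArg D.p ht
      rw [D.p_X s.ne, D.p_X r.ne] at e
      have := congrFun (congrArg (fun g => act g (OrthW.e F κ r.1.2)) e) (.inl r.1.1)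
      rw [act_E QW s.ne, act_E_e QW r.ne] at this
      by_contra hne
      simp only [Pi.add_apply, Pi.sub_apply, Pi.smul_apply, e_inl, smul_eq_mul, if_pos, one_mul,
        (DType.lv_ne.1 r.ne).1, if_false, zero_add] at this
      have z1 : t * (if s.1.2 = r.1.2 then (1 : F) else 0) * (if r.1.1 = s.1.1 then 1 else 0) = 0 := by
        split_ifs with h5 h4
        · exact absurd (congrArg Sum.inl (Subtype.ext (Prod.ext h4 h5.symm))) hne
        all_goals simp
      have z2 : t * (if ng s.1.1 = r.1.2 then (1 : F) else 0) * (if r.1.1 = ng s.1.2 then 1 else 0) = 0 := by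
        split_ifs with h5 h4
        · have h3 := r.2
          rw [h4, ← h5, lv_ng, lv_ng] at h3
          exact absurd s.2 (lt_asymm h3)
        all_goals simp
      rw [z1, z2] at this
      simp at this
    · exfalso
      have hmem : D.X r.1.1 r.1.2 1 ∈ D.XR (.inl r) := ⟨1, rfl⟩
      rw [hrs] at hmem
      obtain ⟨w, hw⟩ := hmem
      have e := congrArg D.p hw
      rw [D.p_Y, D.p_X r.ne] at e
      have := congrFun (congrArg (fun g => act g (OrthW.e F κ (ng b))) e)
      have hw0 : w = 0 := funext fun k => by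
        have h' := this (.inr k)
        rw [act_S_e, act_E QW r.ne] at h'
        simpa [e_inr, wv_inr] using h'
      rw [hw0, S_zero, ← E_zero QW (a := r.1.1) (b := r.1.2)] at e
      exact zero_ne_one (E_inj QW r.ne e)
    · exfalso
      have hmem : D.Y a D.w1 ∈ D.XR (.inr a) := ⟨_, rfl⟩
      rw [hrs] at hmem
      obtain ⟨t, ht⟩ := hmem
      have e := congrArg D.p ht
      rw [D.p_Y, D.p_X s.ne] at e
      have hw0 : D.w1 = 0 := funext fun k => by
        have h' := congrFun (congrArg (fun g => act g (OrthW.e F κ (ng a))) e) (.inr k)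
        rw [act_S_e, act_E QW s.ne] at h'
        simpa [e_inr, wv_inr, eq_comm] using h'
      exact D.Q_w1 hA (by rw [hw0, QuadraticMap.map_zero])
    · have hmem : D.Y a D.w1 ∈ D.XR (.inr a) := ⟨_, rfl⟩
      rw [hrs] at hmem
      obtain ⟨w, hw⟩ := hmem
      have e := congrArg D.p hw
      rw [D.p_Y, D.p_Y] at e
      by_contra hne
      refine D.Q_w1 hA ?_
      have hw0 : D.w1 = 0 := funext fun k => by
        have h' := congrFun (congrArg (fun g => act g (OrthW.e F κ (ng a))) e) (.inr k)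
        rw [act_S_e, act_S_e_fix QW w (fun e => hne (congrArg Sum.inr (ng_inj.1 e)))] at h'
        simpa [e_inr, wv_inr, eq_comm] using h'
      rw [hw0, QuadraticMap.map_zero]
  X_ne_bot r h := by
    change D.XR r = ⊥ at h
    rcases r with r | a
    · have : D.X r.1.1 r.1.2 1 ∈ D.XR (.inl r) := ⟨1, rfl⟩
      rw [h, Subgroup.mem_bot] at this
      have e := congrArg D.p this
      rw [D.p_X r.ne, map_one, ← E_zero QW (a := r.1.1) (b := r.1.2)] at e
      exact one_ne_zero (E_inj QW r.ne e)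
    · have : D.Y a D.w1 ∈ D.XR (.inr a) := ⟨_, rfl⟩
      rw [h, Subgroup.mem_bot] at this
      have e := congrArg D.p this
      rw [D.p_Y, map_one, ← S_zero QW a] at e
      exact D.Q_w1 hA (by rw [S_inj QW e, QuadraticMap.map_zero])
  H_le := by
    show D.H ≤ _
    rw [H, Subgroup.closure_le]
    rintro _ (⟨a, b, h, t, u, -, -, rfl⟩ | ⟨a, v, v', -, -, rfl⟩)
    · exact mul_mem (D.w_le_grp h t) (D.w_le_grp h u)
    · exact mul_mem (D.WY_le_grp a v) (D.WY_le_grp a v')
  nn_mem i := by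
    show D.nn i ∈ _
    unfold nn
    split_ifs with h
    · exact D.w_le_grp (node_ne h) 1
    · exact D.WY_le_grp _ _
  conj_X i r y hy := by
    obtain ⟨c, R, hm⟩ := D.mono_nn hA i
    exact D.conj_XR (signed_tau i) hm r hy
  H_conj r h hh y hy := by
    obtain ⟨c, R, hm⟩ := D.H_le_Diag hh
    have := D.conj_XR (σ := 1) (fun _ => rfl) hm r hy
    have e : mapR 1 (fun _ => rfl) r = r := by
      rcases r with r | a
      · exact congrArg Sum.inl (canon_val r)
      · rfl
    rwa [e] at this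
  nn_H i h hh := by
    obtain ⟨c, R, hm⟩ := D.mono_nn hA i
    exact D.conj_H hm hh
  nn_sq i := by
    show D.nn i * D.nn i ∈ D.H
    unfold nn
    split_ifs with h
    · exact D.ww_mem_H (node_ne h) one_ne_zero one_ne_zero
    · exact D.YY_mem_H _ (D.Q_w1 hA) (D.Q_w1 hA)
  nroot_simp i := by
    show D.nroot (simpB i) = D.nn i
    unfold nn simpB
    split_ifs with h <;> rfl
  conj_nroot i r := by
    obtain ⟨c, R, hm⟩ := D.mono_nn hA i
    show ∃ h ∈ D.H, D.nn i * D.nroot r * (D.nn i)⁻¹ = h * D.nroot (mapR (tau i) (signed_tau i) r)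
    have hc0 : ∀ a, c a ≠ 0 := fun a => left_ne_zero_of_mul (by rw [(hm.c_mul a).2]; exact one_ne_zero)
    rcases r with r | a
    · show ∃ h ∈ D.H, _ * D.rels.w r.1.1 r.1.2 1 * _ = h * _
      rw [D.conj_w hm r.ne]
      set s := c r.1.1 * c (ng r.1.2) * 1 with hs
      have hs0 : s ≠ 0 := mul_ne_zero (mul_ne_zero (hc0 _) (hc0 _)) one_ne_zero
      have hlv := (signed_tau i).lv_ne r.ne
      set q := canon (tau i r.1.1) (tau i r.1.2) hlv with hq
      show ∃ h ∈ D.H, _ = h * D.rels.w q.1.1 q.1.2 1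
      have key : ∀ z : F, z ≠ 0 → D.rels.w q.1.1 q.1.2 z * D.rels.w q.1.1 q.1.2 (-1) ∈ D.H := fun z hz =>
        D.ww_mem_H q.ne hz (neg_ne_zero.2 one_ne_zero)
      rcases canon_cases (tau i r.1.1) (tau i r.1.2) hlv with e | e <;> rw [← hq] at e
      · refine ⟨_, key s hs0, ?_⟩
        rw [D.rels.w_neg q.ne, inv_mul_cancel_right, e]
      · refine ⟨_, key (-s) (neg_ne_zero.2 hs0), ?_⟩
        rw [D.rels.w_neg q.ne (1 : F), inv_mul_cancel_right, e, D.w_symm hlv, neg_neg]
    · show ∃ h ∈ D.H, _ * D.WY a D.w1 * _ = h * D.WY (tau i a) D.w1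
      rw [D.conj_WY hm]
      refine ⟨D.WY (tau i a) (c a • R D.w1) * D.WY (tau i a) (-D.w1), D.YY_mem_H _ ?_ ?_, ?_⟩
      · rw [QuadraticMap.map_smul, smul_eq_mul, hm.Q_map]
        exact mul_ne_zero (mul_ne_zero (hc0 _) (hc0 _)) (D.Q_w1 hA)
      · rw [QuadraticMap.map_neg]; exact D.Q_w1 hA
      · rw [D.WY_neg, inv_mul_cancel_right]
  simp_normal i r hr hne y hy z hz := D.simp_normal' i r hr hne hy hz
  rank_one i y hy hy1 := by
    change y ∈ D.XR (oppR (simpB i)) at hy
    show ∃ a ∈ D.XR (simpB i), ∃ h ∈ D.H, ∃ b ∈ D.XR (simpB i), y = a * h * D.nn i * b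
    by_cases hi : i.val + 1 < n
    · rw [nn, dif_pos hi]
      rw [simpB, dif_pos hi] at hy ⊢
      set A : SIdx n := Sum.inl i
      set B : SIdx n := Sum.inl ⟨i.val + 1, hi⟩
      have hAB : lv A ≠ lv B := node_ne hi
      obtain ⟨u, rfl⟩ : ∃ u, y = D.X B A u := by
        obtain ⟨u, rfl⟩ := hy
        refine ⟨-u, ?_⟩
        show D.X (ng A) (ng B) u = _
        rw [D.X_symm hAB.symm]
      have hu : u ≠ 0 := fun e => hy1 (by rw [e, D.X_zero hAB.symm])
      have ht : -u⁻¹ ≠ (0 : F) := neg_ne_zero.2 (inv_ne_zero hu)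
      have hX : ∀ t, D.X A B t ∈ D.XR (.inl ⟨(A, B), by simp [A, B, lv, Fin.lt_def]⟩) := fun t => ⟨t, rfl⟩
      refine ⟨D.X A B (-(-u⁻¹)), hX _, D.rels.w A B (-u⁻¹) * D.rels.w A B (-1),
        D.ww_mem_H hAB ht (neg_ne_zero.2 one_ne_zero), D.X A B (-(-u⁻¹)), hX _, ?_⟩
      rw [D.rels.w_neg hAB (1 : F), ← mul_assoc (D.X _ _ _) (D.rels.w _ _ _), inv_mul_cancel_right]
      show _ = _ * (D.X A B _ * D.X B A _ * D.X A B _) * _
      rw [inv_neg, inv_inv, neg_neg, D.X_neg hAB, neg_neg]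
      group
    · rw [nn, dif_neg hi]
      rw [simpB, dif_neg hi] at hy ⊢
      obtain ⟨v, rfl⟩ := hy
      change D.Y (ng (Sum.inl i)) v ≠ 1 at hy1
      have hv : QW v ≠ 0 := fun e => hy1 (by rw [hA v e, D.Y_zero])
      set u := (QW v)⁻¹ • v
      have hQu : QW u = (QW v)⁻¹ := by
        rw [QuadraticMap.map_smul, smul_eq_mul, mul_assoc, inv_mul_cancel₀ hv, mul_one]
      have hu : QW u ≠ 0 := by rw [hQu]; exact inv_ne_zero hv
      refine ⟨D.Y (Sum.inl i) (-u), ⟨_, rfl⟩, D.WY (Sum.inl i) u * D.WY (Sum.inl i) (-D.w1),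
        D.YY_mem_H _ hu (by rw [QuadraticMap.map_neg]; exact D.Q_w1 hA), D.Y (Sum.inl i) (-u), ⟨_, rfl⟩, ?_⟩
      rw [D.WY_neg, ← mul_assoc (D.Y _ _) (D.WY _ _), inv_mul_cancel_right, WY, hQu, inv_inv, smul_smul,
        mul_inv_cancel₀ hv, one_smul, D.Y_neg]
      show D.Y (ng (Sum.inl i)) v = _
      group
  neg_not_mem r hr := by
    rw [Subgroup.eq_bot_iff_forall]
    rintro y ⟨hy, hyB⟩
    exact D.neg_not_UT hr hy (D.map_B_le ⟨_, hyB, rfl⟩)

end Ext

end Cfsg.Agent.Schur.OrthW
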