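import Cfsg.Agent.Lib.Schur.OrthW.Main

/-!
# The centre of the spin cover
-/

set_option autoImplicit false

namespace Cfsg.Agent.Schur.OrthW

open CurtisTits CurtisTits.DType
open Cfsg.Agent.MaxCl Cfsg.Agent.MaxCl.Orth
open scoped MatrixGroups commutatorElement

universe u

variable {F : Type u} [Field F] [Finite F] {n : ℕ} {κ : Type} [Fintype κ] [DecidableEq κ]
  {QW : QuadraticForm F (κ → F)}

theorem mem_center_of_scalar (G : Good n QW) {z : Sig n QW} {l : F} (h : ∀ x, act (prS QW z) x = l • x) :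
    z ∈ Subgroup.center (Sig n QW) := by
  refine central_of_perfect (commutator_Sig QW G.hn G.hW)
    ((QuotientGroup.mk' (Subgroup.center (GL (J n κ) F))).comp (prS QW)) (fun k hk g => ker_prS QW ?_) ?_
  · rw [MonoidHom.mem_ker, MonoidHom.comp_apply, QuotientGroup.mk'_apply, QuotientGroup.eq_one_iff] at hk
    rw [MonoidHom.mem_ker, map_commutatorElement, commutatorElement_eq_one_iff_commute]
    exact (Subgroup.mem_center_iff.1 hk _).symm
  · rw [MonoidHom.mem_ker, MonoidHom.comp_apply, QuotientGroup.mk'_apply, QuotientGroup.eq_one_iff,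
      Subgroup.mem_center_iff]
    intro g
    exact gl_ext fun x => by rw [act_mul, act_mul, h, h, map_smul]

theorem center_eq_ker (G : Good n QW)
    (h : ∀ z : Sig n QW, (∀ x, act (prS QW z) x = (-1 : F) • x) → False) :
    Subgroup.center (Sig n QW) = (prS (n := n) QW).ker := by
  refine le_antisymm (fun z hz => ?_) (ker_prS QW)
  obtain ⟨l, hl, hx⟩ := scalar_of_center G hz
  rcases sq_eq_one_iff.1 hl with rfl | rfl
  · exact MonoidHom.mem_ker.2 (gl_ext fun x => by rw [hx, one_smul, act_one])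
  · exact (h z hx).elim

omit [Finite F] in
theorem card_roots_two (h2 : (2 : F) ≠ 0) [Finite F] : Nat.card (powMonoidHom 2 : Fˣ →* Fˣ).ker = 2 := by
  refine le_antisymm card_roots_le ?_
  have hm : (-1 : Fˣ) ∈ (powMonoidHom 2 : Fˣ →* Fˣ).ker := by
    rw [MonoidHom.mem_ker, powMonoidHom_apply, neg_one_sq]
  have : Nontrivial (powMonoidHom 2 : Fˣ →* Fˣ).ker := by
    refine ⟨⟨⟨-1, hm⟩, 1, fun e => h2 ?_⟩⟩
    have e' := congrArg (fun s : (powMonoidHom 2 : Fˣ →* Fˣ).ker => ((s : Fˣ) : F)) e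
    simp only [Units.val_neg, OneMemClass.coe_one, Units.val_one] at e'
    linear_combination (-1 : F) * e'
  exact Finite.one_lt_card

theorem card_ker_two (G : Good n QW) (h2 : (2 : F) ≠ 0) : Nat.card (prS (n := n) QW).ker = 2 := by
  rw [card_ker_prS G, card_roots_two h2]

/-- The multiplier when `-1` is not in `Ω`. -/
theorem hasMult_two (G : Good n QW) (h2 : (2 : F) ≠ 0)
    (h : ∀ z : Sig n QW, (∀ x, act (prS QW z) x = (-1 : F) • x) → False) :
    Cfsg.HasCyclicSchurMultiplier (Cfsg.POmega F ⇑(qf n QW)) 2 := by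
  have hc : Nat.card (Subgroup.center (Sig n QW)) = 2 := by rw [center_eq_ker G h, card_ker_two G h2]
  have := fact_iff.2 Nat.prime_two
  have hcy : IsCyclic (Subgroup.center (Sig n QW)) := isCyclic_of_prime_card hc
  have e := (zmodCyclicMulEquiv hcy).symm
  rw [hc] at e
  exact hasSchurMultiplier G e

/-- The multiplier in characteristic two. -/
theorem hasMult_one (G : Good n QW) (h2 : (2 : F) = 0) :
    Cfsg.HasCyclicSchurMultiplier (Cfsg.POmega F ⇑(qf n QW)) 1 := by
  have hroots : Nat.card (powMonoidHom 2 : Fˣ →* Fˣ).ker = 1 := by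
    rw [Nat.card_eq_one_iff_unique]
    refine ⟨⟨fun s t => ?_⟩, inferInstance⟩
    have key : ∀ a : (powMonoidHom 2 : Fˣ →* Fˣ).ker, ((a : Fˣ) : F) = 1 := fun a => by
      have h := a.2
      rw [MonoidHom.mem_ker, powMonoidHom_apply] at h
      have h' : ((a : Fˣ) : F) ^ 2 = 1 := by rw [← Units.val_pow_eq_pow_val, h, Units.val_one]
      rcases sq_eq_one_iff.1 h' with h'' | h''
      · exact h''
      · linear_combination h'' - h2
    exact Subtype.ext (Units.ext ((key s).trans (key t).symm))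
  have hc : Nat.card (Subgroup.center (Sig n QW)) = 1 := by
    rw [show Subgroup.center (Sig n QW) = (prS (n := n) QW).ker from ?_, card_ker_prS G, hroots]
    refine le_antisymm (fun z hz => ?_) (ker_prS QW)
    obtain ⟨l, hl, hx⟩ := scalar_of_center G hz
    have hl1 : l = 1 := by
      rcases sq_eq_one_iff.1 hl with h | h
      · exact h
      · linear_combination h - h2
    exact MonoidHom.mem_ker.2 (gl_ext fun x => by rw [hx, hl1, one_smul, act_one])
  have : Subsingleton (Subgroup.center (Sig n QW)) := (Nat.card_eq_one_iff_unique.1 hc).1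
  have e := (zmodCyclicMulEquiv (isCyclic_of_subsingleton (α := Subgroup.center (Sig n QW)))).symm
  rw [hc] at e
  exact hasSchurMultiplier G e

theorem det_prS (G : Good n QW) (z : Sig n QW) : Matrix.GeneralLinearGroup.det (prS QW z) = 1 := by
  have h := Abelianization.commutator_subset_ker (Matrix.GeneralLinearGroup.det.comp (prS (n := n) QW))
  rw [commutator_Sig QW G.hn G.hW] at h
  exact MonoidHom.mem_ker.1 (h (Subgroup.mem_top z))

/-- No element of `Ω` acts as `-1` in odd dimension. -/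
theorem not_neg_one_of_odd (G : Good n QW) (h2 : (2 : F) ≠ 0) (hodd : Odd (Fintype.card (J n κ))) (z : Sig n QW)
    (h : ∀ x, act (prS QW z) x = (-1 : F) • x) : False := by
  have hM : ((prS QW z : GL (J n κ) F) : Matrix (J n κ) (J n κ) F) = -1 := by
    refine Matrix.toLin'.injective (LinearMap.ext fun x => ?_)
    rw [map_neg, Matrix.toLin'_one]
    simp only [Matrix.toLin'_apply, LinearMap.neg_apply, LinearMap.id_apply]
    have := h x
    rw [neg_one_smul] at this
    exact this
  have hd := congrArg (fun d : Fˣ => (d : F)) (det_prS G z)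
  simp only [Matrix.GeneralLinearGroup.val_det_apply, hM, Matrix.det_neg, Matrix.det_one, mul_one,
    hodd.neg_one_pow, Units.val_one] at hd
  exact h2 (by linear_combination (-1 : F) * hd)

/-! ### `-1` in `Ω` -/

omit [Finite F] in
theorem act_theta_tau [Finite F] (hn : 3 ≤ n) (v : Fin n → Fˣ) (a : SIdx n) :
    act (Schur.OrthPlus.theta F n (Schur.OrthPlus.tau hn v)) (DModel.ev a) =
      Schur.OrthPlus.cv hn v a • DModel.ev a := by
  funext p
  have := Schur.OrthPlus.mono_tau hn v (DModel.ev a) p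
  rw [Equiv.Perm.one_apply] at this
  rw [this, Pi.smul_apply, smul_eq_mul, DModel.ev_apply]
  split_ifs with hp
  · rw [hp]
  · rw [mul_zero, mul_zero]

omit [Finite F] in
theorem prod_cpos (hn : 3 ≤ n) (v : Fin n → Fˣ) :
    ∏ i, Schur.OrthPlus.cpos hn v i = v (Schur.OrthPlus.i0 hn) ^ 2 := by
  have e : ∀ i, Schur.OrthPlus.cpos hn v i = (v i)⁻¹ *
      ((if i = Schur.OrthPlus.i0 hn then (∏ k, v k) * v i else 1) *
        if i = Schur.OrthPlus.i1 hn then v (Schur.OrthPlus.i0 hn) else 1) := by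
    intro i
    have h01 := Schur.OrthPlus.i0_ne_i1 hn
    unfold Schur.OrthPlus.cpos
    by_cases h0 : i = Schur.OrthPlus.i0 hn
    · subst h0
      rw [if_pos rfl, if_pos rfl, if_neg h01, mul_one, mul_comm (∏ k, v k), inv_mul_cancel_left]
    · rw [if_neg h0, if_neg h0, one_mul]
  rw [Finset.prod_congr rfl fun i _ => e i, Finset.prod_mul_distrib, Finset.prod_mul_distrib, Finset.prod_inv_distrib,
    Finset.prod_ite_eq' Finset.univ, Finset.prod_ite_eq' Finset.univ, if_pos (Finset.mem_univ _),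
    if_pos (Finset.mem_univ _), mul_assoc, inv_mul_cancel_left, pow_two]

/-- If `-1` is in `Ω` then `(-1) ^ (n + 1)` is no square. -/
theorem not_isSquare_of_neg_one (G : Good n QW) (h2 : (2 : F) ≠ 0) (z : Sig n QW)
    (h : ∀ x, act (prS QW z) x = (-1 : F) • x) : ¬ IsSquare ((-1 : F) ^ (n + 1)) := by
  rintro ⟨r, hr⟩
  let D := extOf G (prS (n := n) QW) (ker_prS QW) (range_prS QW G.hn G.hW)
  have hiso : prS QW z ∈ isometryGroup F (qf n QW) := omega_le_iso (prS_mem G z)
  have hd : z ∈ D.Diag := ⟨fun _ => -1, -LinearMap.id, hiso, fun a => h _, fun w => by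
    show act (prS QW z) (wv n w) = _
    rw [h, neg_one_smul, LinearMap.neg_apply, LinearMap.id_apply, wv_neg]⟩
  have := finite_Sig QW G.hn G.hW
  obtain ⟨h1, x, hu, hx⟩ := D.exists_cls_of_diag G.hA G.hrot
    (gen_of_perfect G _ _ _ (commutator_Sig QW G.hn G.hW)) hd
  rw [Ext.cls, Ext.mkA, Ext.mkA, QuotientGroup.eq, Subgroup.mem_subgroupOf] at hx
  change z⁻¹ * (D.WY (Ext.a0 D.hn) x.1 * D.WY (Ext.a0 D.hn) (-D.w1)) ∈ D.TD at hx
  obtain ⟨v, hv⟩ := D.TD_le_range hx
  rw [MonoidHom.comp_apply, eq_inv_mul_iff_mul_eq] at hv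
  have hqx := Ext.Q_ne G.hA x.2
  have hqu : QW (-D.w1) ≠ 0 := by rw [QuadraticMap.map_neg]; exact Ext.Q_ne G.hA hu
  have hm := (D.mono_WY (Ext.a0 D.hn) hqx).mul (D.mono_WY (Ext.a0 D.hn) hqu)
  rw [Equiv.swap_mul_self, ← map_mul, ← hv] at hm
  set k : SIdx n → F := fun p => wSc (Ext.a0 D.hn) (QW x.1) (Equiv.swap (Ext.a0 D.hn) (ng (Ext.a0 D.hn)) p) *
    wSc (Ext.a0 D.hn) (QW (-D.w1)) p
  have hk : ∀ a, k a = -Schur.OrthPlus.cv D.hn v a := fun a => by
    have eq1 := hm.map_e a
    rw [Equiv.Perm.one_apply, map_mul, act_mul,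
      show e F κ a = ext0 κ (DModel.ev a) from rfl, (D.act_L _).1, act_theta_tau] at eq1
    have e' := congrFun eq1 (.inl a)
    rw [show D.p z = prS QW z from rfl, h, Pi.smul_apply, ext0_inl, Pi.smul_apply, Pi.smul_apply, ext0_inl,
      DModel.ev_apply, if_pos rfl] at e'
    simp only [smul_eq_mul, mul_one, neg_one_mul] at e'
    exact e'.symm
  have hR : ∀ w, rW QW x.1 (rW QW (-D.w1) w) = -w := fun w => by
    have e := hm.map_wv w
    rw [map_mul, act_mul, (D.act_L _).2, show D.p z = prS QW z from rfl, h] at e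
    funext q
    have e' := congrFun e (.inr q)
    rw [Pi.smul_apply, wv_inr, wv_inr, smul_eq_mul, neg_one_mul] at e'
    rw [Pi.neg_apply]
    exact e'.symm
  have hB : QuadraticMap.polar (⇑QW) x.1 D.w1 = 0 := by
    have e := hR (-D.w1)
    rw [rW_self QW hqu, neg_neg, rW_apply, sub_eq_self] at e
    rcases smul_eq_zero.1 e with e | e
    · exact (mul_eq_zero.1 e).resolve_left (inv_ne_zero hqx)
    · exact (x.2 e).elim
  -- the product of the characters
  set i0 : Fin n := ⟨0, by have := D.hn; omega⟩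
  have ha : Ext.a0 D.hn = (Sum.inl i0 : SIdx n) := rfl
  have hk0 : k (Sum.inl i0) = QW x.1 / QW D.w1 := by
    simp only [k, ha, Equiv.swap_apply_left, wSc, if_pos, if_neg (ng_ne (Sum.inl i0 : SIdx n)), QuadraticMap.map_neg]
    field_simp
  have hk1 : ∀ i, i ≠ i0 → k (Sum.inl i) = 1 := fun i hi => by
    have n1 : (Sum.inl i : SIdx n) ≠ Sum.inl i0 := fun e => hi (Sum.inl_injective e)
    have n2 : (Sum.inl i : SIdx n) ≠ ng (Sum.inl i0) := by simp [ng]
    simp only [k, ha, Equiv.swap_apply_of_ne_of_ne n1 n2, wSc, if_neg n1, if_neg n2, mul_one]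
  have hprod : ∏ i, k (Sum.inl i) = QW x.1 / QW D.w1 := by
    rw [Finset.prod_eq_single i0 (fun i _ hi => hk1 i hi) (fun hi => (hi (Finset.mem_univ _)).elim), hk0]
  have hprod2 : ∏ i, k (Sum.inl i) = (-1 : F) ^ n * (v (Schur.OrthPlus.i0 D.hn) : F) ^ 2 := by
    rw [← Units.val_pow_eq_pow_val, ← prod_cpos, Units.coe_prod]
    have : ∀ i, k (Sum.inl i) = -1 * (Schur.OrthPlus.cpos D.hn v i : F) := fun i => by
      rw [hk, neg_one_mul]; rfl
    rw [Finset.prod_congr rfl fun i _ => this i, Finset.prod_mul_distrib, Finset.prod_const, Finset.card_univ,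
      Fintype.card_fin]
  rw [hprod, div_eq_iff (Ext.Q_ne G.hA hu)] at hprod2
  set s := r * (v (Schur.OrthPlus.i0 D.hn) : F) with hs
  have hr1 : (-1 : F) ^ n = -(r * r) := by rw [← hr, pow_succ]; ring
  have hq : QW (x.1 + s • D.w1) = 0 := by
    rw [QuadraticMap.map_add QW x.1, QuadraticMap.map_smul, QuadraticMap.polar_smul_right, hB, smul_zero,
      add_zero, smul_eq_mul, hprod2, hr1, hs]
    ring
  have hxs := eq_neg_of_add_eq_zero_left (G.hA _ hq)
  rw [hxs, QuadraticMap.polar_neg_left, QuadraticMap.polar_smul_left, QuadraticMap.polar_self, two_nsmul, ← two_mul,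
    neg_eq_zero, smul_eq_mul] at hB
  rcases mul_eq_zero.1 hB with hs0 | hB
  · rcases mul_eq_zero.1 hs0 with hr0 | hv0
    · rw [hr0, mul_zero, neg_zero] at hr1
      exact pow_ne_zero n (neg_ne_zero.2 one_ne_zero) hr1
    · exact Units.ne_zero _ hv0
  · exact mul_ne_zero h2 (Ext.Q_ne G.hA hu) hB

/-- The Clifford part of the cover. -/
noncomputable def uS : Sig n QW →* (Cl n QW)ˣ :=
  (MonoidHom.fst _ _).comp ((pairs n QW).subtype.comp (Sig n QW).subtype)

omit [Finite F] in
theorem conj_sgU {ug : (Cl n QW)ˣ × GL (J n κ) F} (hug : ug ∈ pairs n QW) {u w u' w' : J n κ → F}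
    (hu : qf n QW u = 0) (hb : QuadraticMap.polar (⇑(qf n QW)) u w = 0)
    (hu' : qf n QW u' = 0) (hb' : QuadraticMap.polar (⇑(qf n QW)) u' w' = 0)
    (h : CliffordAlgebra.ι (qf n QW) u' * CliffordAlgebra.ι _ w' =
      CliffordAlgebra.ι _ (act ug.2 u) * CliffordAlgebra.ι _ (act ug.2 w)) :
    ug.1 * sgU QW u w * ug.1⁻¹ = sgU QW u' w' := by
  rw [mul_inv_eq_iff_eq_mul]
  refine Units.ext ?_
  rw [Units.val_mul, Units.val_mul, sgU_val QW hu hb, sgU_val QW hu' hb', h, mul_sub, sub_mul, mul_one, one_mul,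
    ← mul_assoc, hug.2, mul_assoc, hug.2, ← mul_assoc]

theorem uS_Y (G : Good n QW) (h2 : (2 : F) ≠ 0) (a : SIdx n) (w : κ → F) :
    uS ((extOf G (prS (n := n) QW) (ker_prS QW) (range_prS QW G.hn G.hW)).Y a w) =
      sgU QW (e F κ a) (wv n w) := by
  set D := extOf G (prS (n := n) QW) (ker_prS QW) (range_prS QW G.hn G.hW)
  obtain ⟨b, hab, -⟩ := RelsD.exists_third D.hn a a
  set m := D.rels.w a b (2 : F) * D.rels.w a b (-1)
  have hm := (D.mono_w' hab h2).mul (D.mono_w' hab (t := (-1 : F)) (neg_ne_zero.2 one_ne_zero))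
  rw [show sw a b * sw a b = 1 from Equiv.ext fun c => sw_sw hab c, ← map_mul] at hm
  have hca : DModel.wc a b (2 : F) (sw a b a) * DModel.wc a b (-1 : F) a = 2 := by
    rw [sw_left hab]
    simp [DModel.wc, ((DType.lv_ne.1 hab).1).symm]
  have hcY : ⁅m, D.Y a w⁆ = D.Y a w := by
    rw [commutatorElement_def, D.conj_Y hm, hca, Equiv.Perm.one_apply, LinearMap.id_comp, LinearMap.id_apply,
      two_smul, D.Y_add, mul_inv_cancel_right]
  let Z : pairs n QW := ⟨(sgU QW (e F κ a) (wv n w), sg (qf n QW) (e F κ a) (wv n w)), sg_pair_mem QW G.hn G.hW _ _⟩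
  have he : act ((m : pairs n QW) : (Cl n QW)ˣ × GL (J n κ) F).2 (e F κ a) = (2 : F) • e F κ a := by
    have := hm.map_e a
    rw [hca, Equiv.Perm.one_apply] at this
    exact this
  have hw : act ((m : pairs n QW) : (Cl n QW)ˣ × GL (J n κ) F).2 (wv n w) = wv n w := by
    have := hm.map_wv w
    rw [LinearMap.id_comp, LinearMap.id_apply] at this
    exact this
  have hcZ : ⁅(m : pairs n QW), Z⁆ = Z := by
    rw [commutatorElement_def, mul_inv_eq_iff_eq_mul]
    refine Subtype.ext (Prod.ext ?_ ?_)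
    · show _ * sgU QW (e F κ a) (wv n w) * _⁻¹ = sgU QW (e F κ a) (wv n w) * sgU QW (e F κ a) (wv n w)
      rw [conj_sgU (m : pairs n QW).2 (u' := e F κ a) (w' := (2 : F) • wv n w) (Q_e QW a) (hS QW a w) (Q_e QW a)
        (by rw [B_smul_right, hS QW a w, mul_zero])
        (by rw [he, hw, map_smul, map_smul, mul_smul_comm, smul_mul_assoc])]
      refine Units.ext ?_
      rw [Units.val_mul, sgU_val QW (Q_e QW a) (by rw [B_smul_right, hS QW a w, mul_zero]),
        sgU_val QW (Q_e QW a) (hS QW a w)]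
      set A := CliffordAlgebra.ι (qf n QW) (e F κ a)
      set W := CliffordAlgebra.ι (qf n QW) (wv n w)
      have hsw : W * A = -(A * W) := by
        refine eq_neg_of_add_eq_zero_left ?_
        rw [CliffordAlgebra.ι_mul_ι_add_swap, B_wv_e, map_zero]
      have e0 : A * W * (A * W) = 0 := by
        rw [mul_assoc, ← mul_assoc W, hsw, neg_mul, mul_neg, ← mul_assoc, ← mul_assoc,
          CliffordAlgebra.ι_sq_scalar, Q_e, map_zero, zero_mul, zero_mul, neg_zero]
      rw [show ((2 : F) • wv n w) = wv n w + wv n w from two_smul F _, map_add, mul_add]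
      simp only [sub_mul, mul_sub, one_mul, mul_one, e0]
      abel
    · show (prS QW m) * S QW a w * (prS QW m)⁻¹ = S QW a w * S QW a w
      rw [show prS QW m = D.p m from rfl, hm.conj_S, hca, Equiv.Perm.one_apply, LinearMap.id_comp,
        LinearMap.id_apply, ← S_add, two_smul]
  have key : ((D.Y a w : Sig n QW) : pairs n QW) = Z := by
    conv_lhs => rw [← hcY]
    rw [← Subgroup.coe_subtype, map_commutatorElement]
    conv_rhs => rw [← hcZ]
    exact Schur.commutator_congr (ker_prP QW) rfl (D.p_Y a w)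
  show ((D.Y a w : Sig n QW) : pairs n QW).1.1 = _
  rw [key]

theorem weyl_val {A' : Type*} [Ring A'] {A B U : A'} (hAA : A * A = 0) (hAB : A * B + B * A = 1)
    (hUA : U * A = -(A * U)) (hUB : U * B = -(B * U)) (hUU : U * U = 1) :
    (1 - A * U) * (1 - B * U) * (1 - A * U) = -((A + B) * U) := by
  have hABA : A * B * A = A := by
    rw [mul_assoc, show B * A = 1 - A * B from eq_sub_of_add_eq (by rw [add_comm, hAB]), mul_sub, mul_one,
      ← mul_assoc, hAA, zero_mul, sub_zero]
  calc (1 - A * U) * (1 - B * U) * (1 - A * U)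
      = 1 - A * U - B * U - A * U + A * (U * B) * U + A * (U * A) * U + B * (U * A) * U
        - A * (U * B) * (U * A) * U := by noncomm_ring
    _ = 1 - A * U - B * U - A * U - A * B * (U * U) - A * A * (U * U) - B * A * (U * U)
        - A * B * (U * U) * (A * U) * 1 + (A * B * (U * U) * (A * U) - A * B * U * (A * U) * U) := by
        rw [hUA, hUB]; noncomm_ring
    _ = 1 - (A * B + B * A) - A * U - B * U - A * U - A * B * A * U
        + (A * B * A * U - A * B * U * (A * U) * U) := by rw [hUU, hAA]; noncomm_ring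
    _ = - A * U - B * U - A * U - A * B * (U * A) * U * U := by rw [hAB]; noncomm_ring
    _ = - A * U - B * U - A * U + A * B * A * U * (U * U) := by rw [hUA]; noncomm_ring
    _ = _ := by rw [hABA, hUU]; noncomm_ring

/-- `-1` is in `Ω`, and its lift has order four. -/
theorem exists_neg_one (G : Good n QW) (h2 : (2 : F) ≠ 0) (hn : Even n) {x u : κ → F} (hx : QW x = 1)
    (hu : QW u = 1) (hxu : QuadraticMap.polar (⇑QW) x u = 0)
    (hspan : ∀ w, QuadraticMap.polar (⇑QW) u w • u + QuadraticMap.polar (⇑QW) x w • x = (2 : F) • w) :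
    ∃ g : Sig n QW, (∀ v, act (prS QW g) v = (-1 : F) • v) ∧ g ^ 2 ≠ 1 := by
  let D := extOf G (prS (n := n) QW) (ker_prS QW) (range_prS QW G.hn G.hW)
  set a := Ext.a0 (n := n) D.hn
  let q : Schur.OrthPlus.P F n := ⟨(-1, 1), neg_one_sq, by rw [one_pow, hn.neg_one_pow]⟩
  set T := D.L (Schur.OrthPlus.phi D.hn q)
  set W := D.WY a x * D.WY a (-u)
  have hx0 : QW x ≠ 0 := by rw [hx]; exact one_ne_zero
  have hu0 : QW (-u) ≠ 0 := by rw [QuadraticMap.map_neg, hu]; exact one_ne_zero
  have hm := (D.mono_WY a hx0).mul (D.mono_WY a hu0)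
  rw [Equiv.swap_mul_self, ← map_mul] at hm
  have hWe : ∀ p, act (D.p W) (e F κ p) = e F κ p := fun p => by
    rw [hm.map_e, Equiv.Perm.one_apply, hx, QuadraticMap.map_neg, hu, wSc, wSc, inv_one]
    by_cases h1 : p = a
    · subst h1
      simp [ng_ne]
    by_cases h2 : p = ng a
    · subst h2
      simp [ng_ne]
    simp [Equiv.swap_apply_of_ne_of_ne h1 h2, h1, h2]
  have hWw : ∀ w, act (D.p W) (wv n w) = -wv n w := fun w => by
    rw [hm.map_wv, ← wv_neg]
    congr 1
    rw [LinearMap.comp_apply, rW_apply QW (-u), rW_apply, QuadraticMap.map_neg, hu, hx, inv_one, one_mul, one_mul,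
      QuadraticMap.polar_neg_left, smul_neg, neg_smul, neg_neg, QuadraticMap.polar_sub_right,
      QuadraticMap.polar_smul_right, hxu, smul_zero, sub_zero, sub_sub, hspan, two_smul]
    abel
  have hT : ∀ p, act (D.p T) (e F κ p) = -e F κ p := fun p => by
    rw [show e F κ p = ext0 κ (DModel.ev p) from rfl, (D.act_L _).1]
    funext r
    rcases r with r | r
    · have := Schur.OrthPlus.mono_phi D.hn q (DModel.ev p) r
      rw [Equiv.Perm.one_apply] at this
      rw [ext0_inl, this, Pi.neg_apply, ext0_inl]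
      simp [q]
    · simp [ext0]
  have hg : ∀ v, act (prS QW (T * W)) v = (-1 : F) • v := fun v => by
    show act (D.p (T * W)) v = _
    rw [map_mul, act_mul, eq_sum v, map_add, map_add, map_sum, map_sum, hWw, map_neg, (D.act_L _).2, neg_one_smul,
      neg_add, ← Finset.sum_neg_distrib]
    congr 1
    refine Finset.sum_congr rfl fun p _ => ?_
    rw [map_smul, map_smul, hWe, hT, smul_neg]
  refine ⟨T * W, hg, fun hsq => ?_⟩
  have hcen := Subgroup.mem_center_iff.1 (mem_center_of_scalar G hg)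
  have hq : q * q = 1 := Subtype.ext (Prod.ext (by simp [q]) (by simp [q]))
  have hTT : T * T = 1 := by rw [← map_mul, ← map_mul, hq, map_one, map_one]
  have hWW : W * W = 1 := by
    rw [pow_two] at hsq
    calc W * W = T * T * (W * W) := by rw [hTT, one_mul]
      _ = T * (T * W) * W := by group
      _ = T * W * (T * W) := by rw [hcen T]; group
      _ = 1 := hsq
  -- the Clifford part
  set A := CliffordAlgebra.ι (qf n QW) (e F κ a)
  set B := CliffordAlgebra.ι (qf n QW) (e F κ (ng a))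
  have anti : ∀ (p : SIdx n) (w : κ → F), CliffordAlgebra.ι (qf n QW) (wv n w) * CliffordAlgebra.ι _ (e F κ p) =
      -(CliffordAlgebra.ι _ (e F κ p) * CliffordAlgebra.ι _ (wv n w)) := fun p w => by
    refine eq_neg_of_add_eq_zero_left ?_
    rw [CliffordAlgebra.ι_mul_ι_add_swap, B_wv_e, map_zero]
  have hAA : A * A = 0 := by rw [CliffordAlgebra.ι_sq_scalar, Q_e, map_zero]
  have hBB : B * B = 0 := by rw [CliffordAlgebra.ι_sq_scalar, Q_e, map_zero]
  have hAB : A * B + B * A = 1 := by rw [CliffordAlgebra.ι_mul_ι_add_swap, B_e_e, if_pos rfl, map_one]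
  have hWY : ∀ w, QW w = 1 →
      ((uS (D.WY a w) : (Cl n QW)ˣ) : Cl n QW) = -((A + B) * CliffordAlgebra.ι _ (wv n w)) := fun w hw => by
    rw [Ext.WY, map_mul, map_mul, uS_Y G h2, uS_Y G h2, hw, inv_one, one_smul, Units.val_mul, Units.val_mul,
      sgU_val QW (Q_e QW a) (hS QW a w), sgU_val QW (Q_e QW _) (hS QW _ w)]
    exact weyl_val hAA hAB (anti a w) (anti _ w) (by rw [CliffordAlgebra.ι_sq_scalar, Q_wv, hw, map_one])
  set X := CliffordAlgebra.ι (qf n QW) (wv n x)
  set U := CliffordAlgebra.ι (qf n QW) (wv n u)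
  have hW' : ((uS W : (Cl n QW)ˣ) : Cl n QW) = X * U := by
    rw [map_mul, Units.val_mul, hWY x hx, hWY (-u) (by rw [QuadraticMap.map_neg, hu]), wv_neg, map_neg]
    have hK : X * (A + B) = -((A + B) * X) := by rw [mul_add, anti, anti, add_mul]; abel
    calc -((A + B) * X) * -((A + B) * -U) = -((A + B) * (X * (A + B)) * U) := by noncomm_ring
      _ = (A * A + (A * B + B * A) + B * B) * (X * U) := by rw [hK]; noncomm_ring
      _ = _ := by rw [hAA, hBB, hAB, zero_add, add_zero, one_mul]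
  have hUX : U * X = -(X * U) := by
    refine eq_neg_of_add_eq_zero_left ?_
    rw [CliffordAlgebra.ι_mul_ι_add_swap, B_wv_wv, QuadraticMap.polar_comm, hxu, map_zero]
  have hval := congrArg (fun s : Sig n QW => ((uS s : (Cl n QW)ˣ) : Cl n QW)) hWW
  simp only [map_mul, map_one, Units.val_mul, Units.val_one, hW'] at hval
  rw [mul_assoc, ← mul_assoc U, hUX, neg_mul, mul_neg, mul_assoc X U U, CliffordAlgebra.ι_sq_scalar, Q_wv, hu,
    map_one, mul_one, CliffordAlgebra.ι_sq_scalar, Q_wv, hx, map_one] at hval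
  have : Invertible (2 : F) := invertibleOfNonzero h2
  apply h2
  refine (algebraMap F (Cl n QW)).injective ?_
  rw [map_ofNat, map_zero, ← one_add_one_eq_two, add_eq_zero_iff_eq_neg, hval]

/-- The multiplier when `-1` has a lift of order four. -/
theorem hasMult_four (G : Good n QW) (h2 : (2 : F) ≠ 0) {g : Sig n QW}
    (hg : ∀ v, act (prS QW g) v = (-1 : F) • v) (hg2 : g ^ 2 ≠ 1) :
    Cfsg.HasCyclicSchurMultiplier (Cfsg.POmega F ⇑(qf n QW)) 4 := by
  have := finite_Sig QW G.hn G.hW
  have hk2 := card_ker_two G h2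
  have hgk : g ^ 2 ∈ (prS (n := n) QW).ker := MonoidHom.mem_ker.2 (gl_ext fun v => by
    rw [pow_two, map_mul, act_mul, hg, hg, smul_smul, neg_one_mul, neg_neg, one_smul, act_one])
  obtain ⟨y, -, hy⟩ := (Nat.card_eq_two_iff' (1 : (prS (n := n) QW).ker)).1 hk2
  have hker : ∀ z ∈ (prS (n := n) QW).ker, z ∈ Subgroup.zpowers g := fun z hz => by
    by_cases h1 : (⟨z, hz⟩ : (prS (n := n) QW).ker) = 1
    · rw [show z = 1 from congrArg Subtype.val h1]; exact one_mem _
    · have e := (hy ⟨z, hz⟩ h1).trans (hy ⟨_, hgk⟩ fun e => hg2 (congrArg Subtype.val e)).symm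
      rw [show z = g ^ 2 from congrArg Subtype.val e]
      exact pow_mem (Subgroup.mem_zpowers g) 2
  have hcg : g ∈ Subgroup.center (Sig n QW) := mem_center_of_scalar G hg
  have hZ : Subgroup.center (Sig n QW) = Subgroup.zpowers g := by
    refine le_antisymm (fun z hz => ?_) ((Subgroup.zpowers_le).2 hcg)
    obtain ⟨l, hl, hx⟩ := scalar_of_center G hz
    rcases sq_eq_one_iff.1 hl with rfl | rfl
    · exact hker z (MonoidHom.mem_ker.2 (gl_ext fun x => by rw [hx, one_smul, act_one]))
    · have := hker (g * z) (MonoidHom.mem_ker.2 (gl_ext fun x => by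
        rw [map_mul, act_mul, hx, hg, smul_smul, neg_one_mul, neg_neg, one_smul, act_one]))
      simpa using mul_mem (inv_mem (Subgroup.mem_zpowers g)) this
  have h4 : orderOf g = 2 ^ 2 := by
    have := fact_iff.2 Nat.prime_two
    refine orderOf_eq_prime_pow (by simpa using hg2) ?_
    have : (⟨_, hgk⟩ : (prS (n := n) QW).ker) ^ 2 = 1 := by
      have h := pow_card_eq_one' (x := (⟨_, hgk⟩ : (prS (n := n) QW).ker))
      rwa [hk2] at h
    have := congrArg Subtype.val this
    rw [show (2 : ℕ) ^ (1 + 1) = 2 * 2 by norm_num, pow_mul]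
    exact this
  have hcy : IsCyclic (Subgroup.center (Sig n QW)) := by rw [hZ]; infer_instance
  have hc : Nat.card (Subgroup.center (Sig n QW)) = 4 := by rw [hZ, Nat.card_zpowers, h4]; norm_num
  have e := (zmodCyclicMulEquiv hcy).symm
  rw [hc] at e
  exact hasSchurMultiplier G e

end Cfsg.Agent.Schur.OrthW
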