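import Cfsg.Agent.Lib.Schur.OrthW.Bound
import Cfsg.Agent.Lib.Schur.OrthPlus.Spin

/-!
# The spin cover of `Ω`

Pairs of a unit of the Clifford algebra and an element of `Ω` intertwining the vectors form a central extension
of `Ω`; its derived group is perfect, finite, and contains `-1` in odd characteristic.
-/

set_option autoImplicit false

namespace Cfsg.Agent.Schur.OrthW

open CurtisTits CurtisTits.DType
open Cfsg.Agent.MaxCl Cfsg.Agent.MaxCl.Orth
open scoped MatrixGroups commutatorElement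

universe u

variable {F : Type u} [Field F] {n : ℕ} {κ : Type} [Fintype κ] [DecidableEq κ] (QW : QuadraticForm F (κ → F))

/-- The Clifford algebra. -/
abbrev Cl (n : ℕ) (QW : QuadraticForm F (κ → F)) : Type u := CliffordAlgebra (qf n QW)

/-- The intertwining pairs. -/
noncomputable def pairs (n : ℕ) (QW : QuadraticForm F (κ → F)) : Subgroup ((Cl n QW)ˣ × GL (J n κ) F) where
  carrier := {ug | ug.2 ∈ Cfsg.Geo.omegaGL ⇑(qf n QW) ∧
    ∀ x, (ug.1 : Cl n QW) * CliffordAlgebra.ι _ x = CliffordAlgebra.ι _ (act ug.2 x) * (ug.1 : Cl n QW)}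
  one_mem' := ⟨one_mem _, fun x => by simp [act_one]⟩
  mul_mem' := fun {a b} ha hb => ⟨mul_mem ha.1 hb.1, fun x => by
    simp only [Prod.fst_mul, Prod.snd_mul, Units.val_mul, act_mul]
    rw [mul_assoc, hb.2, ← mul_assoc, ha.2, mul_assoc]⟩
  inv_mem' := fun {a} ha => ⟨inv_mem ha.1, fun x => by
    simp only [Prod.fst_inv, Prod.snd_inv]
    have h := ha.2 (act a.2⁻¹ x)
    rw [act_act_inv] at h
    calc ((a.1⁻¹ : (Cl n QW)ˣ) : Cl n QW) * CliffordAlgebra.ι _ x
        = ((a.1⁻¹ : (Cl n QW)ˣ) : Cl n QW) * (CliffordAlgebra.ι _ x * (a.1 : Cl n QW)) *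
            ((a.1⁻¹ : (Cl n QW)ˣ) : Cl n QW) := by
          rw [mul_assoc, mul_assoc, Units.mul_inv, mul_one]
      _ = _ := by rw [← h, ← mul_assoc ((a.1⁻¹ : (Cl n QW)ˣ) : Cl n QW), Units.inv_mul, one_mul]⟩

/-- The projection of the pairs. -/
noncomputable def prP : pairs n QW →* GL (J n κ) F := (MonoidHom.snd _ _).comp (pairs n QW).subtype

theorem ker_prP : (prP (n := n) QW).ker ≤ Subgroup.center (pairs n QW) := by
  rintro ⟨⟨u, g⟩, hg, hu⟩ hk
  have hg1 : g = 1 := hk
  subst hg1
  have hcl : ∀ a : Cl n QW, (u : Cl n QW) * a = a * u := fun a => by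
    induction a using CliffordAlgebra.induction with
    | algebraMap r => exact (Algebra.commutes r (u : Cl n QW)).symm
    | ι x => have := hu x; simpa [act_one] using this
    | mul a b ha hb => rw [← mul_assoc, ha, mul_assoc, hb, mul_assoc]
    | add a b ha hb => rw [mul_add, add_mul, ha, hb]
  rw [Subgroup.mem_center_iff]
  rintro ⟨⟨v, h⟩, hv⟩
  exact Subtype.ext (Prod.ext (Units.ext (hcl v).symm) (by simp))

/-- The unit over a Siegel element. -/
noncomputable def sgU (u w : J n κ → F) : (Cl n QW)ˣ := by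
  classical
  exact if h : qf n QW u = 0 ∧ QuadraticMap.polar (⇑(qf n QW)) u w = 0 then
    { val := 1 - CliffordAlgebra.ι _ u * CliffordAlgebra.ι _ w
      inv := 1 + CliffordAlgebra.ι _ u * CliffordAlgebra.ι _ w
      val_inv := by
        have e : CliffordAlgebra.ι (qf n QW) u * CliffordAlgebra.ι _ w *
            (CliffordAlgebra.ι _ u * CliffordAlgebra.ι _ w) = 0 := by
          have hs : CliffordAlgebra.ι (qf n QW) w * CliffordAlgebra.ι _ u =
              -(CliffordAlgebra.ι _ u * CliffordAlgebra.ι _ w) := by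
            refine eq_neg_of_add_eq_zero_left ?_
            rw [CliffordAlgebra.ι_mul_ι_add_swap, QuadraticMap.polar_comm, h.2, map_zero]
          rw [mul_assoc, ← mul_assoc (CliffordAlgebra.ι (qf n QW) w), hs, neg_mul, mul_neg, ← mul_assoc,
            ← mul_assoc, CliffordAlgebra.ι_sq_scalar, h.1, map_zero, zero_mul, zero_mul, neg_zero]
        rw [sub_mul, mul_add, mul_add, one_mul, one_mul, mul_one, e]; abel
      inv_val := by
        have e : CliffordAlgebra.ι (qf n QW) u * CliffordAlgebra.ι _ w *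
            (CliffordAlgebra.ι _ u * CliffordAlgebra.ι _ w) = 0 := by
          have hs : CliffordAlgebra.ι (qf n QW) w * CliffordAlgebra.ι _ u =
              -(CliffordAlgebra.ι _ u * CliffordAlgebra.ι _ w) := by
            refine eq_neg_of_add_eq_zero_left ?_
            rw [CliffordAlgebra.ι_mul_ι_add_swap, QuadraticMap.polar_comm, h.2, map_zero]
          rw [mul_assoc, ← mul_assoc (CliffordAlgebra.ι (qf n QW) w), hs, neg_mul, mul_neg, ← mul_assoc,
            ← mul_assoc, CliffordAlgebra.ι_sq_scalar, h.1, map_zero, zero_mul, zero_mul, neg_zero]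
        rw [add_mul, mul_sub, mul_sub, one_mul, one_mul, mul_one, e]; abel }
  else 1

theorem sgU_val {u w : J n κ → F} (hu : qf n QW u = 0) (h : QuadraticMap.polar (⇑(qf n QW)) u w = 0) :
    ((sgU QW u w : (Cl n QW)ˣ) : Cl n QW) = 1 - CliffordAlgebra.ι _ u * CliffordAlgebra.ι _ w := by
  simp [sgU, hu, h]

variable [Finite F]

theorem sg_pair_mem (hn : 3 ≤ n) (hW : (QuadraticMap.polarBilin QW).Nondegenerate) (u w : J n κ → F) :
    (sgU QW u w, sg (qf n QW) u w) ∈ pairs n QW := by
  refine ⟨sg_mem_omega (nondegenerate QW hW) (five_le hn) u w, fun x => ?_⟩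
  by_cases hc : qf n QW u = 0 ∧ QuadraticMap.polar (⇑(qf n QW)) u w = 0
  swap
  · simp only
    rw [sg_of_not _ hc, act_one]
    simp [sgU, hc]
  obtain ⟨hu, h⟩ := hc
  simp only
  rw [sgU_val QW hu h, act_sg _ hu h, map_sub, map_add, map_smul, map_smul]
  set U := CliffordAlgebra.ι (qf n QW) u with hU
  set W := CliffordAlgebra.ι (qf n QW) w with hW'
  set X := CliffordAlgebra.ι (qf n QW) x with hX
  set bu := QuadraticMap.polar (⇑(qf n QW)) u x
  set bw := QuadraticMap.polar (⇑(qf n QW)) w x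
  set qw := qf n QW w
  have eUX : U * X = algebraMap F _ bu - X * U :=
    eq_sub_of_add_eq (by rw [hU, hX, CliffordAlgebra.ι_mul_ι_add_swap])
  have eWX : W * X = algebraMap F _ bw - X * W :=
    eq_sub_of_add_eq (by rw [hW', hX, CliffordAlgebra.ι_mul_ι_add_swap])
  have eWU : W * U = -(U * W) := by
    refine eq_neg_of_add_eq_zero_left ?_
    rw [hU, hW', CliffordAlgebra.ι_mul_ι_add_swap, QuadraticMap.polar_comm, h, map_zero]
  have eUU : U * U = 0 := by rw [hU, CliffordAlgebra.ι_sq_scalar, hu, map_zero]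
  have eWW : W * W = algebraMap F _ qw := by rw [hW', CliffordAlgebra.ι_sq_scalar]
  have hl : U * W * X = bw • U - bu • W + X * (U * W) := by
    calc U * W * X = U * (W * X) := mul_assoc _ _ _
      _ = U * algebraMap F _ bw - (U * X) * W := by rw [eWX, mul_sub, ← mul_assoc]
      _ = _ := by
        rw [eUX, sub_mul, ← Algebra.commutes bw, ← Algebra.smul_def, ← Algebra.smul_def, ← mul_assoc X]
        abel
  have hUUW : U * (U * W) = 0 := by rw [← mul_assoc, eUU, zero_mul]
  have hWUW : W * (U * W) = -(qw • U) := by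
    rw [← mul_assoc, eWU, neg_mul, mul_assoc, eWW, ← Algebra.commutes qw, ← Algebra.smul_def]
  rw [sub_mul, one_mul, hl]
  simp only [mul_sub, mul_one, sub_mul, add_mul, smul_mul_assoc, mul_smul_comm, hUUW, hWUW, smul_zero, smul_neg,
    smul_sub, add_smul, mul_smul]
  module

theorem range_prP (hn : 3 ≤ n) (hW : (QuadraticMap.polarBilin QW).Nondegenerate) :
    (prP (n := n) QW).range = Cfsg.Geo.omegaGL ⇑(qf n QW) := by
  refine le_antisymm ?_ (omega_le QW hn hW (fun a b _ t => ⟨⟨_, sg_pair_mem QW hn hW _ _⟩, rfl⟩)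
    fun a w => ⟨⟨_, sg_pair_mem QW hn hW _ _⟩, rfl⟩)
  rintro _ ⟨⟨ug, hug⟩, rfl⟩
  exact hug.1

/-- `Ω` is perfect. -/
theorem omega_perfect (hn : 3 ≤ n) (hW : (QuadraticMap.polarBilin QW).Nondegenerate) :
    Cfsg.Geo.omegaGL ⇑(qf n QW) ≤ ⁅Cfsg.Geo.omegaGL ⇑(qf n QW), Cfsg.Geo.omegaGL ⇑(qf n QW)⁆ := by
  refine omega_le QW hn hW (fun a b h t => ?_) fun a w => ?_
  · obtain ⟨c, hac, hbc⟩ := RelsD.exists_third hn a b
    have e := E_chain QW hac hbc.symm h t 1
    rw [mul_one] at e
    rw [show E QW a b t = ⁅E QW a c t, E QW c b 1⁆ by rw [commutatorElement_def, e]; group]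
    exact Subgroup.commutator_mem_commutator (E_mem_omega QW hn hW _ _ _) (E_mem_omega QW hn hW _ _ _)
  · obtain ⟨b, hab, -⟩ := RelsD.exists_third hn a a
    have hab' : lv a ≠ lv (ng b) := by rwa [lv_ng]
    obtain ⟨c, hac, hbc⟩ := RelsD.exists_third hn a b
    have hcb' : lv c ≠ lv (ng b) := by rw [lv_ng]; exact hbc.symm
    have e := comm_ES QW hab 1 w
    rw [one_smul, one_mul, ← mul_inv_eq_iff_eq_mul] at e
    rw [← e]
    refine mul_mem (Subgroup.commutator_mem_commutator (E_mem_omega QW hn hW _ _ _) (S_mem_omega QW hn hW _ _))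
      (inv_mem ?_)
    have e2 := E_chain QW hac hcb' hab' (QW w) 1
    rw [mul_one] at e2
    rw [show E QW a (ng b) (QW w) = ⁅E QW a c (QW w), E QW c (ng b) 1⁆ by rw [commutatorElement_def, e2]; group]
    exact Subgroup.commutator_mem_commutator (E_mem_omega QW hn hW _ _ _) (E_mem_omega QW hn hW _ _ _)

/-- The cover. -/
noncomputable def Sig (n : ℕ) (QW : QuadraticForm F (κ → F)) : Subgroup (pairs n QW) := _root_.commutator (pairs n QW)

/-- The projection of the cover. -/
noncomputable def prS : Sig n QW →* GL (J n κ) F := (prP QW).comp (Sig n QW).subtype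

omit [Finite F] in
theorem ker_prS : (prS (n := n) QW).ker ≤ Subgroup.center (Sig n QW) := fun x hx => by
  rw [Subgroup.mem_center_iff]
  intro y
  exact Subtype.ext (Subgroup.mem_center_iff.1 (ker_prP QW (show (x : pairs n QW) ∈ (prP QW).ker from hx)) _)

theorem range_prS (hn : 3 ≤ n) (hW : (QuadraticMap.polarBilin QW).Nondegenerate) :
    (prS (n := n) QW).range = Cfsg.Geo.omegaGL ⇑(qf n QW) := by
  rw [prS, MonoidHom.range_comp, Subgroup.range_subtype, Sig, commutator_def, Subgroup.map_commutator,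
    ← MonoidHom.range_eq_map, range_prP QW hn hW]
  refine le_antisymm ?_ (omega_perfect QW hn hW)
  rw [Subgroup.commutator_le]
  intro a ha b hb
  rw [commutatorElement_def]
  exact mul_mem (mul_mem (mul_mem ha hb) (inv_mem ha)) (inv_mem hb)

theorem commutator_Sig (hn : 3 ≤ n) (hW : (QuadraticMap.polarBilin QW).Nondegenerate) :
    _root_.commutator (Sig n QW) = ⊤ := by
  rw [eq_top_iff]
  rintro ⟨z, hz⟩ -
  suffices z ∈ (_root_.commutator (Sig n QW)).map (Sig n QW).subtype by
    obtain ⟨y, hy, e⟩ := this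
    rwa [show (⟨z, hz⟩ : Sig n QW) = y from Subtype.ext e.symm]
  have hz' : z ∈ _root_.commutator (pairs n QW) := hz
  revert hz'
  refine fun hz' => (show _root_.commutator (pairs n QW) ≤ _ from ?_) hz'
  rw [commutator_def, Subgroup.commutator_le]
  rintro a - b -
  obtain ⟨a', ha⟩ : prP QW a ∈ (prS (n := n) QW).range := by
    rw [range_prS QW hn hW, ← range_prP QW hn hW]; exact ⟨a, rfl⟩
  obtain ⟨b', hb⟩ : prP QW b ∈ (prS (n := n) QW).range := by
    rw [range_prS QW hn hW, ← range_prP QW hn hW]; exact ⟨b, rfl⟩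
  rw [Schur.commutator_congr (ker_prP QW) (show prP QW a = prP QW (a' : pairs n QW) from ha.symm)
    (show prP QW b = prP QW (b' : pairs n QW) from hb.symm)]
  exact ⟨⁅a', b'⁆, Subgroup.commutator_mem_commutator (Subgroup.mem_top _) (Subgroup.mem_top _),
    map_commutatorElement _ _ _⟩

theorem finite_Sig (hn : 3 ≤ n) (hW : (QuadraticMap.polarBilin QW).Nondegenerate) : Finite (Sig n QW) := by
  classical
  have := Fintype.ofFinite F
  let g : (prS (n := n) QW).range × (prS (n := n) QW).range → Sig n QW := fun p => ⁅p.1.2.choose, p.2.2.choose⁆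
  have hs : commutatorSet (Sig n QW) ⊆ Set.range g := by
    rintro _ ⟨x, y, rfl⟩
    refine ⟨(⟨_, x, rfl⟩, ⟨_, y, rfl⟩), ?_⟩
    exact Schur.commutator_congr (ker_prS QW)
      (⟨_, x, rfl⟩ : (prS (n := n) QW).range).2.choose_spec (⟨_, y, rfl⟩ : (prS (n := n) QW).range).2.choose_spec
  have : Finite (commutatorSet (Sig n QW)) := ((Set.finite_range g).subset hs).to_subtype
  have h : Finite (_root_.commutator (Sig n QW)) := inferInstance
  rw [commutator_Sig QW hn hW] at h
  exact Finite.of_equiv _ Subgroup.topEquiv.toEquiv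

/-- The inclusion of the hyperbolic part. -/
noncomputable def clMap (n : ℕ) (QW : QuadraticForm F (κ → F)) : Schur.OrthPlus.Cl F n →ₐ[F] Cl n QW :=
  CliffordAlgebra.map
    { toLinearMap :=
        { toFun := ext0 κ
          map_add' := fun x y => by funext p; rcases p with p | p <;> simp [ext0]
          map_smul' := fun c x => by funext p; rcases p with p | p <;> simp [ext0] }
      map_app' := fun v => by
        show qf n QW (ext0 κ v) = DModel.qf F n v
        rw [qf_apply]
        simp only [ext0, Sum.elim_inl, Sum.elim_inr]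
        rw [show QW (fun k : κ => (0 : κ → F) k) = 0 from QuadraticMap.map_zero QW, add_zero] }

omit [Finite F] in
theorem clMap_ge (a : SIdx n) :
    clMap n QW (Schur.OrthPlus.ge F a) = CliffordAlgebra.ι _ (e F κ a) := CliffordAlgebra.map_apply_ι _ _

/-- `-1` is in the cover. -/
theorem two_le_card_ker (G : Good n QW) (h2 : (2 : F) ≠ 0) :
    ∃ z : Sig n QW, z ∈ (prS QW).ker ∧ z ≠ 1 := by
  let φ : (Schur.OrthPlus.Cl F n)ˣ →* (Cl n QW)ˣ := Units.map (clMap n QW).toMonoidHom
  let ψ0 : Schur.OrthPlus.StD F n →* (Cl n QW)ˣ := φ.comp (Schur.OrthPlus.liftD Schur.OrthPlus.spinRels)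
  have hfin := finite_Sig QW G.hn G.hW
  let D := extOf G (prS QW) (ker_prS QW) (range_prS QW G.hn G.hW)
  have hval : ∀ a b, lv a ≠ lv b → ∀ t, ψ0 ((Schur.OrthPlus.stRels F n).x a b t) =
      sgU QW (e F κ a) ((-t) • e F κ (ng b)) := fun a b h t => by
    show φ (Schur.OrthPlus.liftD Schur.OrthPlus.spinRels _) = _
    rw [Schur.OrthPlus.liftD_x _ h]
    refine Units.ext ?_
    rw [sgU_val QW (Q_e QW a) (hE QW h _)]
    show clMap n QW ((Schur.OrthPlus.xU a b t : (Schur.OrthPlus.Cl F n)ˣ) : Schur.OrthPlus.Cl F n) = _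
    rw [Schur.OrthPlus.xU_val h, map_add, map_one, map_smul, Schur.OrthPlus.rN, map_mul, clMap_ge, clMap_ge, map_smul,
      mul_smul_comm, neg_smul, sub_neg_eq_add]
  -- the pairs over the long root elements
  let L2 : Schur.OrthPlus.StD F n →* (Cl n QW)ˣ × GL (J n κ) F :=
    ψ0.prod (Schur.OrthPlus.liftD (longRels QW))
  have hL2 : ∀ g, L2 g ∈ pairs n QW := fun g => by
    refine (show (⊤ : Subgroup _) ≤ (pairs n QW).comap L2 from ?_) (Subgroup.mem_top g)
    rw [← Schur.OrthPlus.closure_x, Subgroup.closure_le]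
    rintro _ ⟨a, b, h, t, rfl⟩
    show (ψ0 _, Schur.OrthPlus.liftD (longRels QW) _) ∈ pairs n QW
    rw [hval a b h, Schur.OrthPlus.liftD_x _ h]
    exact sg_pair_mem QW G.hn G.hW _ _
  let LP : Schur.OrthPlus.StD F n →* pairs n QW := L2.codRestrict _ hL2
  have hLP : ∀ g, ((D.L g : Sig n QW) : pairs n QW) = LP g := by
    refine fun g => DFunLike.congr_fun (show (Sig n QW).subtype.comp D.L = LP from ?_) g
    refine MonoidHom.eq_of_eqOn_dense (Schur.OrthPlus.closure_x F n) ?_
    rintro _ ⟨a, b, h, t, rfl⟩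
    obtain ⟨c, hac, hbc⟩ := RelsD.exists_third G.hn a b
    have e1 : (Schur.OrthPlus.stRels F n).x a b t =
        ⁅(Schur.OrthPlus.stRels F n).x a c t, (Schur.OrthPlus.stRels F n).x c b 1⁆ := by
      have e := (Schur.OrthPlus.stRels F n).chain a c b hac hbc.symm h t 1
      rw [mul_one] at e
      rw [commutatorElement_def, e]; group
    rw [e1, map_commutatorElement, map_commutatorElement]
    refine Schur.commutator_congr (ker_prP QW) ?_ ?_
    · show D.p (D.L ((Schur.OrthPlus.stRels F n).x a c t)) =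
        Schur.OrthPlus.liftD (longRels QW) ((Schur.OrthPlus.stRels F n).x a c t)
      rw [D.L_x hac, D.p_X hac, Schur.OrthPlus.liftD_x _ hac]
      rfl
    · show D.p (D.L ((Schur.OrthPlus.stRels F n).x c b 1)) =
        Schur.OrthPlus.liftD (longRels QW) ((Schur.OrthPlus.stRels F n).x c b 1)
      rw [D.L_x hbc.symm, D.p_X hbc.symm, Schur.OrthPlus.liftD_x _ hbc.symm]
      rfl
  refine ⟨D.L (Schur.OrthPlus.z0 G.hn), ?_, fun hz => ?_⟩
  · rw [MonoidHom.mem_ker]
    -- `z0` acts trivially
    refine gl_ext fun x => ?_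
    rw [act_one, eq_sum x, map_add, map_sum]
    congr 1
    · refine Finset.sum_congr rfl fun a _ => ?_
      rw [map_smul]
      congr 1
      have := (D.act_L (Schur.OrthPlus.z0 G.hn)).1 (DModel.ev a)
      have hth : Schur.OrthPlus.theta F n (Schur.OrthPlus.z0 G.hn) = 1 := by
        refine DModel.E_ext fun y q => ?_
        have hm := (Schur.OrthPlus.mono_h (F := F) (a := Sum.inl (Schur.OrthPlus.i0 G.hn))
          (b := Sum.inr (Schur.OrthPlus.i1 G.hn)) (Schur.OrthPlus.i0_ne_i1 G.hn) (-1)).mul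
          (Schur.OrthPlus.mono_h (F := F) (a := Sum.inl (Schur.OrthPlus.i0 G.hn))
          (b := Sum.inl (Schur.OrthPlus.i1 G.hn)) (Schur.OrthPlus.i0_ne_i1 G.hn) (-1))
        have h' := hm y q
        rw [one_mul, Equiv.Perm.one_apply, ← map_mul] at h'
        rw [Schur.OrthPlus.z0, h', act_one]
        have h01 := Schur.OrthPlus.i0_ne_i1 G.hn
        simp only [Schur.OrthPlus.hc, Equiv.Perm.one_apply]
        rcases q with q | q <;> by_cases q0 : q = Schur.OrthPlus.i0 G.hn <;>
          by_cases q1 : q = Schur.OrthPlus.i1 G.hn <;> simp_all [ng, h01.symm]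
      rw [hth, act_one] at this
      exact this
    · exact (D.act_L _).2 _
  · have h := congrArg (fun s : Sig n QW => (s : pairs n QW)) hz
    simp only [hLP] at h
    have h' : ψ0 (Schur.OrthPlus.z0 G.hn) = 1 := congrArg (fun s : pairs n QW => (s : (Cl n QW)ˣ × GL (J n κ) F).1) h
    have hv := congrArg (fun u : (Cl n QW)ˣ => (u : Cl n QW)) h'
    simp only [ψ0, φ, MonoidHom.comp_apply, Units.coe_map, Units.val_one] at hv
    change clMap n QW ((Schur.OrthPlus.liftD Schur.OrthPlus.spinRels (Schur.OrthPlus.z0 G.hn) :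
      (Schur.OrthPlus.Cl F n)ˣ) : Schur.OrthPlus.Cl F n) = 1 at hv
    rw [Schur.OrthPlus.spin_z0 G.hn, map_neg, map_one] at hv
    have : Invertible (2 : F) := invertibleOfNonzero h2
    apply h2
    refine (algebraMap F (Cl n QW)).injective ?_
    rw [map_ofNat, map_zero, ← one_add_one_eq_two, add_eq_zero_iff_eq_neg, hv]

end Cfsg.Agent.Schur.OrthW
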