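import Cfsg.Agent.Lib.Schur.OrthW.TorusW

/-!
# The kernel of a generated central extension has at most two elements
-/

set_option autoImplicit false

namespace Cfsg.Agent.Schur.OrthW

open CurtisTits CurtisTits.DType
open Cfsg.Agent.MaxCl Cfsg.Agent.MaxCl.Orth
open scoped MatrixGroups commutatorElement

universe u

variable {F : Type u} [Field F] {n : ℕ} {κ : Type} [Fintype κ] [DecidableEq κ] {QW : QuadraticForm F (κ → F)}

/-- A vector of the hyperbolic part as a vector of the space. -/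
def ext0 (κ : Type) (v : SIdx n → F) : J n κ → F := Sum.elim v 0

theorem ext0_inl (v : SIdx n → F) (p : SIdx n) : ext0 κ v (.inl p) = v p := rfl

theorem act_E_ext {a b : SIdx n} (h : lv a ≠ lv b) (t : F) (v : SIdx n → F) :
    act (E QW a b t) (ext0 κ v) = ext0 κ (act (DModel.E a b t) v) := by
  rw [act_E QW h]
  funext p
  rcases p with p | p
  · simp only [Pi.add_apply, Pi.sub_apply, Pi.smul_apply, smul_eq_mul, e_inl, ext0_inl, DModel.act_E h]
    split_ifs <;> ring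
  · simp [e_inr, ext0]

namespace Ext

variable {M : Type u} [Group M] (D : Ext (n := n) QW M)

/-- The long part as a homomorphism from the Steinberg group of type `D_n`. -/
noncomputable def L : Schur.OrthPlus.StD F n →* M := Schur.OrthPlus.liftD D.rels

theorem L_x {a b : SIdx n} (h : lv a ≠ lv b) (t : F) :
    D.L ((Schur.OrthPlus.stRels F n).x a b t) = D.X a b t := Schur.OrthPlus.liftD_x D.rels h t

theorem L_w {a b : SIdx n} (h : lv a ≠ lv b) (t : F) :
    D.L ((Schur.OrthPlus.stRels F n).w a b t) = D.rels.w a b t := by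
  simp only [RelsD.w, map_mul, D.L_x h, D.L_x h.symm]
  rfl

theorem act_L (g : Schur.OrthPlus.StD F n) :
    (∀ v, act (D.p (D.L g)) (ext0 κ v) = ext0 κ (act (Schur.OrthPlus.theta F n g) v)) ∧
      ∀ w, act (D.p (D.L g)) (wv n w) = wv n w := by
  let K : Subgroup (Schur.OrthPlus.StD F n) :=
    { carrier := {g | (∀ v, act (D.p (D.L g)) (ext0 κ v) = ext0 κ (act (Schur.OrthPlus.theta F n g) v)) ∧
        ∀ w, act (D.p (D.L g)) (wv n w) = wv n w}
      one_mem' := ⟨fun v => by simp [act_one], fun w => by simp [act_one]⟩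
      mul_mem' := fun {a b} ha hb => ⟨fun v => by rw [map_mul, map_mul, map_mul, act_mul, hb.1, ha.1, ← act_mul],
        fun w => by rw [map_mul, map_mul, act_mul, hb.2, ha.2]⟩
      inv_mem' := fun {a} ha => ⟨fun v => by
          conv_lhs => rw [← act_act_inv (Schur.OrthPlus.theta F n a) v, ← ha.1]
          rw [map_inv, map_inv, map_inv, act_inv_act],
        fun w => by
          conv_lhs => rw [← ha.2 w]
          rw [map_inv, map_inv, act_inv_act]⟩ }
  refine (show (⊤ : Subgroup _) ≤ K from ?_) (Subgroup.mem_top g)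
  rw [← Schur.OrthPlus.closure_x, Subgroup.closure_le]
  rintro _ ⟨a, b, h, t, rfl⟩
  refine ⟨fun v => ?_, fun w => ?_⟩
  · rw [D.L_x h, D.p_X h, Schur.OrthPlus.theta_x h, act_E_ext h]
  · rw [D.L_x h, D.p_X h, act_E_wv QW h]

variable [Finite F]

theorem TD_le_range : D.TD ≤ (D.L.comp (Schur.OrthPlus.tau (F := F) D.hn)).range := by
  rw [TD, Subgroup.closure_le]
  rintro _ ⟨a, b, h, t, u, ht, hu, rfl⟩
  have e : (Schur.OrthPlus.stRels F n).w a b t * (Schur.OrthPlus.stRels F n).w a b u =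
      Schur.OrthPlus.h a b (Units.mk0 t ht) * (Schur.OrthPlus.h a b (Units.mk0 (-u) (neg_ne_zero.2 hu)))⁻¹ := by
    rw [Schur.OrthPlus.h, Schur.OrthPlus.h, Units.val_mk0, Units.val_mk0, (Schur.OrthPlus.stRels F n).w_neg h u]
    group
  rw [MonoidHom.range_comp]
  refine ⟨(Schur.OrthPlus.stRels F n).w a b t * (Schur.OrthPlus.stRels F n).w a b u, ?_, ?_⟩
  · rw [e]
    exact mul_mem (Schur.OrthPlus.h_mem_range D.hn h _) (inv_mem (Schur.OrthPlus.h_mem_range D.hn h _))
  · rw [map_mul, D.L_w h, D.L_w h]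

variable (hA : ∀ w, QW w = 0 → w = 0) (hrot : IsCyclic (Rot QW))
include hA hrot

/-- Diagonal elements are, modulo the long torus, of the form `cls x w1`. -/
theorem exists_cls_of_diag (hgen : Subgroup.closure ({g | ∃ a b, lv a ≠ lv b ∧ ∃ t : F, g = D.X a b t} ∪
    {g | ∃ a, ∃ w, g = D.Y a w}) = ⊤) {g : M} (hg : g ∈ D.Diag) :
    ∃ (h1 : g ∈ D.H1) (x : V0 F κ) (hu : D.w1 ≠ 0), D.mkA g h1 = D.cls hA x ⟨D.w1, hu⟩ := by
  have h1 : g ∈ D.H1 := D.H_le_H1 (D.mem_H_of_diag hA hgen hg)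
  have hu : D.w1 ≠ 0 := fun e => D.Q_w1 hA (by rw [e, QuadraticMap.map_zero])
  let u : V0 F κ := ⟨D.w1, hu⟩
  let N : Subgroup D.A :=
    { carrier := {z | ∃ x, z = D.cls hA x u}
      one_mem' := ⟨u, (D.cls_self hA u).symm⟩
      mul_mem' := by
        rintro _ _ ⟨x, rfl⟩ ⟨y, rfl⟩
        obtain ⟨x', e⟩ := D.cls_flip hA hrot u y
        obtain ⟨z, hz⟩ : ∃ z, D.cls hA y u = D.cls hA u z := by
          obtain ⟨z, hz⟩ := D.cls_normal hA hrot u u y
          exact ⟨z, by rw [← D.cls_inv hA u y, hz, D.cls_inv]⟩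
        obtain ⟨w, hw⟩ := D.cls_normal hA hrot u x z
        exact ⟨w, by rw [hz, D.cls_mul, hw]⟩
      inv_mem' := by
        rintro _ ⟨x, rfl⟩
        obtain ⟨z, hz⟩ := D.cls_flip hA hrot u x
        exact ⟨z, by rw [D.cls_inv, hz]⟩ }
  have htop : (⊤ : Subgroup D.A) ≤ N := by
    rw [← D.cls_generate hA, Subgroup.closure_le]
    rintro _ ⟨x, y, rfl⟩
    exact D.cls_normal hA hrot u x y
  obtain ⟨x, hx⟩ := htop (Subgroup.mem_top (D.mkA g h1))
  exact ⟨h1, x, hu, hx⟩

theorem ker_le_TD (hgen : Subgroup.closure ({g | ∃ a b, lv a ≠ lv b ∧ ∃ t : F, g = D.X a b t} ∪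
    {g | ∃ a, ∃ w, g = D.Y a w}) = ⊤) : D.p.ker ≤ D.TD := by
  intro g hg
  obtain ⟨h1, x, hu, hx⟩ := D.exists_cls_of_diag hA hrot hgen (g := g)
    ⟨1, LinearMap.id, by rw [MonoidHom.mem_ker.1 hg]; exact isMono_one⟩
  let u : V0 F κ := ⟨D.w1, hu⟩
  have hid : D.chiA (D.mkA g h1) = 1 := LinearEquiv.ext fun w => by
    show D.rPart g w = w
    rw [D.rPart_eq (R := LinearMap.id) (σ := 1) (c := 1) (by rw [MonoidHom.mem_ker.1 hg]; exact isMono_one)]
    rfl
  rw [hx, D.chiA_cls] at hid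
  have hfun : ∀ w, rW QW x.1 (rW QW D.w1 w) = w := fun w => LinearEquiv.congr_fun hid w
  have heq : ∀ w, rW QW x.1 w = rW QW D.w1 w := fun w => by
    have := hfun (rW QW D.w1 w)
    rwa [rW_rW] at this
  have h2 := heq D.w2
  rw [rW_apply, rW_apply, D.B_w12, mul_one, sub_right_inj] at h2
  have hq : (QW D.w1)⁻¹ ≠ 0 := inv_ne_zero (D.Q_w1 hA)
  have hprop : u.1 = ((QW D.w1) * ((QW x.1)⁻¹ * QuadraticMap.polar (⇑QW) x.1 D.w2)) • x.1 := by
    show D.w1 = _
    rw [mul_smul, h2, smul_smul, mul_inv_cancel₀ (D.Q_w1 hA), one_smul]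
  rw [D.cls_right hA x hprop, D.cls_self, mkA, QuotientGroup.eq_one_iff, Subgroup.mem_subgroupOf] at hx
  exact hx

/-- **The kernel consists of the images of at most two central elements.** -/
theorem exists_of_mem_ker (hgen : Subgroup.closure ({g | ∃ a b, lv a ≠ lv b ∧ ∃ t : F, g = D.X a b t} ∪
    {g | ∃ a, ∃ w, g = D.Y a w}) = ⊤) {g : M} (hg : g ∈ D.p.ker) :
    ∃ q : Schur.OrthPlus.P F n, (q : Fˣ × Fˣ).1 = 1 ∧ g = D.L (Schur.OrthPlus.phi D.hn q) := by
  obtain ⟨v, rfl⟩ := D.TD_le_range (D.ker_le_TD hA hrot hgen hg)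
  set T := Schur.OrthPlus.tau (F := F) D.hn v
  have hT : Schur.OrthPlus.theta F n T = 1 := DModel.E_ext fun x p => by
    have := congrFun ((D.act_L T).1 x) (.inl p)
    rw [show D.p (D.L T) = 1 from MonoidHom.mem_ker.1 hg, act_one] at this
    rw [act_one]
    exact this.symm
  obtain ⟨q, hq⟩ := Schur.OrthPlus.mem_range_phi D.hn (g := T) fun a b _ => by
    rw [hT]; exact Commute.one_left _
  refine ⟨q, ?_, by rw [hq]; rfl⟩
  have hm := Schur.OrthPlus.mono_phi D.hn q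
  rw [hq, hT] at hm
  have := hm (DModel.ev (Sum.inl (Schur.OrthPlus.i0 D.hn))) (Sum.inl (Schur.OrthPlus.i0 D.hn))
  exact Units.ext (by simpa [act_one, DModel.ev_apply] using this.symm)

end Ext

end Cfsg.Agent.Schur.OrthW
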