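import Cfsg.Agent.Lib.Schur.OrthW.Cells

/-!
# The kernel of a generated central extension lies in the torus
-/

set_option autoImplicit false

namespace Cfsg.Agent.Schur.OrthW

open CurtisTits CurtisTits.DType
open Cfsg.Agent.MaxCl Cfsg.Agent.MaxCl.Orth
open scoped MatrixGroups commutatorElement

universe u

namespace Ext

variable {F : Type u} [Field F] {n : ℕ} {κ : Type} [Fintype κ] [DecidableEq κ]
  {QW : QuadraticForm F (κ → F)} {M : Type u} [Group M] (D : Ext (n := n) QW M)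

set_option quotPrecheck false in
local notation "Bf" => QuadraticMap.polar (⇑(qf (F := F) n QW))

theorem lne {k : Fin n} {b : SIdx n} (h : k < lv b) : lv (Sum.inl k : SIdx n) ≠ lv b := ne_of_lt h

/-- The factor of a level in the positive unipotent group. -/
def Rk (k : Fin n) : Subgroup M :=
  Subgroup.closure ({g | ∃ b, k < lv b ∧ ∃ t, g = D.X (Sum.inl k) b t} ∪ {g | ∃ w, g = D.Y (Sum.inl k) w})

/-- The positive root elements of level at least `k`. -/
def Uk (k : ℕ) : Subgroup M :=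
  Subgroup.closure ({g | ∃ (i : Fin n) (b : SIdx n), k ≤ i.val ∧ i < lv b ∧ ∃ t, g = D.X (Sum.inl i) b t} ∪
    {g | ∃ i : Fin n, k ≤ i.val ∧ ∃ w, g = D.Y (Sum.inl i) w})

/-- The long root subgroup of `(k, b)` as a homomorphism, trivial when `b` is not above `k`. -/
noncomputable def hom (k : Fin n) (b : SIdx n) : Multiplicative F →* M where
  toFun t := if k < lv b then D.X (Sum.inl k) b t.toAdd else 1
  map_one' := by
    split_ifs with h
    · exact D.X_zero (lne h)
    · rfl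
  map_mul' t u := by
    split_ifs with h
    · exact D.X_add (lne h) _ _
    · exact (mul_one 1).symm

theorem hom_comm (k : Fin n) : Pairwise fun b b' => ∀ (x y : Multiplicative F), Commute (D.hom k b x) (D.hom k b' y) := by
  intro b b' _ x y
  simp only [hom, MonoidHom.coe_mk, OneHom.coe_mk]
  split_ifs with h h'
  · have hne : lv (Sum.inl k : SIdx n) ≠ lv b := ne_of_lt h
    have hne' : lv (Sum.inl k : SIdx n) ≠ lv b' := ne_of_lt h'
    by_cases e : b = b'
    · subst e; exact D.X_commute_self hne _ _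
    by_cases e' : b = ng b'
    · subst e'
      exact (D.lX_commute_two hne' y.toAdd x.toAdd (D.p_X hne' _)).symm
    exact D.X_comm hne hne' (DType.lv_ne.1 hne').1 (fun e => hne (congrArg lv e).symm) (ng_ne _).symm e' _ _
  all_goals first | exact Commute.one_right _ | exact Commute.one_left _

/-- The long part of a level as a homomorphism. -/
noncomputable def Phi (k : Fin n) : (SIdx n → Multiplicative F) →* M :=
  MonoidHom.noncommPiCoprod (D.hom k) (D.hom_comm k)

theorem Phi_single (k : Fin n) (b : SIdx n) (t : Multiplicative F) :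
    D.Phi k (Pi.mulSingle b t) = D.hom k b t :=
  MonoidHom.noncommPiCoprod_mulSingle (N := fun _ : SIdx n => Multiplicative F) _ b t

theorem Phi_commute_Y (k : Fin n) (t : SIdx n → Multiplicative F) (w : κ → F) :
    Commute (D.Phi k t) (D.Y (Sum.inl k) w) := by
  rw [← Finset.univ_prod_mulSingle t]
  refine Finset.prod_induction _ (fun t => Commute (D.Phi k t) (D.Y (Sum.inl k) w))
    (fun a b ha hb => by rw [map_mul]; exact ha.mul_left hb) (by rw [map_one]; exact Commute.one_left _)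
    fun b _ => ?_
  rw [Phi_single]
  simp only [hom, MonoidHom.coe_mk, OneHom.coe_mk]
  split_ifs with h
  · exact D.X_commute_Y (lne h) (fun e => lne h (congrArg lv e)) (by simp) _ w
  · exact Commute.one_left _

theorem p_Phi (k : Fin n) (t : SIdx n → Multiplicative F) :
    ∃ v, D.p (D.Phi k t) = sg (qf n QW) (e F κ (Sum.inl k)) v ∧ Bf (e F κ (Sum.inl k)) v = 0 ∧
      (∀ b, k < lv b → v (.inl (ng b)) = -(t b).toAdd) ∧ ∀ j, v (.inr j) = 0 := by
  classical
  let P : (SIdx n → Multiplicative F) → Prop := fun t =>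
    ∃ v, D.p (D.Phi k t) = sg (qf n QW) (e F κ (Sum.inl k)) v ∧ Bf (e F κ (Sum.inl k)) v = 0 ∧
      (∀ b, k < lv b → v (.inl (ng b)) = -(t b).toAdd) ∧ ∀ j, v (.inr j) = 0
  have hone : P 1 := ⟨0, by rw [map_one, map_one, sg_zero], B_zero_right _ _, fun b _ => by simp, fun _ => rfl⟩
  have hmul : ∀ t t', P t → P t' → P (t * t') := fun t t' ⟨v, e1, h1, c1, d1⟩ ⟨v', e2, h2, c2, d2⟩ =>
    ⟨v + v', by rw [map_mul, map_mul, e1, e2, sg_add _ (Q_e QW _) h1 h2], by rw [B_add_right, h1, h2, add_zero],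
      fun b hb => by rw [Pi.add_apply, c1 b hb, c2 b hb, Pi.mul_apply, toAdd_mul]; ring,
      fun j => by rw [Pi.add_apply, d1 j, d2 j, add_zero]⟩
  have hsingle : ∀ b s, P (Pi.mulSingle b s) := fun b s => by
    show ∃ v, _
    rw [Phi_single]
    simp only [hom, MonoidHom.coe_mk, OneHom.coe_mk]
    by_cases h : k < lv b
    · rw [if_pos h]
      have hne : lv (Sum.inl k : SIdx n) ≠ lv b := ne_of_lt h
      refine ⟨(-s.toAdd) • e F κ (ng b), D.p_X hne _, OrthW.hE QW hne _, fun c hc => ?_,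
        fun j => by simp [e_inr]⟩
      rw [Pi.smul_apply, e_inl, smul_eq_mul]
      by_cases hcb : c = b
      · subst hcb; simp
      · rw [if_neg (fun e => hcb (ng_inj.1 e)), Pi.mulSingle_eq_of_ne hcb]; simp
    · rw [if_neg h]
      refine ⟨0, by rw [map_one, sg_zero], B_zero_right _ _, fun c hc => ?_, fun _ => rfl⟩
      rw [Pi.mulSingle_eq_of_ne (fun e : c = b => h (by rwa [← e]))]; simp
  show P t
  rw [← Finset.univ_prod_mulSingle t]
  exact Finset.prod_induction _ P hmul hone fun i _ => hsingle i (t i)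

theorem exists_of_mem_Rk {k : Fin n} {g : M} (hg : g ∈ D.Rk k) :
    ∃ t w, g = D.Phi k t * D.Y (Sum.inl k) w := by
  unfold Rk at hg
  induction hg using Subgroup.closure_induction with
  | mem x hx =>
    rcases hx with ⟨b, hb, t, rfl⟩ | ⟨w, rfl⟩
    · refine ⟨Pi.mulSingle b (Multiplicative.ofAdd t), 0, ?_⟩
      rw [Phi_single, D.Y_zero, mul_one]
      simp [hom, if_pos hb]
    · exact ⟨1, w, by rw [map_one, one_mul]⟩
  | one => exact ⟨1, 0, by rw [map_one, D.Y_zero, mul_one]⟩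
  | mul x y _ _ ihx ihy =>
    obtain ⟨t, w, rfl⟩ := ihx
    obtain ⟨t', w', rfl⟩ := ihy
    refine ⟨t * t', w + w', ?_⟩
    rw [map_mul, D.Y_add, mul_assoc, ← mul_assoc (D.Y (Sum.inl k) w), ← (D.Phi_commute_Y k t' w).eq]
    group
  | inv x _ ihx =>
    obtain ⟨t, w, rfl⟩ := ihx
    refine ⟨t⁻¹, -w, ?_⟩
    rw [map_inv, D.Y_neg, mul_inv_rev]
    exact ((D.Phi_commute_Y k t w).inv_inv).eq.symm

theorem Uk_norm_Rk {k : Fin n} {u g : M} (hu : u ∈ D.Uk (k.val + 1)) (hg : g ∈ D.Rk k) :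
    u * g * u⁻¹ ∈ D.Rk k := by
  have hX : ∀ b : SIdx n, k < lv b → ∀ s, D.X (Sum.inl k) b s ∈ D.Rk k := fun b hb s =>
    Subgroup.subset_closure (Or.inl ⟨b, hb, s, rfl⟩)
  have hY : ∀ w, D.Y (Sum.inl k) w ∈ D.Rk k := fun w => Subgroup.subset_closure (Or.inr ⟨w, rfl⟩)
  have hconj : ∀ x, (∀ b, k < lv b → ∀ s, x * D.X (Sum.inl k) b s * x⁻¹ ∈ D.Rk k) →
      (∀ w, x * D.Y (Sum.inl k) w * x⁻¹ ∈ D.Rk k) → ∀ g ∈ D.Rk k, x * g * x⁻¹ ∈ D.Rk k := by
    intro x h1 h2 g hg
    refine (show D.Rk k ≤ (D.Rk k).comap (MulAut.conj x).toMonoidHom from ?_) hg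
    conv_lhs => rw [Rk]
    rw [Subgroup.closure_le]
    rintro _ (⟨b, hb, s, rfl⟩ | ⟨w, rfl⟩)
    · exact h1 b hb s
    · exact h2 w
  let K : Set M := {x | ∀ g ∈ D.Rk k, x * g * x⁻¹ ∈ D.Rk k}
  have genX : ∀ (c : Fin n) (d : SIdx n), k < c → c < lv d → ∀ t, D.X (Sum.inl c) d t ∈ K := by
    intro c d hkc hcd t
    have hkd : k < lv d := hkc.trans hcd
    have hcne : lv (Sum.inl c : SIdx n) ≠ lv d := ne_of_lt hcd
    refine hconj _ (fun b hb s => ?_) fun w => ?_
    · have hkb : lv (Sum.inl k : SIdx n) ≠ lv b := ne_of_lt hb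
      have case : ∀ (c' d' : SIdx n) (t : F), lv c' ≠ lv d' → k < lv d' → b = c' →
          D.X c' d' t * D.X (Sum.inl k) b s * (D.X c' d' t)⁻¹ ∈ D.Rk k := by
        intro c' d' t hne hd' e
        subst e
        have hkd' : lv (Sum.inl k : SIdx n) ≠ lv d' := ne_of_lt hd'
        rw [show D.X b d' t * D.X (Sum.inl k) b s * (D.X b d' t)⁻¹ =
          (D.X (Sum.inl k) d' (s * t))⁻¹ * D.X (Sum.inl k) b s by
            rw [mul_inv_eq_iff_eq_mul, mul_assoc _ (D.X (Sum.inl k) b s), D.X_chain hkb hne hkd']; group]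
        exact mul_mem (inv_mem (hX d' hd' _)) (hX b hb _)
      by_cases e1 : b = Sum.inl c
      · exact case _ _ t hcne hkd e1
      by_cases e2 : b = ng d
      · rw [show D.X (Sum.inl c) d t = D.X (ng d) (ng (Sum.inl c)) (-t) by rw [D.X_symm hcne, neg_neg]]
        exact case _ _ (-t) (by rw [lv_ng, lv_ng]; exact hcne.symm) (by rw [lv_ng]; exact hkc) e2
      rw [(D.X_comm hkb hcne (fun e => by rw [← e] at hkd; exact lt_irrefl _ hkd) e1
        (fun e => by simp at e) e2 s t).symm.eq, mul_inv_cancel_right]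
      exact hX b hb s
    · rw [(D.X_commute_Y hcne (fun e => by rw [← e] at hkd; exact lt_irrefl _ hkd) (by simp) t w).eq,
        mul_inv_cancel_right]
      exact hY w
  have genY : ∀ (c : Fin n), k < c → ∀ v, D.Y (Sum.inl c) v ∈ K := by
    intro c hkc v
    have hkc' : lv (Sum.inl k : SIdx n) ≠ lv (Sum.inl c : SIdx n) := ne_of_lt hkc
    have hmem : k < lv (ng (Sum.inl c) : SIdx n) := by rw [lv_ng]; exact hkc
    refine hconj _ (fun b hb s => ?_) fun w => ?_
    · have hkb : lv (Sum.inl k : SIdx n) ≠ lv b := ne_of_lt hb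
      by_cases e1 : (Sum.inl c : SIdx n) = b
      · subst e1
        rw [show D.Y (Sum.inl c) v * D.X (Sum.inl k) (Sum.inl c) s * (D.Y (Sum.inl c) v)⁻¹ =
            ⁅D.X (Sum.inl k) (Sum.inl c) s, D.Y (Sum.inl c) v⁆⁻¹ * D.X (Sum.inl k) (Sum.inl c) s by
          rw [commutatorElement_def]; group, D.comm_XY hkb]
        exact mul_mem (inv_mem (mul_mem (hY _) (hX _ hmem _))) (hX _ hb _)
      · rw [(D.X_commute_Y hkb e1 (by simp) s v).symm.eq, mul_inv_cancel_right]
        exact hX b hb s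
    · rw [show D.Y (Sum.inl c) v * D.Y (Sum.inl k) w * (D.Y (Sum.inl c) v)⁻¹ =
          ⁅D.Y (Sum.inl k) w, D.Y (Sum.inl c) v⁆⁻¹ * D.Y (Sum.inl k) w by
        rw [commutatorElement_def]; group, D.comm_YY hkc']
      exact mul_mem (inv_mem (hX _ hmem _)) (hY w)
  have main : ∀ x ∈ D.Uk (k.val + 1), x ∈ K ∧ x⁻¹ ∈ K := by
    intro x hx
    unfold Uk at hx
    induction hx using Subgroup.closure_induction with
    | mem x hx =>
      rcases hx with ⟨c, d, hkc, hcd, t, rfl⟩ | ⟨c, hkc, v, rfl⟩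
      · have h' : k < c := by rw [Fin.lt_def]; omega
        exact ⟨genX c d h' hcd t, by rw [← D.X_neg (lne hcd)]; exact genX c d h' hcd _⟩
      · have h' : k < c := by rw [Fin.lt_def]; omega
        exact ⟨genY c h' v, by rw [← D.Y_neg]; exact genY c h' _⟩
    | one => exact ⟨fun g hg => by simpa using hg, fun g hg => by simpa using hg⟩
    | mul x y _ _ ihx ihy =>
      refine ⟨fun g hg => ?_, fun g hg => ?_⟩
      · have := ihx.1 _ (ihy.1 g hg); simpa [mul_assoc] using this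
      · have := ihy.2 _ (ihx.2 g hg); simpa [mul_assoc] using this
    | inv x _ ih => exact ⟨ih.2, by rw [inv_inv]; exact ih.1⟩
  exact (main u hu).1 g hg

/-- **The positive unipotent group meets the diagonal elements trivially.** -/
theorem Uk_diag : ∀ m k, n ≤ k + m → ∀ {g : M}, g ∈ D.Uk k → g ∈ D.Diag → g = 1 := by
  intro m
  induction m with
  | zero =>
    intro k hk g hg _
    rw [Uk, Subgroup.closure_eq_bot_iff.2 (by
      rintro g (⟨i, -, hi, -⟩ | ⟨i, hi, -⟩) <;> exfalso <;> have := i.isLt <;> omega), Subgroup.mem_bot] at hg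
    exact hg
  | succ m ih =>
    intro k hk g hg hd
    by_cases hkn : n ≤ k
    · rw [Uk, Subgroup.closure_eq_bot_iff.2 (by
        rintro g (⟨i, -, hi, -⟩ | ⟨i, hi, -⟩) <;> exfalso <;> have := i.isLt <;> omega), Subgroup.mem_bot] at hg
      exact hg
    obtain ⟨K, rfl⟩ : ∃ K : Fin n, K.val = k := ⟨⟨k, by omega⟩, rfl⟩
    obtain ⟨r, hr, u, hu, rfl⟩ : ∃ r ∈ D.Rk K, ∃ u ∈ D.Uk (K.val + 1), g = r * u := by
      clear hd
      unfold Uk at hg
      induction hg using Subgroup.closure_induction with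
      | mem x hx =>
        rcases hx with ⟨i, b, hki, hib, t, rfl⟩ | ⟨i, hki, w, rfl⟩ <;> rcases eq_or_lt_of_le hki with e | e
        · obtain rfl : i = K := Fin.ext e.symm
          exact ⟨_, Subgroup.subset_closure (Or.inl ⟨b, hib, t, rfl⟩), 1, one_mem _, (mul_one _).symm⟩
        · exact ⟨1, one_mem _, _, Subgroup.subset_closure (Or.inl ⟨i, b, e, hib, t, rfl⟩), (one_mul _).symm⟩
        · obtain rfl : i = K := Fin.ext e.symm
          exact ⟨_, Subgroup.subset_closure (Or.inr ⟨w, rfl⟩), 1, one_mem _, (mul_one _).symm⟩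
        · exact ⟨1, one_mem _, _, Subgroup.subset_closure (Or.inr ⟨i, e, w, rfl⟩), (one_mul _).symm⟩
      | one => exact ⟨1, one_mem _, 1, one_mem _, (mul_one 1).symm⟩
      | mul x y _ _ ihx ihy =>
        obtain ⟨r, hr, u, hu, rfl⟩ := ihx
        obtain ⟨r', hr', u', hu', rfl⟩ := ihy
        exact ⟨r * (u * r' * u⁻¹), mul_mem hr (D.Uk_norm_Rk hu hr'), u * u', mul_mem hu hu', by group⟩
      | inv x _ ihx =>
        obtain ⟨r, hr, u, hu, rfl⟩ := ihx
        refine ⟨u⁻¹ * r⁻¹ * u, ?_, u⁻¹, inv_mem hu, by group⟩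
        have := D.Uk_norm_Rk (inv_mem hu) (inv_mem hr)
        rwa [inv_inv] at this
    -- `u` fixes the vector `f`
    set f : J n κ → F := e F κ (Sum.inr K) with hf
    have hfix : act (D.p u) f = f := by
      let St : Subgroup M :=
        { carrier := {h | act (D.p h) f = f}
          one_mem' := by simp [act_one]
          mul_mem' := fun {x y} hx hy => by
            simp only [Set.mem_setOf_eq, map_mul, act_mul] at hx hy ⊢
            rw [hy, hx]
          inv_mem' := fun {x} hx => by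
            simp only [Set.mem_setOf_eq, map_inv] at hx ⊢
            conv_lhs => rw [← hx]
            exact act_inv_act _ _ }
      refine (show D.Uk (K.val + 1) ≤ St from ?_) hu
      rw [Uk, Subgroup.closure_le]
      rintro _ (⟨c, d, hkc, hcd, t, rfl⟩ | ⟨c, hkc, w, rfl⟩)
      · show act (D.p _) f = f
        rw [D.p_X (lne hcd)]
        refine act_E_e_fix QW (lne hcd) t ?_ ?_
        · intro e; simp [ng] at e; subst e; omega
        · intro e; subst e
          have h2 : c.val < K.val := hcd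
          omega
      · show act (D.p _) f = f
        rw [D.p_Y]
        refine act_S_e_fix QW w ?_
        intro e; simp [ng] at e; subst e; omega
    obtain ⟨c, R, hm⟩ := hd
    have hgf := hm.map_e (Sum.inr K)
    rw [map_mul, act_mul, hfix, Equiv.Perm.one_apply] at hgf
    obtain ⟨t, w, rfl⟩ := D.exists_of_mem_Rk hr
    obtain ⟨v, e1, h1, c1, d1⟩ := D.p_Phi K t
    have hKe : ng (Sum.inl K : SIdx n) = Sum.inr K := rfl
    rw [map_mul, e1, D.p_Y, S, sg_add _ (Q_e QW _) h1 (OrthW.hS QW _ _),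
      act_sg _ (Q_e QW _) (by rw [B_add_right, h1, OrthW.hS QW, add_zero]), B_e, hf, e_inl, hKe, if_pos rfl,
      one_smul] at hgf
    have ht : ∀ b, K < lv b → t b = 1 := fun b hb => by
      have hb1 : ng b ≠ Sum.inl K := fun e => (ne_of_lt hb) (by rw [← lv_ng b, e]; rfl)
      have hb2 : ng b ≠ Sum.inr K := fun e => (ne_of_lt hb) (by rw [← lv_ng b, e]; rfl)
      have := congrFun hgf (.inl (ng b))
      simp only [Pi.add_apply, Pi.sub_apply, Pi.smul_apply, e_inl, wv_inl, c1 b hb, if_neg hb1, if_neg hb2,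
        smul_zero, add_zero, zero_add, sub_zero, neg_eq_zero] at this
      exact toAdd_eq_zero.1 this
    have hw : w = 0 := funext fun j => by
      have := congrFun hgf (.inr j)
      simpa [e_inr, wv_inr, d1 j] using this
    have hr1 : D.Phi K t = 1 := by
      rw [← Finset.univ_prod_mulSingle t]
      refine Finset.prod_induction _ (fun t => D.Phi K t = 1) (fun a b ha hb => by rw [map_mul, ha, hb, mul_one])
        (map_one _) fun b _ => ?_
      rw [Phi_single]
      simp only [hom, MonoidHom.coe_mk, OneHom.coe_mk]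
      split_ifs with hb
      · rw [ht b hb]; exact D.X_zero (lne hb)
      · rfl
    rw [hr1, hw, D.Y_zero, one_mul, one_mul]
    exact ih (K.val + 1) (by omega) hu ⟨c, R, by simpa [hr1, hw, D.Y_zero] using hm⟩

theorem U_diag {g : M} (hg : g ∈ D.data.U) (hd : g ∈ D.Diag) : g = 1 := by
  refine D.Uk_diag n 0 (by omega) ((show D.data.U ≤ D.Uk 0 from iSup₂_le fun r hr => ?_) hg) hd
  intro y hy
  rcases r with ⟨⟨c, d⟩, h⟩ | a <;> obtain ⟨t, rfl⟩ := hy <;> obtain ⟨i, hi⟩ := hr
  · change c = Sum.inl i at hi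
    subst hi
    exact Subgroup.subset_closure (Or.inl ⟨i, d, Nat.zero_le _, h, t, rfl⟩)
  · subst hi
    exact Subgroup.subset_closure (Or.inr ⟨i, Nat.zero_le _, t, rfl⟩)

/-- **Elements acting diagonally lie in the torus.** -/
theorem mem_H_of_diag (hA : ∀ w, QW w = 0 → w = 0)
    (hgen : Subgroup.closure ({g | ∃ a b, lv a ≠ lv b ∧ ∃ t : F, g = D.X a b t} ∪
      {g | ∃ a, ∃ w, g = D.Y a w}) = ⊤) {g : M} (hg : g ∈ D.Diag) : g ∈ D.H := by
  have ax := D.axioms hA
  have hgrp : D.data.grp = ⊤ := by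
    rw [eq_top_iff, ← hgen, Subgroup.closure_le]
    rintro _ (⟨a, b, h, t, rfl⟩ | ⟨a, w, rfl⟩)
    · exact D.X_le_grp h t
    · exact D.Y_le_grp a w
  have hgU : D.p g ∈ UT := by
    obtain ⟨c, R, hm⟩ := hg
    exact diag_mem_UT hm
  have hB : g ∈ D.data.B := by
    obtain ⟨l, hl⟩ := RootBN.Data.exists_cell ax (hgrp.symm ▸ Subgroup.mem_top g)
    by_contra hgB
    have hne : D.data.wl l ≠ 1 := fun e => hgB ((RootBN.Data.mem_cell_one ax).1 (e ▸ hl))
    obtain ⟨i, hi⟩ := RootBN.Data.exists_simp_neg ax l hne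
    obtain ⟨b, hb, c, hc, e⟩ :=
      (RootBN.Data.mem_cell_iff ax (RootBN.Data.nw_mem_N l) (RootBN.Data.acts_nw ax l)).1 hl
    set w := D.data.nw l
    have hUT : ∀ {y}, y ∈ D.data.B → D.p y ∈ UT := fun hy => D.map_B_le ⟨_, hy, rfl⟩
    have hw : D.p w ∈ UT := by
      rw [show D.p w = (D.p b)⁻¹ * D.p g * (D.p c)⁻¹ by rw [e, map_mul, map_mul]; group]
      exact mul_mem (mul_mem (inv_mem (hUT hb)) hgU) (inv_mem (hUT hc))
    obtain ⟨x, hx, hx1⟩ : ∃ x ∈ D.XR (simpB i), x ≠ 1 := by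
      have := ax.X_ne_bot (D.data.simp i)
      rw [Subgroup.ne_bot_iff_exists_ne_one] at this
      obtain ⟨⟨x, hx⟩, hne'⟩ := this
      exact ⟨x, hx, fun e => hne' (Subtype.ext e)⟩
    have hy : w * x * w⁻¹ ∈ D.XR (D.data.wl l (simpB i)) := (RootBN.Data.acts_nw ax l _ x).2 hx
    have hm : D.p (w * x * w⁻¹) ∈ UT := by
      rw [map_mul, map_mul, map_inv]
      exact mul_mem (mul_mem hw (hUT (RootBN.Data.X_simp_le_B ax i hx))) (inv_mem hw)
    have := D.neg_not_UT hi hy hm
    exact hx1 (conj_eq_one_iff.1 this)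
  obtain ⟨u, hu, h, hh, rfl⟩ := (RootBN.Data.mem_B_iff ax).1 hB
  have hd : u ∈ D.Diag := by simpa using mul_mem hg (inv_mem (D.H_le_Diag hh))
  rw [D.U_diag hu hd, one_mul]
  exact hh

/-- **The kernel lies in the torus.** -/
theorem ker_le_H (hA : ∀ w, QW w = 0 → w = 0)
    (hgen : Subgroup.closure ({g | ∃ a b, lv a ≠ lv b ∧ ∃ t : F, g = D.X a b t} ∪
      {g | ∃ a, ∃ w, g = D.Y a w}) = ⊤) : D.p.ker ≤ D.H := fun g hg =>
  D.mem_H_of_diag hA hgen ⟨1, LinearMap.id, by rw [MonoidHom.mem_ker.1 hg]; exact isMono_one⟩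

end Ext

end Cfsg.Agent.Schur.OrthW
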