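import Cfsg.Agent.Lib.Schur.OrthW.Model
import Cfsg.Agent.Lib.Schur.PerfectCover

/-!
# Canonical lifts of the root elements through a central extension

Long root elements are lifted as commutators of short ones.  The only hypothesis is that lifts of a long and a
short root element commute when the sum of the roots is not a root (`hC`).
-/

set_option autoImplicit false

namespace Cfsg.Agent.Schur.OrthW

open CurtisTits CurtisTits.DType
open Cfsg.Agent.MaxCl Cfsg.Agent.MaxCl.Orth
open scoped MatrixGroups commutatorElement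

universe u

/-- A central extension of a group containing the root elements. -/
structure Ext {F : Type u} [Field F] {n : ℕ} {κ : Type} [Fintype κ] [DecidableEq κ]
    (QW : QuadraticForm F (κ → F)) (M : Type u) [Group M] where
  /-- the projection -/
  p : M →* GL (J n κ) F
  central : p.ker ≤ Subgroup.center M
  memE : ∀ a b, lv a ≠ lv b → ∀ t, E QW a b t ∈ p.range
  memS : ∀ a w, S QW a w ∈ p.range
  hn : 3 ≤ n
  hC : ∀ a c d, lv c ≠ lv d → a ≠ d → a ≠ ng c → ∀ (t : F) (w : κ → F) (g h : M),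
    p g = E QW c d t → p h = S QW a w → Commute g h
  hB : ∃ w w' : κ → F, QuadraticMap.polar (⇑QW) w w' = 1

namespace Ext

variable {F : Type u} [Field F] {n : ℕ} {κ : Type} [Fintype κ] [DecidableEq κ]
  {QW : QuadraticForm F (κ → F)} {M : Type u} [Group M] (D : Ext (n := n) QW M)

set_option quotPrecheck false in
local notation "P2" => QuadraticMap.polar (⇑QW)

/-- Some lift. -/
noncomputable def lift (g : GL (J n κ) F) : M := by
  classical exact if h : g ∈ D.p.range then h.choose else 1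

theorem p_lift {g : GL (J n κ) F} (h : g ∈ D.p.range) : D.p (D.lift g) = g := by
  rw [lift, dif_pos h]; exact h.choose_spec

/-- A lift of a long root element. -/
noncomputable def lX (a b : SIdx n) (t : F) : M := D.lift (E QW a b t)

/-- A lift of a short root element. -/
noncomputable def lY (a : SIdx n) (w : κ → F) : M := D.lift (S QW a w)

theorem p_lX {a b : SIdx n} (h : lv a ≠ lv b) (t : F) : D.p (D.lX a b t) = E QW a b t := D.p_lift (D.memE a b h t)

theorem p_lY (a : SIdx n) (w : κ → F) : D.p (D.lY a w) = S QW a w := D.p_lift (D.memS a w)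

include D in
theorem congr {g g' h h' : M} (e1 : D.p g = D.p g') (e2 : D.p h = D.p h') : ⁅g, h⁆ = ⁅g', h'⁆ :=
  Schur.commutator_congr D.central e1 e2

/-- Replacing an element by one with the same image preserves commuting. -/
theorem commute_congr {g g' h : M} (e : D.p g = D.p g') (hc : Commute g' h) : Commute g h := by
  rw [← commutatorElement_eq_one_iff_commute] at hc ⊢
  rw [D.congr e rfl, hc]

theorem commute_congr' {g g' h : M} (e : D.p g = D.p g') (hc : Commute h g') : Commute h g :=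
  (D.commute_congr e hc.symm).symm

/-! ### The long root elements -/

/-- The commutator of two short lifts. -/
noncomputable def lam (a b : SIdx n) (w w' : κ → F) : M := ⁅D.lY a w, D.lY b w'⁆

theorem p_lam {a b : SIdx n} (h : lv a ≠ lv b) (w w' : κ → F) :
    D.p (D.lam a b w w') = E QW a (ng b) (-P2 w w') := by
  rw [lam, map_commutatorElement, D.p_lY, D.p_lY, comm_SS QW h]

theorem lam_eq {a b : SIdx n} {w w' : κ → F} {g g' : M} (h1 : D.p g = S QW a w) (h2 : D.p g' = S QW b w') :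
    ⁅g, g'⁆ = D.lam a b w w' := D.congr (h1.trans (D.p_lY a w).symm) (h2.trans (D.p_lY b w').symm)

/-- Elements over `E a (-b)` commute with the short lifts at `a` and at `b`. -/
theorem long_commute {a b : SIdx n} (h : lv a ≠ lv b) {t : F} {g : M} (hg : D.p g = E QW a (ng b) t)
    (w : κ → F) : Commute g (D.lY a w) ∧ Commute g (D.lY b w) := by
  have h' : lv a ≠ lv (ng b) := by rwa [lv_ng]
  refine ⟨D.hC a a (ng b) h' (fun e => (DType.lv_ne.1 h).2 e) (ng_ne a).symm t w g _ hg (D.p_lY a w),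
    D.hC b a (ng b) h' (ng_ne b).symm (fun e => (DType.lv_ne.1 h).2 (by rw [e, ng_ng])) t w g _ hg (D.p_lY b w)⟩

theorem lam_swap (a b : SIdx n) (w w' : κ → F) : D.lam b a w' w = (D.lam a b w w')⁻¹ :=
  (commutatorElement_inv (D.lY a w) (D.lY b w')).symm

theorem lam_add_right {a b : SIdx n} (h : lv a ≠ lv b) (w w' w'' : κ → F) :
    D.lam a b w (w' + w'') = D.lam a b w w' * D.lam a b w w'' := by
  have hc := (D.long_commute h (D.p_lam h w w'') w').2
  rw [lam, D.congr (g' := D.lY a w) (h' := D.lY b w' * D.lY b w'') rfl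
    (by rw [map_mul, D.p_lY, D.p_lY, D.p_lY, S_add])]
  calc ⁅D.lY a w, D.lY b w' * D.lY b w''⁆
      = ⁅D.lY a w, D.lY b w'⁆ * (D.lY b w' * ⁅D.lY a w, D.lY b w''⁆ * (D.lY b w')⁻¹) := by
        simp only [commutatorElement_def]; group
    _ = _ := by
      rw [show ⁅D.lY a w, D.lY b w''⁆ = D.lam a b w w'' from rfl, ← hc.eq, mul_inv_cancel_right]; rfl

theorem lam_add_left {a b : SIdx n} (h : lv a ≠ lv b) (w w' w'' : κ → F) :
    D.lam a b (w + w') w'' = D.lam a b w w'' * D.lam a b w' w'' := by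
  rw [← inv_inj, mul_inv_rev, ← D.lam_swap, ← D.lam_swap, ← D.lam_swap, D.lam_add_right h.symm]
  have hc : Commute (D.lam b a w'' w) (D.lam b a w'' w') := by
    have e2 := (D.long_commute h.symm (D.p_lam h.symm w'' w) w').2
    have e1 := (D.long_commute h.symm (D.p_lam h.symm w'' w) w'').1
    exact (((e1.mul_right e2).mul_right e1.inv_right).mul_right e2.inv_right)
  exact hc.eq

/-- **Moving**: the commutator of two short lifts is a commutator of two long ones. -/
theorem move {a b c : SIdx n} (h1 : lv a ≠ lv b) (h2 : lv b ≠ lv c) (h3 : lv a ≠ lv c) (w w' : κ → F) (t : F) :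
    D.lam a b w (t • w') = ⁅D.lX b c t, D.lX a (ng c) (-P2 w w')⁆ := by
  have h2' : lv b ≠ lv (ng c) := by rwa [lv_ng]
  have h3' : lv a ≠ lv (ng c) := by rwa [lv_ng]
  have n1 := DType.lv_ne.1 h1
  have n2 := DType.lv_ne.1 h2
  have n3 := DType.lv_ne.1 h3
  set A := D.lY a w with hA
  set K := D.lX b c t with hK
  set Y := D.lY c w' with hY
  set X := D.lX b (ng c) (t * QW w') with hX
  set L := ⁅A, Y⁆ with hL
  have hpL : D.p L = E QW a (ng c) (-P2 w w') := D.p_lam h3 w w'
  have pZ : D.p ⁅K, Y⁆ = S QW b (t • w') * E QW b (ng c) (t * QW w') := by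
    rw [map_commutatorElement, D.p_lX h2, D.p_lY, comm_ES QW h2]
  have e0 : D.lam a b w (t • w') = ⁅A, ⁅K, Y⁆ * X⁻¹⁆ := by
    refine (D.lam_eq (D.p_lY a w) ?_).symm
    rw [map_mul, map_inv, pZ, D.p_lX h2', mul_inv_cancel_right]
  have cAX : Commute A X := (D.hC a b (ng c) h2' (fun e => n3.2 e) n1.2 _ w X A (D.p_lX h2' _) (D.p_lY a w)).symm
  have e1 : ⁅A, ⁅K, Y⁆ * X⁻¹⁆ = ⁅A, ⁅K, Y⁆⁆ := by
    have := commutatorElement_eq_one_iff_commute.2 cAX.inv_right
    calc ⁅A, ⁅K, Y⁆ * X⁻¹⁆ = ⁅A, ⁅K, Y⁆⁆ * (⁅K, Y⁆ * ⁅A, X⁻¹⁆ * ⁅K, Y⁆⁻¹) := by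
          simp only [commutatorElement_def]; group
      _ = _ := by rw [this]; group
  have cAK : Commute A K := (D.hC a b c h2 n3.1 n1.2 t w K A (D.p_lX h2 t) (D.p_lY a w)).symm
  have cLZ : Commute L ⁅K, Y⁆ := by
    have c1 : Commute L (D.lY b (t • w')) := D.hC b a (ng c) h3' (fun e => n2.2 e)
      (fun e => n1.2 (by rw [e, ng_ng])) _ _ L _ hpL (D.p_lY b _)
    have cY : Commute Y X := ((D.long_commute h2 (D.p_lX h2' _) w').2).symm
    have c2 : Commute L X := ((cAX.mul_left cY).mul_left cAX.inv_left).mul_left cY.inv_left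
    exact D.commute_congr' (by rw [pZ, map_mul, D.p_lY, D.p_lX h2']) (c1.mul_right c2)
  have e2 : ⁅A, ⁅K, Y⁆⁆ = ⁅K, L⁆ := by
    have f1 : A * ⁅K, Y⁆ * A⁻¹ = ⁅K, L * Y⁆ := by
      rw [conjugate_commutatorElement, cAK.eq, mul_inv_cancel_right]
      congr 1
      rw [hL, commutatorElement_def]; group
    calc ⁅A, ⁅K, Y⁆⁆ = ⁅K, L * Y⁆ * ⁅K, Y⁆⁻¹ := by rw [← f1]; rfl
      _ = ⁅K, L⁆ * (L * ⁅K, Y⁆ * L⁻¹) * ⁅K, Y⁆⁻¹ := by simp only [commutatorElement_def]; group
      _ = _ := by rw [cLZ.eq]; group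
  rw [e0, e1, e2]
  exact D.congr rfl (hpL.trans (D.p_lX h3' _).symm)

/-- The commutator of two short lifts depends only on the value of the form. -/
theorem lam_depends {a b : SIdx n} (h : lv a ≠ lv b) {w w' v v' : κ → F} (e : P2 w w' = P2 v v') :
    D.lam a b w w' = D.lam a b v v' := by
  obtain ⟨c, hac, hbc⟩ := RelsD.exists_third D.hn a b
  have e1 := D.move h hbc hac w w' 1
  have e2 := D.move h hbc hac v v' 1
  rw [one_smul] at e1 e2
  rw [e1, e2, e]

/-- A first vector with `B = 1`. -/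
noncomputable def w1 : κ → F := D.hB.choose

/-- A second vector with `B = 1`. -/
noncomputable def w2 : κ → F := D.hB.choose_spec.choose

theorem B_w12 : P2 D.w1 D.w2 = 1 := D.hB.choose_spec.choose_spec

/-- **The canonical lift of a long root element.** -/
noncomputable def X (a b : SIdx n) (t : F) : M := D.lam a (ng b) ((-t) • D.w1) D.w2

theorem p_X {a b : SIdx n} (h : lv a ≠ lv b) (t : F) : D.p (D.X a b t) = E QW a b t := by
  rw [X, D.p_lam (show lv a ≠ lv (ng b) by rwa [lv_ng]), ng_ng, QuadraticMap.polar_smul_left, D.B_w12, smul_eq_mul,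
    mul_one, neg_neg]

theorem lam_X {a b : SIdx n} (h : lv a ≠ lv b) (w w' : κ → F) : D.lam a b w w' = D.X a (ng b) (-P2 w w') := by
  rw [X, ng_ng]
  exact D.lam_depends h (by rw [QuadraticMap.polar_smul_left, D.B_w12, smul_eq_mul, mul_one, neg_neg])

theorem X_add {a b : SIdx n} (h : lv a ≠ lv b) (t u : F) : D.X a b (t + u) = D.X a b t * D.X a b u := by
  rw [X, X, X, neg_add, add_smul, D.lam_add_left (show lv a ≠ lv (ng b) by rwa [lv_ng])]

theorem X_zero {a b : SIdx n} (h : lv a ≠ lv b) : D.X a b 0 = 1 := by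
  have := D.X_add h 0 0
  rw [add_zero] at this
  exact left_eq_mul.1 this

theorem X_neg {a b : SIdx n} (h : lv a ≠ lv b) (t : F) : D.X a b (-t) = (D.X a b t)⁻¹ :=
  eq_inv_of_mul_eq_one_left (by rw [← D.X_add h, neg_add_cancel, D.X_zero h])

theorem X_symm {a b : SIdx n} (h : lv a ≠ lv b) (t : F) : D.X (ng b) (ng a) t = D.X a b (-t) := by
  have h' : lv a ≠ lv (ng b) := by rwa [lv_ng]
  rw [D.X_neg h, X, ng_ng, X, ← D.lam_swap]
  exact D.lam_depends h'.symm (QuadraticMap.polar_comm _ _ _)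

theorem X_chain_comm {a b c : SIdx n} (h1 : lv a ≠ lv b) (h2 : lv b ≠ lv c) (h3 : lv a ≠ lv c) (t u : F) :
    ⁅D.X a b t, D.X b c u⁆ = D.X a c (t * u) := by
  have ha : lv a ≠ lv (ng c) := by rwa [lv_ng]
  have hb : lv b ≠ lv (ng c) := by rwa [lv_ng]
  have h2' : lv (ng c) ≠ lv (ng b) := by rw [lv_ng, lv_ng]; exact h2.symm
  have h3' : lv (ng c) ≠ lv (ng a) := by rw [lv_ng, lv_ng]; exact h3.symm
  have hm := D.move (a := ng c) (b := a) (c := b) ha.symm h1 hb.symm (u • D.w1) D.w2 t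
  rw [D.lam_X ha.symm, QuadraticMap.polar_smul_right, QuadraticMap.polar_smul_left, D.B_w12, smul_eq_mul,
    smul_eq_mul, mul_one, D.X_symm h3, neg_neg] at hm
  rw [hm]
  refine D.congr (by rw [D.p_X h1, D.p_lX h1]) ?_
  rw [D.p_X h2, D.p_lX h2', E_symm QW h2, neg_neg]

theorem X_chain {a b c : SIdx n} (h1 : lv a ≠ lv b) (h2 : lv b ≠ lv c) (h3 : lv a ≠ lv c) (t u : F) :
    D.X a b t * D.X b c u = D.X a c (t * u) * D.X b c u * D.X a b t := by
  rw [← D.X_chain_comm h1 h2 h3, commutatorElement_def]; group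

theorem lX_commute_X {a b c d : SIdx n} (h : lv a ≠ lv b) (h' : lv c ≠ lv d) (had : a ≠ d) (hbc : b ≠ c)
    (hac : a ≠ ng c) (hbd : b ≠ ng d) (t u : F) {g : M} (hg : D.p g = E QW a b t) : Commute g (D.X c d u) := by
  have c1 : Commute g (D.lY c ((-u) • D.w1)) := D.hC c a b h hbc.symm
    (fun e => hac (by rw [e, ng_ng])) t _ g _ hg (D.p_lY c _)
  have c2 : Commute g (D.lY (ng d) D.w2) := D.hC (ng d) a b h (fun e => hbd e.symm)
    (fun e => had (ng_inj.1 e).symm) t _ g _ hg (D.p_lY _ _)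
  exact ((c1.mul_right c2).mul_right c1.inv_right).mul_right c2.inv_right

theorem X_comm {a b c d : SIdx n} (h : lv a ≠ lv b) (h' : lv c ≠ lv d) (had : a ≠ d) (hbc : b ≠ c)
    (hac : a ≠ ng c) (hbd : b ≠ ng d) (t u : F) : Commute (D.X a b t) (D.X c d u) :=
  D.lX_commute_X h h' had hbc hac hbd t u (D.p_X h t)

/-- Exact long elements commute with the short lifts whenever the roots permit. -/
theorem X_commute_lY {a c d : SIdx n} (h : lv c ≠ lv d) (h1 : a ≠ d) (h2 : a ≠ ng c) (t : F) (w : κ → F) {g : M}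
    (hg : D.p g = S QW a w) : Commute (D.X c d t) g := D.hC a c d h h1 h2 t w _ g (D.p_X h t) hg

theorem X_commute_self {a b : SIdx n} (h : lv a ≠ lv b) (t u : F) : Commute (D.X a b t) (D.X a b u) := by
  show _ = _
  rw [← D.X_add h, add_comm, D.X_add h]

/-- **The short root group at `a` has abelian preimage.** -/
theorem lY_commute (a : SIdx n) (w w' : κ → F) : Commute (D.lY a w) (D.lY a w') := by
  obtain ⟨b, hab, -⟩ := RelsD.exists_third D.hn a a
  have hab' : lv a ≠ lv (ng b) := by rwa [lv_ng]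
  set K := D.X a b 1 with hK
  have hc : ∀ a w w', D.p ⁅D.lY a w, D.lY a w'⁆ = 1 := fun a w w' => by
    rw [map_commutatorElement, D.p_lY, D.p_lY, commutatorElement_eq_one_iff_commute]
    show _ = _
    rw [← S_add, add_comm, S_add]
  have hcen : ∀ a w w', ⁅D.lY a w, D.lY a w'⁆ ∈ Subgroup.center M := fun a w w' => D.central (hc a w w')
  have conj : ∀ v, D.p (K * D.lY b v * K⁻¹) = D.p (D.lY a v * D.X a (ng b) (QW v) * D.lY b v) := fun v => by
    rw [show K * D.lY b v * K⁻¹ = ⁅K, D.lY b v⁆ * D.lY b v by rw [commutatorElement_def]; group, map_mul, map_mul,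
      map_mul, map_commutatorElement, D.p_X hab, D.p_lY, D.p_lY, D.p_X hab', comm_ES QW hab, one_smul, one_mul]
  set A := D.lY a w
  set A' := D.lY a w'
  set y := D.lY b w
  set y' := D.lY b w'
  set X1 := D.X a (ng b) (QW w)
  set X2 := D.X a (ng b) (QW w')
  have e1 : ⁅y, y'⁆ = ⁅A * X1 * y, A' * X2 * y'⁆ := by
    calc ⁅y, y'⁆ = K * ⁅y, y'⁆ * K⁻¹ := by rw [Subgroup.mem_center_iff.1 (hcen b w w') K, mul_inv_cancel_right]
      _ = ⁅K * y * K⁻¹, K * y' * K⁻¹⁆ := conjugate_commutatorElement _ _ _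
      _ = _ := D.congr (conj w) (conj w')
  have cX : ∀ s v, Commute (D.X a (ng b) s) (D.lY a v) ∧ Commute (D.X a (ng b) s) (D.lY b v) :=
    fun s v => D.long_commute hab (D.p_X hab' s) v
  have cXX : ∀ s s', Commute (D.X a (ng b) s) (D.X a (ng b) s') := D.X_commute_self hab'
  have hab2 : D.lam a b w w' = ⁅A, y'⁆ := rfl
  have ey : y * A' = D.X a (ng b) (P2 w w') * A' * y := by
    have hs : ⁅y, A'⁆ = D.X a (ng b) (P2 w w') := by
      show D.lam b a w w' = _
      rw [D.lam_X hab.symm]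
      have := D.X_symm hab' (-P2 w w')
      rw [ng_ng, neg_neg] at this
      exact this
    rw [← hs, commutatorElement_def]; group
  have eA : A * y' = D.X a (ng b) (-P2 w w') * y' * A := by
    rw [← D.lam_X hab, hab2, commutatorElement_def]; group
  -- the commutator of the two products
  have e2 : ⁅A * X1 * y, A' * X2 * y'⁆ = ⁅A, A'⁆ * ⁅y, y'⁆ := by
    have drop : ∀ x g h : M, Commute x g → Commute x h → ⁅x * g, h⁆ = ⁅g, h⁆ ∧ ⁅h, x * g⁆ = ⁅h, g⁆ := by
      intro x g h cg ch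
      have c : Commute x ⁅g, h⁆ := ((cg.mul_right ch).mul_right cg.inv_right).mul_right ch.inv_right
      have key : ⁅x * g, h⁆ = ⁅g, h⁆ := by
        rw [show ⁅x * g, h⁆ = x * ⁅g, h⁆ * x⁻¹ * ⁅x, h⁆ by simp only [commutatorElement_def]; group,
          c.eq, mul_inv_cancel_right, commutatorElement_eq_one_iff_commute.2 ch, mul_one]
      exact ⟨key, by rw [← commutatorElement_inv, key, commutatorElement_inv]⟩
    have b1 : A * X1 * y = X1 * (A * y) := by rw [← (cX _ w).1.eq, mul_assoc]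
    have b2 : A' * X2 * y' = X2 * (A' * y') := by rw [← (cX _ w').1.eq, mul_assoc]
    rw [b1, b2, (drop X1 (A * y) _ ((cX _ w).1.mul_right (cX _ w).2)
        ((cXX _ _).mul_right ((cX _ w').1.mul_right (cX _ w').2))).1,
      (drop X2 (A' * y') (A * y) ((cX _ w').1.mul_right (cX _ w').2) ((cX _ w).1.mul_right (cX _ w).2)).2]
    set s := P2 w w'
    have hs : ⁅y, A'⁆ = D.X a (ng b) s := by rw [commutatorElement_def, ey]; group
    have hn : ⁅A, y'⁆ = D.X a (ng b) (-s) := by rw [commutatorElement_def, eA]; group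
    have zA := Subgroup.mem_center_iff.1 (hcen a w w')
    have zy := Subgroup.mem_center_iff.1 (hcen b w w')
    calc ⁅A * y, A' * y'⁆
        = (A * ⁅y, A'⁆ * A⁻¹ * ⁅A, A'⁆) * (A' * (A * ⁅y, y'⁆ * A⁻¹ * ⁅A, y'⁆) * A'⁻¹) := by
          simp only [commutatorElement_def]; group
      _ = (D.X a (ng b) s * ⁅A, A'⁆) * (⁅y, y'⁆ * D.X a (ng b) (-s)) := by
          rw [hs, hn, ← (cX _ w).1.eq, mul_inv_cancel_right, zy A, mul_inv_cancel_right,
            show A' * (⁅y, y'⁆ * D.X a (ng b) (-s)) = ⁅y, y'⁆ * D.X a (ng b) (-s) * A' by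
              rw [← mul_assoc, zy A', mul_assoc _ A', ← (cX _ w').1.eq, mul_assoc], mul_inv_cancel_right]
      _ = _ := by
          rw [show D.X a (ng b) s * ⁅A, A'⁆ * (⁅y, y'⁆ * D.X a (ng b) (-s)) =
            D.X a (ng b) s * (⁅A, A'⁆ * ⁅y, y'⁆) * D.X a (ng b) (-s) by group,
            Subgroup.mem_center_iff.1 (mul_mem (hcen a w w') (hcen b w w')) (D.X a (ng b) s), mul_assoc,
            ← D.X_add hab', add_neg_cancel, D.X_zero hab', mul_one]
  rw [e2] at e1
  exact commutatorElement_eq_one_iff_commute.1 (right_eq_mul.1 e1)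

/-- Lifts of `X a b` and `X a (-b)` commute. -/
theorem lX_commute_two {a b : SIdx n} (h : lv a ≠ lv b) (t u : F) {g : M} (hg : D.p g = E QW a b t) :
    Commute g (D.X a (ng b) u) := by
  have h' : lv a ≠ lv (ng b) := by rwa [lv_ng]
  rw [X, ng_ng]
  set w := (-u) • D.w1
  set A := D.lY a w
  set y := D.lY b D.w2
  show Commute g ⁅A, y⁆
  have hn1 := DType.lv_ne.1 h
  have cA : Commute g A := D.hC a a b h hn1.1 (ng_ne a).symm t w g _ hg (D.p_lY a _)
  suffices e : g * ⁅A, y⁆ * g⁻¹ = ⁅A, y⁆ from mul_inv_eq_iff_eq_mul.1 e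
  set A' := D.lY a (t • D.w2)
  set X' := D.X a (ng b) (t * QW D.w2)
  have cA' : Commute A (A' * X') :=
    (D.lY_commute a w _).mul_right (D.long_commute h (D.p_X h' _) w).1.symm
  rw [conjugate_commutatorElement, cA.eq, mul_inv_cancel_right,
    D.congr (g' := A) (h' := A' * X' * y) rfl (show D.p (g * y * g⁻¹) = _ by
      rw [show g * y * g⁻¹ = ⁅g, y⁆ * y by rw [commutatorElement_def]; group, map_mul, map_mul, map_mul,
        map_commutatorElement, hg, D.p_lY, D.p_lY, D.p_X h', comm_ES QW h])]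
  have cXl : Commute (A' * X') ⁅A, y⁆ := by
    have hq : D.p ⁅A, y⁆ = E QW a (ng b) (-P2 w D.w2) := D.p_lam h w D.w2
    have c1 := (D.long_commute h hq (t • D.w2)).1.symm
    have c2 : Commute X' ⁅A, y⁆ := D.commute_congr' (g' := D.X a (ng b) (-P2 w D.w2))
      (by rw [hq, D.p_X h']) (D.X_commute_self h' _ _)
    exact c1.mul_left c2
  calc ⁅A, A' * X' * y⁆ = ⁅A, A' * X'⁆ * ((A' * X') * ⁅A, y⁆ * (A' * X')⁻¹) := by
        simp only [commutatorElement_def]; group
    _ = _ := by rw [commutatorElement_eq_one_iff_commute.2 cA', one_mul, cXl.eq, mul_inv_cancel_right]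

/-- **The long lifts satisfy the relations of type `D_n`.** -/
noncomputable def rels : RelsD F n M where
  x := D.X
  add _ _ h := D.X_add h
  symm _ _ h := D.X_symm h
  comm _ _ _ _ h h' h1 h2 h3 h4 t u := D.X_comm h h' h1 h2 h3 h4 t u
  comm2 a b h t u := D.lX_commute_two h t u (D.p_X h t)
  chain _ _ _ h1 h2 h3 := D.X_chain h1 h2 h3

end Ext

end Cfsg.Agent.Schur.OrthW
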