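import Cfsg.Agent.Lib.Schur.OrthW.Cover

/-!
# The Schur multiplier of `PΩ` of positive anisotropic dimension
-/

set_option autoImplicit false

namespace Cfsg.Agent.Schur.OrthW

open CurtisTits CurtisTits.DType
open Cfsg.Agent.MaxCl Cfsg.Agent.MaxCl.Orth
open scoped MatrixGroups commutatorElement

universe u v

variable {F : Type u} [Field F] [Finite F] {n : ℕ} {κ : Type} [Fintype κ] [DecidableEq κ]
  {QW : QuadraticForm F (κ → F)}

omit [Finite F] in
theorem card_roots_le : Nat.card (powMonoidHom 2 : Fˣ →* Fˣ).ker ≤ 2 := by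
  classical
  have hr : ∀ s : (powMonoidHom 2 : Fˣ →* Fˣ).ker, (s : Fˣ) = 1 ∨ ((s : Fˣ) : F) = -1 := fun s => by
    have := s.2
    rw [MonoidHom.mem_ker, powMonoidHom_apply] at this
    have h' : ((s : Fˣ) : F) ^ 2 = 1 := by rw [← Units.val_pow_eq_pow_val, this, Units.val_one]
    rcases sq_eq_one_iff.1 h' with h | h
    · exact Or.inl (Units.ext h)
    · exact Or.inr h
  refine (Nat.card_le_card_of_injective (fun s : (powMonoidHom 2 : Fˣ →* Fˣ).ker =>
    if (s : Fˣ) = 1 then (0 : Fin 2) else 1) fun s t h => ?_).trans (Nat.card_fin 2).le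
  simp only at h
  refine Subtype.ext ?_
  by_cases h1 : (s : Fˣ) = 1 <;> by_cases h2 : (t : Fˣ) = 1
  · rw [h1, h2]
  · simp [h1, h2] at h
  · simp [h1, h2] at h
  · exact Units.ext (((hr s).resolve_left h1).trans ((hr t).resolve_left h2).symm)

theorem card_ker_prS (G : Good n QW) :
    Nat.card (prS (n := n) QW).ker = Nat.card (powMonoidHom 2 : Fˣ →* Fˣ).ker := by
  have := finite_Sig QW G.hn G.hW
  refine le_antisymm (card_ker_le G (prS QW) (ker_prS QW) (range_prS QW G.hn G.hW) (commutator_Sig QW G.hn G.hW)) ?_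
  by_cases h2 : (2 : F) = 0
  · have : Subsingleton (powMonoidHom 2 : Fˣ →* Fˣ).ker := ⟨fun a b => by
      have key : ∀ a : (powMonoidHom 2 : Fˣ →* Fˣ).ker, (a : Fˣ) = 1 := fun a => by
        have := a.2
        rw [MonoidHom.mem_ker, powMonoidHom_apply] at this
        have h' : ((a : Fˣ) : F) ^ 2 = 1 := by rw [← Units.val_pow_eq_pow_val, this, Units.val_one]
        rcases sq_eq_one_iff.1 h' with h | h
        · exact Units.ext h
        · refine Units.ext (h.trans ?_)
          rw [Units.val_one]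
          linear_combination (-1 : F) * h2
      exact Subtype.ext ((key a).trans (key b).symm)⟩
    rw [Nat.card_unique]
    exact Nat.card_pos
  · obtain ⟨z, hz, hz1⟩ := two_le_card_ker QW G h2
    refine card_roots_le.trans ?_
    have : Nontrivial (prS (n := n) QW).ker := ⟨⟨⟨z, hz⟩, 1, fun e => hz1 (congrArg Subtype.val e)⟩⟩
    exact Finite.one_lt_card

omit [Finite F] in
/-- A central-by-central extension of a perfect group is central. -/
theorem central_of_perfect {Γ G' : Type*} [Group Γ] [Group G'] (hperf : _root_.commutator Γ = ⊤) (f : Γ →* G')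
    (h : ∀ k ∈ f.ker, ∀ g, ⁅k, g⁆ ∈ Subgroup.center Γ) : f.ker ≤ Subgroup.center Γ := by
  intro k hk
  let φ : Γ →* Subgroup.center Γ := MonoidHom.mk' (fun g => ⟨⁅k, g⁆, h k hk g⟩) fun g g' => Subtype.ext (by
    show ⁅k, g * g'⁆ = ⁅k, g⁆ * ⁅k, g'⁆
    rw [show ⁅k, g * g'⁆ = ⁅k, g⁆ * (g * ⁅k, g'⁆ * g⁻¹) by simp only [commutatorElement_def]; group,
      Subgroup.mem_center_iff.1 (h k hk g') g, mul_inv_cancel_right])
  have hφ : φ.ker = ⊤ := by
    rw [eq_top_iff, ← hperf, commutator_def, Subgroup.commutator_le]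
    rintro a - b -
    rw [MonoidHom.mem_ker, map_commutatorElement, commutatorElement_eq_one_iff_commute]
    exact Subgroup.mem_center_iff.1 (Subgroup.mem_center_iff.2 fun x => Subtype.ext
      (Subgroup.mem_center_iff.1 (φ a).2 x)) (φ b) |>.symm
  rw [Subgroup.mem_center_iff]
  intro g
  have : φ g = 1 := MonoidHom.mem_ker.1 (hφ ▸ Subgroup.mem_top g)
  exact (commutatorElement_eq_one_iff_commute.1 (congrArg Subtype.val this)).symm

theorem multiplier_Sig (G : Good n QW) : Cfsg.HasCyclicSchurMultiplier (Sig n QW) 1 := by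
  have := finite_Sig QW G.hn G.hW
  refine Schur.hasCyclicSchurMultiplier_one fun Γ _ _ σ hσ => ?_
  obtain ⟨hs, hz, hc⟩ := hσ
  have hperf : _root_.commutator Γ = ⊤ := by
    rw [eq_top_iff]
    intro g _
    have hmap : (_root_.commutator Γ).map σ = ⊤ := by
      rw [commutator_def, Subgroup.map_commutator, Subgroup.map_top_of_surjective σ hs, ← commutator_def,
        commutator_Sig QW G.hn G.hW]
    obtain ⟨d, hd, e⟩ := hmap.symm ▸ Subgroup.mem_top (σ g)
    have : d⁻¹ * g ∈ σ.ker := by rw [MonoidHom.mem_ker, map_mul, map_inv, e, inv_mul_cancel]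
    simpa using mul_mem hd (hc this)
  let p : Γ →* GL (J n κ) F := (prS QW).comp σ
  have hp : p.ker ≤ Subgroup.center Γ := by
    refine central_of_perfect hperf p fun k hk g => hz ?_
    rw [MonoidHom.mem_ker, map_commutatorElement, commutatorElement_eq_one_iff_commute]
    exact (Subgroup.mem_center_iff.1 (ker_prS QW (show σ k ∈ (prS QW).ker from hk)) (σ g)).symm
  have hr : p.range = Cfsg.Geo.omegaGL ⇑(qf n QW) := by
    rw [MonoidHom.range_comp, MonoidHom.range_eq_top.2 hs, ← MonoidHom.range_eq_map, range_prS QW G.hn G.hW]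
  have hle := card_ker_le G p hp hr hperf
  rw [← card_ker_prS G] at hle
  let r : p.ker →* (prS (n := n) QW).ker :=
    (σ.comp p.ker.subtype).codRestrict _ fun x => x.2
  have hr' : Function.Surjective r := fun x => by
    obtain ⟨g, hg⟩ := hs x.1
    exact ⟨⟨g, by rw [MonoidHom.mem_ker]; show prS QW (σ g) = 1; rw [hg]; exact x.2⟩, Subtype.ext hg⟩
  have hbij := (Nat.bijective_iff_surjective_and_card r).2
    ⟨hr', le_antisymm hle (Nat.card_le_card_of_surjective r hr')⟩
  rw [Subgroup.eq_bot_iff_forall]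
  intro k hk
  have hk' : k ∈ p.ker := by rw [MonoidHom.mem_ker]; show prS QW (σ k) = 1; rw [MonoidHom.mem_ker.1 hk, map_one]
  have := hbij.1 (a₁ := ⟨k, hk'⟩) (a₂ := 1) (Subtype.ext (by show σ k = σ 1; rw [map_one]; exact hk))
  exact congrArg Subtype.val this

theorem prS_mem (G : Good n QW) (g : Sig n QW) : prS QW g ∈ Cfsg.Geo.omegaGL ⇑(qf n QW) := by
  rw [← range_prS QW G.hn G.hW]; exact ⟨g, rfl⟩

theorem exists_pomega_equiv (G : Good n QW) :
    Nonempty ((Sig n QW ⧸ Subgroup.center (Sig n QW)) ≃* Cfsg.POmega F ⇑(qf n QW)) := by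
  let e : Cfsg.Omega F ⇑(qf n QW) ≃* Cfsg.Geo.omegaGL ⇑(qf n QW) :=
    Subgroup.equivMapOfInjective _ _ (Subgroup.subtype_injective _)
  let θ : Sig n QW →* Cfsg.Omega F ⇑(qf n QW) :=
    e.symm.toMonoidHom.comp ((prS QW).codRestrict _ (prS_mem G))
  have hθ : Function.Surjective θ := fun x => by
    obtain ⟨g, hg⟩ : ((e x : Cfsg.Geo.omegaGL ⇑(qf n QW)) : GL (J n κ) F) ∈ (prS (n := n) QW).range := by
      rw [range_prS QW G.hn G.hW]; exact (e x).2
    refine ⟨g, ?_⟩
    rw [MonoidHom.comp_apply, MulEquiv.coe_toMonoidHom, MulEquiv.symm_apply_eq]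
    exact Subtype.ext hg
  have hker : θ.ker = (prS (n := n) QW).ker := by
    ext g
    simp [θ, MonoidHom.mem_ker, Subtype.ext_iff]
  let ψ : Sig n QW →* Cfsg.POmega F ⇑(qf n QW) := (QuotientGroup.mk' _).comp θ
  have hψ : Function.Surjective ψ := (QuotientGroup.mk'_surjective _).comp hθ
  have hk : ψ.ker = Subgroup.center (Sig n QW) := by
    refine le_antisymm (central_of_perfect (commutator_Sig QW G.hn G.hW) ψ fun k hk g => ?_) fun g hg => ?_
    · rw [MonoidHom.mem_ker, MonoidHom.comp_apply, QuotientGroup.mk'_apply, QuotientGroup.eq_one_iff] at hk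
      refine ker_prS QW (hker ▸ ?_)
      rw [MonoidHom.mem_ker, map_commutatorElement, commutatorElement_eq_one_iff_commute]
      exact (Subgroup.mem_center_iff.1 hk _).symm
    · rw [MonoidHom.mem_ker, MonoidHom.comp_apply, QuotientGroup.mk'_apply, QuotientGroup.eq_one_iff,
        Subgroup.mem_center_iff]
      intro z
      obtain ⟨x, rfl⟩ := hθ z
      rw [← map_mul, ← map_mul, Subgroup.mem_center_iff.1 hg x]
  exact ⟨(QuotientGroup.quotientMulEquivOfEq hk.symm).trans (QuotientGroup.quotientKerEquivOfSurjective ψ hψ)⟩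

/-- Schur multipliers transport along isomorphisms. -/
theorem hasSchurMultiplier_congr {G' H : Type u} [Group G'] [Group H] {A : Type v} [CommGroup A] (e : G' ≃* H)
    (hG : Cfsg.HasSchurMultiplier G' A) : Cfsg.HasSchurMultiplier H A := by
  obtain ⟨⟨Γ, i1, i2, σ, hσ, ⟨k⟩⟩, h2⟩ := hG
  have hker : (e.toMonoidHom.comp σ).ker = σ.ker := by ext x; simp
  refine ⟨⟨Γ, i1, i2, e.toMonoidHom.comp σ,
    ⟨e.surjective.comp hσ.1, by rw [hker]; exact hσ.2.1, by rw [hker]; exact hσ.2.2⟩,
    ⟨(MulEquiv.subgroupCongr hker).trans k⟩⟩, ?_⟩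
  intro Δ _ _ τ hτ
  have hker' : (e.symm.toMonoidHom.comp τ).ker = τ.ker := by ext x; simp
  obtain ⟨π, hπ⟩ := h2 Δ (e.symm.toMonoidHom.comp τ)
    ⟨e.symm.surjective.comp hτ.1, by rw [hker']; exact hτ.2.1, by rw [hker']; exact hτ.2.2⟩
  exact ⟨(MulEquiv.subgroupCongr hker').toMonoidHom.comp π, (MulEquiv.subgroupCongr hker').surjective.comp hπ⟩

/-- **The Schur multiplier of `PΩ` is the centre of the spin cover.** -/
theorem hasSchurMultiplier (G : Good n QW) {A : Type v} [CommGroup A]
    (e : Subgroup.center (Sig n QW) ≃* A) : Cfsg.HasSchurMultiplier (Cfsg.POmega F ⇑(qf n QW)) A := by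
  have := finite_Sig QW G.hn G.hW
  obtain ⟨f⟩ := exists_pomega_equiv G
  exact hasSchurMultiplier_congr f (Schur.hasSchurMultiplier_quotient (commutator_Sig QW G.hn G.hW)
    (multiplier_Sig G) (Subgroup.center (Sig n QW)) le_rfl e)

/-! ### Scalars -/

theorem scalar_of_center (G : Good n QW) {z : Sig n QW} (hz : z ∈ Subgroup.center (Sig n QW)) :
    ∃ l : F, l ^ 2 = 1 ∧ ∀ x, act (prS QW z) x = l • x := by
  set g := prS QW z
  have hiso : g ∈ isometryGroup F (qf n QW) := omega_le_iso (prS_mem G z)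
  have hcomm : ∀ m ∈ Cfsg.Geo.omegaGL ⇑(qf n QW), Commute g m := fun m hm => by
    rw [← range_prS QW G.hn G.hW] at hm
    obtain ⟨y, rfl⟩ := hm
    exact (show Commute z y from (Subgroup.mem_center_iff.1 hz y).symm).map (prS QW)
  have cE : ∀ a b t x, act g (act (E QW a b t) x) = act (E QW a b t) (act g x) := fun a b t x => by
    rw [← act_mul, ← act_mul, (hcomm _ (E_mem_omega QW G.hn G.hW a b t)).eq]
  have cS : ∀ a w x, act g (act (S QW a w) x) = act (S QW a w) (act g x) := fun a w x => by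
    rw [← act_mul, ← act_mul, (hcomm _ (S_mem_omega QW G.hn G.hW a w)).eq]
  have key : ∀ a b : SIdx n, lv a ≠ lv b → act g (e F κ a) =
      (act g (e F κ b) (.inl b)) • e F κ a - (act g (e F κ b) (.inl (ng a))) • e F κ (ng b) := fun a b hab => by
    have h := cE a b 1 (e F κ b)
    rw [act_E_e QW hab, one_smul, map_add, act_E QW hab, one_mul, one_mul] at h
    linear_combination (norm := module) h
  have hdiag : ∀ a b : SIdx n, lv a ≠ lv b → act g (e F κ a) = (act g (e F κ b) (.inl b)) • e F κ a := by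
    intro a b hab
    obtain ⟨c, hac, hbc⟩ := RelsD.exists_third G.hn a b
    have h1 := key a b hab
    have h2 := congrFun (key a c hac) (.inl (ng b))
    have n1 := DType.lv_ne.1 hab
    have n3 := DType.lv_ne.1 hbc
    rw [h1] at h2
    simp only [Pi.sub_apply, Pi.smul_apply, e_inl, smul_eq_mul,
      if_neg (show ng b ≠ a from fun e => n1.2 e.symm), if_neg (fun e : ng b = ng c => n3.1 (ng_inj.1 e)),
      if_pos, mul_zero, mul_one, zero_sub, sub_zero, neg_eq_zero] at h2
    rw [h1, h2, zero_smul, sub_zero]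
  let i : SIdx n := Sum.inl ⟨0, by have := G.hn; omega⟩
  set l := act g (e F κ i) (.inl i) with hl
  have hval : ∀ a b : SIdx n, lv a ≠ lv b → act g (e F κ a) (.inl a) = act g (e F κ b) (.inl b) := fun a b hab => by
    rw [hdiag a b hab]; simp [e_inl]
  have he : ∀ a, act g (e F κ a) = l • e F κ a := fun a => by
    obtain ⟨c, hac, hic⟩ := RelsD.exists_third G.hn a i
    rw [hdiag a c hac, hl, hval i c hic]
  have hw : ∀ w, act g (wv n w) = l • wv n w := fun w => by
    have h := cS i w (e F κ (ng i))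
    rw [act_S_e, map_sub, map_add, map_smul, he, he, map_smul, act_S_e] at h
    linear_combination (norm := module) h
  refine ⟨l, ?_, fun x => ?_⟩
  · have h := B_act hiso (e F κ i) (e F κ (ng i))
    rw [he, he, B_smul_left, B_smul_right, B_e_e, if_pos rfl, mul_one] at h
    rw [pow_two]; exact h
  · rw [eq_sum x, map_add, map_sum, hw, smul_add, Finset.smul_sum]
    congr 1
    exact Finset.sum_congr rfl fun a _ => by rw [map_smul, he, smul_comm]

end Cfsg.Agent.Schur.OrthW
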