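import Cfsg.Agent.Lib.CurtisTits.DMono
import Cfsg.Agent.Lib.OrthSplit.Omega

/-!
# Root elements of an orthogonal group of Witt index `n` with anisotropic part `W`

The space is `plus(n) ⊕ W`; `E a b t` are the long, `S a w` the short root elements.
-/

set_option autoImplicit false

namespace Cfsg.Agent.Schur.OrthW

open CurtisTits CurtisTits.DType
open Cfsg.Agent.MaxCl Cfsg.Agent.MaxCl.Orth
open scoped MatrixGroups commutatorElement

universe u

/-- The coordinates. -/
abbrev J (n : ℕ) (κ : Type) : Type := SIdx n ⊕ κ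

variable {F : Type u} [Field F] {n : ℕ} {κ : Type} [Fintype κ] [DecidableEq κ]

/-- The quadratic form `plus(n) ⊕ QW`. -/
noncomputable def qf (n : ℕ) (QW : QuadraticForm F (κ → F)) : QuadraticForm F (J n κ → F) :=
  (QForm.plusForm F n).comp (LinearMap.funLeft F F Sum.inl) + QW.comp (LinearMap.funLeft F F Sum.inr)

variable (QW : QuadraticForm F (κ → F))

theorem qf_apply (x : J n κ → F) :
    qf n QW x = QForm.plusForm F n (fun p => x (.inl p)) + QW (fun k => x (.inr k)) := rfl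

set_option quotPrecheck false in
local notation "Bf" => QuadraticMap.polar (⇑(qf (F := F) n QW))

theorem polar_qf (x y : J n κ → F) :
    Bf x y = QuadraticMap.polar (⇑(QForm.plusForm F n)) (fun p => x (.inl p)) (fun p => y (.inl p)) +
      QuadraticMap.polar (⇑QW) (fun k => x (.inr k)) (fun k => y (.inr k)) := by
  simp only [QuadraticMap.polar, qf_apply]
  simp only [Pi.add_def]
  ring

variable (F) in
/-- A hyperbolic basis vector. -/
def e (κ : Type) (a : SIdx n) : J n κ → F := Sum.elim (DModel.ev a) 0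

variable (n) in
/-- A vector of the anisotropic part. -/
def wv (w : κ → F) : J n κ → F := Sum.elim 0 w

theorem e_inl (a p : SIdx n) : e F κ a (.inl p) = if p = a then 1 else 0 := DModel.ev_apply a p

theorem e_inr (a : SIdx n) (k : κ) : e F κ a (.inr k) = 0 := rfl

theorem wv_inl (w : κ → F) (p : SIdx n) : wv n w (.inl p) = 0 := rfl

theorem wv_inr (w : κ → F) (k : κ) : wv n w (.inr k) = w k := rfl

theorem wv_add (w w' : κ → F) : wv n (w + w') = wv n w + wv n w' := by
  funext p; rcases p with p | p <;> simp [wv]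

theorem wv_smul (c : F) (w : κ → F) : wv n (c • w) = c • wv n w := by
  funext p; rcases p with p | p <;> simp [wv]

theorem wv_neg (w : κ → F) : wv n (-w) = -wv n w := by
  funext p; rcases p with p | p <;> simp [wv]

theorem wv_zero : wv n (0 : κ → F) = 0 := by funext p; rcases p with p | p <;> simp [wv]

theorem B_e (a : SIdx n) (x : J n κ → F) : Bf (e F κ a) x = x (.inl (ng a)) := by
  rw [polar_qf]
  simp only [e, Sum.elim_inl, Sum.elim_inr]
  have h0 : QuadraticMap.polar (⇑QW) (fun _ : κ => (0 : F)) (fun k => x (.inr k)) = 0 :=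
    QuadraticMap.polar_zero_left QW _
  change QuadraticMap.polar (⇑(QForm.plusForm F n)) (DModel.ev a) (fun p => x (.inl p)) + _ = _
  rw [DModel.B_ev]
  simp only [Pi.zero_apply, h0, add_zero]

theorem B_wv (w : κ → F) (x : J n κ → F) :
    Bf (wv n w) x = QuadraticMap.polar (⇑QW) w (fun k => x (.inr k)) := by
  rw [polar_qf]
  simp only [wv, Sum.elim_inl, Sum.elim_inr]
  have h0 : QuadraticMap.polar (⇑(QForm.plusForm F n)) (fun _ : SIdx n => (0 : F)) (fun p => x (.inl p)) = 0 :=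
    QuadraticMap.polar_zero_left _ _
  simp only [Pi.zero_apply, h0, zero_add]

theorem B_e_e (a b : SIdx n) : Bf (e F κ a) (e F κ b) = if ng a = b then 1 else 0 := by
  rw [B_e, e_inl]

theorem B_e_wv (a : SIdx n) (w : κ → F) : Bf (e F κ a) (wv n w) = 0 := B_e QW a _

theorem B_wv_e (a : SIdx n) (w : κ → F) : Bf (wv n w) (e F κ a) = 0 := by
  rw [QuadraticMap.polar_comm]; exact B_e_wv QW a w

theorem B_wv_wv (w w' : κ → F) : Bf (wv n w) (wv n w') = QuadraticMap.polar (⇑QW) w w' := B_wv QW w _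

theorem Q_e (a : SIdx n) : qf n QW (e F κ a) = 0 := by
  rw [qf_apply]
  simp only [e, Sum.elim_inl, Sum.elim_inr]
  change DModel.qf F n (DModel.ev a) + QW (fun _ => 0) = 0
  rw [DModel.Q_ev, show QW (fun _ => (0 : F)) = 0 from QuadraticMap.map_zero QW, add_zero]

theorem Q_wv (w : κ → F) : qf n QW (wv n w) = QW w := by
  rw [qf_apply]
  simp only [wv, Sum.elim_inl, Sum.elim_inr]
  rw [show QForm.plusForm F n (fun p : SIdx n => (0 : SIdx n → F) p) = 0 from QuadraticMap.map_zero _, zero_add]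

/-- Vectors are combinations of the `e a` and a vector of `W`. -/
theorem eq_sum (x : J n κ → F) : x = (∑ a, x (.inl a) • e F κ a) + wv n (fun k => x (.inr k)) := by
  funext p
  rcases p with p | p
  · simp only [Pi.add_apply, Finset.sum_apply, Pi.smul_apply, e_inl, wv_inl, smul_eq_mul, mul_ite, mul_one,
      mul_zero, add_zero, Finset.sum_ite_eq, Finset.mem_univ, if_true]
  · simp [Finset.sum_apply, e_inr, wv_inr]

theorem nondegenerate (hW : (QuadraticMap.polarBilin QW).Nondegenerate) :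
    (QuadraticMap.polarBilin (qf n QW)).Nondegenerate := by
  have key : ∀ x : J n κ → F, (∀ y, Bf x y = 0) → x = 0 := by
    intro x hx
    have h1 : ∀ a, x (.inl a) = 0 := fun a => by
      have := hx (e F κ (ng a))
      rw [QuadraticMap.polar_comm, B_e, ng_ng] at this
      exact this
    have h2 : (fun k => x (.inr k)) = 0 := hW.1 _ fun w => by
      have := hx (wv n w)
      rw [QuadraticMap.polar_comm, B_wv, QuadraticMap.polar_comm] at this
      exact this
    rw [eq_sum x, h2, wv_zero]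
    simp [h1]
  exact ⟨key, fun y hy => key y fun x => by rw [QuadraticMap.polar_comm]; exact hy x⟩

/-- The long root element. -/
noncomputable def E (a b : SIdx n) (t : F) : GL (J n κ) F := sg (qf n QW) (e F κ a) ((-t) • e F κ (ng b))

/-- The short root element. -/
noncomputable def S (a : SIdx n) (w : κ → F) : GL (J n κ) F := sg (qf n QW) (e F κ a) (wv n w)

theorem hE {a b : SIdx n} (h : lv a ≠ lv b) (c : F) : Bf (e F κ a) (c • e F κ (ng b)) = 0 := by
  rw [B_smul_right, B_e_e, if_neg fun e => (lv_ne.1 h).1 (ng_inj.1 e), mul_zero]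

theorem hS (a : SIdx n) (w : κ → F) : Bf (e F κ a) (wv n w) = 0 := B_e_wv QW a w

theorem E_mem_iso (a b : SIdx n) (t : F) : E QW a b t ∈ isometryGroup F (qf n QW) := sg_mem_iso _ _ _

theorem S_mem_iso (a : SIdx n) (w : κ → F) : S QW a w ∈ isometryGroup F (qf n QW) := sg_mem_iso _ _ _

theorem act_E {a b : SIdx n} (h : lv a ≠ lv b) (t : F) (x : J n κ → F) :
    act (E QW a b t) x = x - (t * x (.inl (ng a))) • e F κ (ng b) + (t * x (.inl b)) • e F κ a := by
  rw [E, act_sg _ (Q_e QW a) (hE QW h _), B_smul_left, B_e, B_e, ng_ng, Q_smul, Q_e]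
  module

theorem act_S (a : SIdx n) (w : κ → F) (x : J n κ → F) :
    act (S QW a w) x = x + x (.inl (ng a)) • wv n w -
      (QuadraticMap.polar (⇑QW) w (fun k => x (.inr k)) + QW w * x (.inl (ng a))) • e F κ a := by
  rw [S, act_sg _ (Q_e QW a) (hS QW a w), B_e, B_wv, Q_wv]

theorem act_E_e {a b : SIdx n} (h : lv a ≠ lv b) (t : F) : act (E QW a b t) (e F κ b) = e F κ b + t • e F κ a := by
  have h1 : ng a ≠ b := fun e => (lv_ne.1 h).2 (by rw [← e, ng_ng])
  rw [act_E QW h, e_inl, e_inl, if_neg h1, if_pos rfl]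
  module

theorem act_E_fix {a b : SIdx n} (h : lv a ≠ lv b) (t : F) {x : J n κ → F} (h1 : x (.inl (ng a)) = 0)
    (h2 : x (.inl b) = 0) : act (E QW a b t) x = x := by
  rw [act_E QW h, h1, h2]; module

theorem act_E_e_fix {a b c : SIdx n} (h : lv a ≠ lv b) (t : F) (h1 : c ≠ ng a) (h2 : c ≠ b) :
    act (E QW a b t) (e F κ c) = e F κ c :=
  act_E_fix QW h t (by rw [e_inl, if_neg h1.symm]) (by rw [e_inl, if_neg h2.symm])

theorem act_E_wv {a b : SIdx n} (h : lv a ≠ lv b) (t : F) (w : κ → F) :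
    act (E QW a b t) (wv n w) = wv n w := act_E_fix QW h t rfl rfl

theorem act_S_e_fix {a c : SIdx n} (w : κ → F) (h : c ≠ ng a) : act (S QW a w) (e F κ c) = e F κ c := by
  rw [act_S, e_inl, if_neg h.symm]
  have h0 : QuadraticMap.polar (⇑QW) w (fun k => e F κ c (.inr k)) = 0 := QuadraticMap.polar_zero_right QW w
  rw [h0]
  module

theorem act_S_e (a : SIdx n) (w : κ → F) :
    act (S QW a w) (e F κ (ng a)) = e F κ (ng a) + wv n w - QW w • e F κ a := by
  rw [act_S, e_inl, if_pos rfl]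
  have h0 : QuadraticMap.polar (⇑QW) w (fun k => e F κ (ng a) (.inr k)) = 0 := QuadraticMap.polar_zero_right QW w
  rw [h0]
  module

theorem act_S_wv (a : SIdx n) (w w' : κ → F) :
    act (S QW a w) (wv n w') = wv n w' - QuadraticMap.polar (⇑QW) w w' • e F κ a := by
  rw [act_S]
  simp only [wv_inl, wv_inr]
  module

/-! ### The relations -/

theorem E_add {a b : SIdx n} (h : lv a ≠ lv b) (t u : F) : E QW a b (t + u) = E QW a b t * E QW a b u := by
  rw [E, E, E, sg_add _ (Q_e QW a) (hE QW h _) (hE QW h _)]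
  congr 1
  module

theorem E_zero {a b : SIdx n} : E QW a b (0 : F) = 1 := by rw [E, neg_zero, zero_smul, sg_zero]

theorem E_neg {a b : SIdx n} (h : lv a ≠ lv b) (t : F) : E QW a b (-t) = (E QW a b t)⁻¹ :=
  eq_inv_of_mul_eq_one_left (by rw [← E_add QW h, neg_add_cancel, E_zero])

theorem sg_swap {u v : J n κ → F} (hu : qf n QW u = 0) (hv : qf n QW v = 0) (h : Bf u v = 0) :
    sg (qf n QW) u v = sg (qf n QW) v (-u) := by
  refine gl_ext fun x => ?_
  rw [act_sg _ hu h, act_sg _ hv (by rw [B_neg_right, B_comm, h, neg_zero]), B_neg_left, Q_neg, hu, hv]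
  module

theorem E_symm {a b : SIdx n} (h : lv a ≠ lv b) (t : F) : E QW (ng b) (ng a) t = E QW a b (-t) := by
  rw [E, E, neg_neg, ng_ng]
  have h0 : Bf (e F κ a) (e F κ (ng b)) = 0 := by
    rw [B_e_e, if_neg fun e => (lv_ne.1 h).1 (ng_inj.1 e)]
  have key : sg (qf n QW) (e F κ a) (t • e F κ (ng b)) = sg (qf n QW) (e F κ (ng b)) ((-t) • e F κ a) := by
    rw [← sg_smul_left _ (Q_e QW (ng b)) (by rw [B_comm, h0]) (-t)]
    rw [show (t • e F κ (ng b)) = -((-t) • e F κ (ng b)) by module]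
    exact (sg_swap QW (by rw [Q_smul, Q_e, mul_zero]) (Q_e QW a) (by rw [B_smul_left, B_comm, h0, mul_zero])).symm
  exact key.symm

theorem sg_commute {g : GL (J n κ) F} (hg : g ∈ isometryGroup F (qf n QW)) {u w : J n κ → F}
    (hu : qf n QW u = 0) (hw : Bf u w = 0) (h1 : act g u = u) (c : F) (h2 : act g w = w + c • u) :
    Commute g (sg (qf n QW) u w) := by
  have h := conj_sg (qf n QW) hg u w
  rw [h1, h2, sg_add_smul _ hu hw] at h
  exact mul_inv_eq_iff_eq_mul.1 h

theorem E_comm {a b c d : SIdx n} (h : lv a ≠ lv b) (h' : lv c ≠ lv d) (had : a ≠ d) (hbc : b ≠ c)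
    (hac : a ≠ ng c) (hbd : b ≠ ng d) (t u : F) : Commute (E QW a b t) (E QW c d u) := by
  have hc : c ≠ ng a := fun e => hac (by rw [e, ng_ng])
  refine sg_commute QW (E_mem_iso QW a b t) (Q_e QW c) (hE QW h' _) (act_E_e_fix QW h t hc (Ne.symm hbc)) 0 ?_
  rw [map_smul, act_E_e_fix QW h t (fun e => had (ng_inj.1 e).symm) (fun e => hbd e.symm), zero_smul, add_zero]

theorem E_comm2 {a b : SIdx n} (h : lv a ≠ lv b) (t u : F) : Commute (E QW a b t) (E QW a (ng b) u) := by
  have h' : lv a ≠ lv (ng b) := by rwa [lv_ng]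
  refine sg_commute QW (E_mem_iso QW a b t) (Q_e QW a) (hE QW h' _)
    (act_E_e_fix QW h t (ng_ne a).symm (lv_ne.1 h).1) ((-u) * t) ?_
  rw [map_smul, ng_ng, act_E_e QW h, smul_add, smul_smul]

theorem E_chain {a b c : SIdx n} (h1 : lv a ≠ lv b) (h2 : lv b ≠ lv c) (h3 : lv a ≠ lv c) (t u : F) :
    E QW a b t * E QW b c u = E QW a c (t * u) * E QW b c u * E QW a b t := by
  rw [← mul_inv_eq_iff_eq_mul]
  have n1 := lv_ne.1 h1
  have n2 := lv_ne.1 h2
  have n3 := lv_ne.1 h3
  have hg := conj_sg (qf n QW) (E_mem_iso QW a b t) (e F κ b) ((-u) • e F κ (ng c))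
  rw [map_smul, act_E_e QW h1, act_E_e_fix QW h1 t (fun e => n3.1 (ng_inj.1 e).symm) (fun e => n2.2 e.symm)] at hg
  show E QW a b t * sg (qf n QW) (e F κ b) ((-u) • e F κ (ng c)) * _ = _
  rw [hg]
  have b1 : Bf (e F κ (ng c)) (e F κ a) = 0 := by
    rw [B_e_e, ng_ng, if_neg n3.1.symm]
  have b2 : Bf (e F κ (ng c)) (e F κ b) = 0 := by
    rw [B_e_e, ng_ng, if_neg n2.1.symm]
  have key : ∀ x : J n κ → F, qf n QW x = 0 → Bf (e F κ (ng c)) x = 0 → ∀ s : F,
      sg (qf n QW) x ((-s) • e F κ (ng c)) = sg (qf n QW) (e F κ (ng c)) (s • x) := by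
    intro x hx hb s
    rw [← sg_smul_left _ (Q_e QW (ng c)) hb s]
    rw [sg_swap QW (by rw [Q_smul, Q_e, mul_zero]) hx (by rw [B_smul_left, hb, mul_zero]), ← neg_smul]
  have hq : qf n QW (e F κ b + t • e F κ a) = 0 := by
    rw [Q_add, Q_smul, Q_e, Q_e, B_smul_right, B_e_e, if_neg fun e => n1.2 e.symm]
    ring
  have hb : Bf (e F κ (ng c)) (e F κ b + t • e F κ a) = 0 := by
    rw [B_add_right, B_smul_right, b1, b2, mul_zero, add_zero]
  rw [key _ hq hb, E, E, key _ (Q_e QW a) b1, key _ (Q_e QW b) b2,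
    sg_add _ (Q_e QW (ng c)) (by rw [B_smul_right, b1, mul_zero]) (by rw [B_smul_right, b2, mul_zero])]
  congr 1
  module

/-- The long root elements satisfy the relations of type `D`. -/
noncomputable def longRels : RelsD F n (GL (J n κ) F) where
  x := E QW
  add _ _ h := E_add QW h
  symm _ _ h := E_symm QW h
  comm _ _ _ _ h h' h1 h2 h3 h4 := E_comm QW h h' h1 h2 h3 h4
  comm2 _ _ h := E_comm2 QW h
  chain _ _ _ h1 h2 h3 := E_chain QW h1 h2 h3

theorem S_add (a : SIdx n) (w w' : κ → F) : S QW a (w + w') = S QW a w * S QW a w' := by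
  rw [S, S, S, sg_add _ (Q_e QW a) (hS QW a w) (hS QW a w'), wv_add]

theorem S_zero (a : SIdx n) : S QW a (0 : κ → F) = 1 := by rw [S, wv_zero, sg_zero]

theorem S_neg (a : SIdx n) (w : κ → F) : S QW a (-w) = (S QW a w)⁻¹ :=
  eq_inv_of_mul_eq_one_left (by rw [← S_add, neg_add_cancel, S_zero])

theorem S_comm_E {a c d : SIdx n} (h : lv c ≠ lv d) (h1 : a ≠ d) (h2 : a ≠ ng c) (t : F) (w : κ → F) :
    Commute (E QW c d t) (S QW a w) := by
  refine sg_commute QW (E_mem_iso QW c d t) (Q_e QW a) (hS QW a w) (act_E_e_fix QW h t h2 h1) 0 ?_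
  rw [act_E_wv QW h, zero_smul, add_zero]

theorem comm_SS {a b : SIdx n} (h : lv a ≠ lv b) (w w' : κ → F) :
    ⁅S QW a w, S QW b w'⁆ = E QW a (ng b) (-QuadraticMap.polar (⇑QW) w w') := by
  have hn := lv_ne.1 h
  have hc := conj_sg (qf n QW) (S_mem_iso QW a w) (e F κ b) (wv n w')
  rw [act_S_e_fix QW w (fun e => hn.2 (by rw [e, ng_ng])), act_S_wv, sub_eq_add_neg, ← neg_smul,
    ← sg_add _ (Q_e QW b) (hS QW b w') (by rw [B_smul_right, B_e_e, if_neg fun e => hn.2 e.symm, mul_zero])] at hc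
  have hb : lv b ≠ lv (ng a) := by rw [lv_ng]; exact h.symm
  have e1 : E QW a (ng b) (-QuadraticMap.polar (⇑QW) w w') =
      sg (qf n QW) (e F κ b) ((-QuadraticMap.polar (⇑QW) w w') • e F κ a) := by
    have := E_symm QW hb (-QuadraticMap.polar (⇑QW) w w')
    rw [ng_ng, neg_neg] at this
    rw [this, E, ng_ng]
  have hz : Bf (e F κ b) ((-QuadraticMap.polar (⇑QW) w w') • e F κ a) = 0 := by
    rw [B_smul_right, B_e_e, if_neg fun e => hn.2 e.symm, mul_zero]
  rw [commutatorElement_def, show S QW b w' = sg (qf n QW) (e F κ b) (wv n w') from rfl, hc, e1,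
    sg_add _ (Q_e QW b) (hS QW b w') hz, ← sg_neg _ (Q_e QW b) (hS QW b w'),
    sg_add _ (Q_e QW b) (by rw [B_add_right, hS QW b w', hz, add_zero]) (by rw [B_neg_right, hS QW b w', neg_zero])]
  congr 1
  module

theorem comm_ES {a b : SIdx n} (h : lv a ≠ lv b) (t : F) (w : κ → F) :
    ⁅E QW a b t, S QW b w⁆ = S QW a (t • w) * E QW a (ng b) (t * QW w) := by
  have hn := lv_ne.1 h
  have hn' : lv a ≠ lv (ng b) := by rwa [lv_ng]
  have hab : ng a ≠ b := fun e => hn.2 (by rw [← e, ng_ng])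
  have hc := conj_sg (qf n QW) (S_mem_iso QW b w) (e F κ a) ((-(-t)) • e F κ (ng b))
  rw [map_smul, act_S_e_fix QW w hn.2, act_S_e] at hc
  rw [commutatorElement_def,
    show E QW a b t * S QW b w * (E QW a b t)⁻¹ * (S QW b w)⁻¹ =
      E QW a b t * (S QW b w * E QW a b (-t) * (S QW b w)⁻¹) by rw [E_neg QW h]; group,
    show E QW a b (-t) = sg (qf n QW) (e F κ a) ((-(-t)) • e F κ (ng b)) from rfl, hc, S, E, E, ng_ng]
  have hb1 : Bf (e F κ a) (e F κ b) = 0 := by rw [B_e_e, if_neg hab]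
  have hb2 : Bf (e F κ a) (e F κ (ng b)) = 0 := by rw [B_e_e, if_neg fun e => hn.1 (ng_inj.1 e)]
  have hb3 : Bf (e F κ a) (wv n w) = 0 := hS QW a w
  rw [sg_add _ (Q_e QW a) (hE QW h _)
      (by simp only [B_smul_right, B_add_right, B_sub_right, hb1, hb2, hb3, mul_zero, add_zero, sub_zero]),
    sg_add _ (Q_e QW a) (hS QW a _) (by rw [B_smul_right, hb1, mul_zero])]
  congr 1
  rw [wv_smul]
  module

/-! ### Injectivity -/

theorem E_inj {a b : SIdx n} (h : lv a ≠ lv b) {t u : F} (h' : E QW a b t = E QW a b u) : t = u := by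
  have := congrFun (congrArg (fun g => act g (e F κ b)) h') (.inl a)
  simp only [act_E_e QW h] at this
  simpa [e_inl, (lv_ne.1 h).1] using this

theorem S_inj {a : SIdx n} {w w' : κ → F} (h : S QW a w = S QW a w') : w = w' := by
  funext k
  have := congrFun (congrArg (fun g => act g (e F κ (ng a))) h) (.inr k)
  simp only [act_S_e] at this
  simpa [e_inr, wv_inr] using this

/-! ### Monomial elements -/

/-- `g` permutes the hyperbolic basis by `σ` with factors `c` and acts on `W` by `R`. -/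
structure IsMono (g : GL (J n κ) F) (σ : Equiv.Perm (SIdx n)) (c : SIdx n → F)
    (R : (κ → F) →ₗ[F] (κ → F)) : Prop where
  iso : g ∈ isometryGroup F (qf n QW)
  map_e : ∀ a, act g (e F κ a) = c a • e F κ (σ a)
  map_wv : ∀ w, act g (wv n w) = wv n (R w)

variable {QW}

theorem IsMono.mul {g g' : GL (J n κ) F} {σ σ' : Equiv.Perm (SIdx n)} {c c' : SIdx n → F}
    {R R' : (κ → F) →ₗ[F] (κ → F)} (h : IsMono QW g σ c R) (h' : IsMono QW g' σ' c' R') :
    IsMono QW (g * g') (σ * σ') (fun p => c (σ' p) * c' p) (R ∘ₗ R') where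
  iso := mul_mem h.iso h'.iso
  map_e a := by rw [act_mul, h'.map_e, map_smul, h.map_e, smul_smul, mul_comm (c' a)]; rfl
  map_wv w := by rw [act_mul, h'.map_wv, h.map_wv]; rfl

theorem isMono_one : IsMono QW (1 : GL (J n κ) F) 1 1 LinearMap.id :=
  ⟨one_mem _, fun a => by simp [act_one], fun w => by simp [act_one]⟩

theorem IsMono.Q_map {g : GL (J n κ) F} {σ : Equiv.Perm (SIdx n)} {c : SIdx n → F}
    {R : (κ → F) →ₗ[F] (κ → F)} (h : IsMono QW g σ c R) (w : κ → F) : QW (R w) = QW w := by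
  have := Q_act h.iso (wv n w)
  rwa [h.map_wv, Q_wv, Q_wv] at this

theorem IsMono.c_mul {g : GL (J n κ) F} {σ : Equiv.Perm (SIdx n)} {c : SIdx n → F}
    {R : (κ → F) →ₗ[F] (κ → F)} (h : IsMono QW g σ c R) (a : SIdx n) :
    σ (ng a) = ng (σ a) ∧ c a * c (ng a) = 1 := by
  have := B_act h.iso (e F κ a) (e F κ (ng a))
  rw [h.map_e, h.map_e, B_smul_left, B_smul_right, B_e_e, B_e_e, if_pos rfl] at this
  by_cases h' : ng (σ a) = σ (ng a)
  · rw [if_pos h', mul_one] at this
    exact ⟨h'.symm, this⟩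
  · simp [if_neg h'] at this

theorem IsMono.lv_ne {g : GL (J n κ) F} {σ : Equiv.Perm (SIdx n)} {c : SIdx n → F}
    {R : (κ → F) →ₗ[F] (κ → F)} (h : IsMono QW g σ c R) {a b : SIdx n} (hab : lv a ≠ lv b) :
    lv (σ a) ≠ lv (σ b) := by
  rw [DType.lv_ne] at hab ⊢
  exact ⟨fun e => hab.1 (σ.injective e), fun e => hab.2 (σ.injective (by rw [(h.c_mul b).1]; exact e))⟩

theorem IsMono.conj_E {g : GL (J n κ) F} {σ : Equiv.Perm (SIdx n)} {c : SIdx n → F}
    {R : (κ → F) →ₗ[F] (κ → F)} (h : IsMono QW g σ c R) {a b : SIdx n} (hab : lv a ≠ lv b) (t : F) :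
    g * E QW a b t * g⁻¹ = E QW (σ a) (σ b) (c a * c (ng b) * t) := by
  rw [E, conj_sg _ h.iso, h.map_e, map_smul, h.map_e, (h.c_mul b).1, sg_smul_left _ (Q_e QW _)
    (by rw [smul_smul]; exact hE QW (h.lv_ne hab) _), E, smul_smul, smul_smul]
  congr 2
  ring

theorem IsMono.conj_S {g : GL (J n κ) F} {σ : Equiv.Perm (SIdx n)} {c : SIdx n → F}
    {R : (κ → F) →ₗ[F] (κ → F)} (h : IsMono QW g σ c R) (a : SIdx n) (w : κ → F) :
    g * S QW a w * g⁻¹ = S QW (σ a) (c a • R w) := by
  rw [S, conj_sg _ h.iso, h.map_e, h.map_wv, sg_smul_left _ (Q_e QW _) (hS QW _ _), S, wv_smul]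

variable (QW)

/-- The reflection of `W`. -/
noncomputable def rW (u : κ → F) : (κ → F) →ₗ[F] (κ → F) :=
  LinearMap.id - ((QW u)⁻¹ • QuadraticMap.polarBilin QW u).smulRight u

theorem rW_apply (u w : κ → F) : rW QW u w = w - ((QW u)⁻¹ * QuadraticMap.polar (⇑QW) u w) • u := by
  simp [rW]

/-- The short Weyl element. -/
noncomputable def wS (a : SIdx n) (u : κ → F) : GL (J n κ) F :=
  S QW a u * S QW (ng a) ((QW u)⁻¹ • u) * S QW a u

/-- The factors of the short Weyl element. -/
def wSc (a : SIdx n) (r : F) (p : SIdx n) : F := if p = a then -r⁻¹ else if p = ng a then -r else 1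

theorem mono_wS (a : SIdx n) {u : κ → F} (hu : QW u ≠ 0) :
    IsMono QW (wS QW a u) (Equiv.swap a (ng a)) (wSc a (QW u)) (rW QW u) := by
  have hbu : QuadraticMap.polar (⇑QW) u u = 2 * QW u := by rw [QuadraticMap.polar_self, two_nsmul, two_mul]
  refine ⟨mul_mem (mul_mem (S_mem_iso QW _ _) (S_mem_iso QW _ _)) (S_mem_iso QW _ _), fun c => ?_, fun w => ?_⟩
  · simp only [wS, act_mul]
    by_cases h1 : c = a
    · subst h1
      have e1 : act (S QW (ng c) ((QW u)⁻¹ • u)) (e F κ c) =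
          e F κ c + (QW u)⁻¹ • wv n u - (QW u)⁻¹ • e F κ (ng c) := by
        have := act_S_e QW (ng c) ((QW u)⁻¹ • u)
        rw [ng_ng, wv_smul, QuadraticMap.map_smul, smul_eq_mul] at this
        rw [this, mul_assoc, inv_mul_cancel₀ hu, mul_one]
      rw [act_S_e_fix QW u (ng_ne c).symm, e1, map_sub, map_add, map_smul, map_smul, act_S_wv,
        act_S_e_fix QW u (ng_ne c).symm, act_S_e, Equiv.swap_apply_left, wSc, if_pos rfl, hbu]
      match_scalars <;> field_simp <;> ring
    by_cases h2 : c = ng a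
    · subst h2
      have e1 : act (S QW (ng a) ((QW u)⁻¹ • u)) (e F κ a) =
          e F κ a + (QW u)⁻¹ • wv n u - (QW u)⁻¹ • e F κ (ng a) := by
        have := act_S_e QW (ng a) ((QW u)⁻¹ • u)
        rw [ng_ng, wv_smul, QuadraticMap.map_smul, smul_eq_mul] at this
        rw [this, mul_assoc, inv_mul_cancel₀ hu, mul_one]
      rw [act_S_e, map_sub, map_add, map_smul, act_S_e_fix QW _ (by rw [ng_ng]; exact h1), act_S_wv, e1,
        Equiv.swap_apply_right, wSc, if_neg h1, if_pos rfl, QuadraticMap.polar_smul_left, hbu]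
      simp only [map_sub, map_add, map_smul, act_S_e, act_S_wv, act_S_e_fix QW u (ng_ne a).symm, hbu, smul_eq_mul]
      match_scalars <;> field_simp <;> ring
    · rw [act_S_e_fix QW u h2, act_S_e_fix QW _ (by rw [ng_ng]; exact h1), act_S_e_fix QW u h2,
        Equiv.swap_apply_of_ne_of_ne h1 h2, wSc, if_neg h1, if_neg h2, one_smul]
  · simp only [wS, act_mul]
    rw [act_S_wv, map_sub, map_smul, act_S_wv]
    have e1 : act (S QW (ng a) ((QW u)⁻¹ • u)) (e F κ a) =
        e F κ a + (QW u)⁻¹ • wv n u - (QW u)⁻¹ • e F κ (ng a) := by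
      have := act_S_e QW (ng a) ((QW u)⁻¹ • u)
      rw [ng_ng, wv_smul, QuadraticMap.map_smul, smul_eq_mul] at this
      rw [this, mul_assoc, inv_mul_cancel₀ hu, mul_one]
    rw [e1, rW_apply, sub_eq_add_neg (a := w), ← neg_smul, wv_add, wv_smul, QuadraticMap.polar_smul_left]
    simp only [map_sub, map_add, map_smul, act_S_e, act_S_wv, act_S_e_fix QW u (ng_ne a).symm, hbu, smul_eq_mul]
    match_scalars <;> field_simp <;> ring

theorem mono_w {a b : SIdx n} (h : lv a ≠ lv b) {t : F} (ht : t ≠ 0) :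
    IsMono QW ((longRels QW).w a b t) (sw a b) (DModel.wc a b t) LinearMap.id := by
  refine ⟨mul_mem (mul_mem (E_mem_iso QW _ _ _) (E_mem_iso QW _ _ _)) (E_mem_iso QW _ _ _), fun c => ?_, fun w => ?_⟩
  · show act (E QW a b t * E QW b a (-t⁻¹) * E QW a b t) (e F κ c) = _
    simp only [act_mul]
    obtain ⟨n1, n2⟩ := DType.lv_ne.1 h
    have e1 : ng a ≠ b := fun e => n2 (by rw [← e, ng_ng])
    have e2 : ng b ≠ a := fun e => n2 e.symm
    have e3 : ng b ≠ ng a := fun e => n1 (ng_inj.1 e).symm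
    have f1 : ∀ s, act (E QW b a s) (e F κ a) = e F κ a + s • e F κ b := act_E_e QW h.symm
    have f2 : ∀ s, act (E QW a b s) (e F κ b) = e F κ b + s • e F κ a := act_E_e QW h
    have g1 : ∀ s, act (E QW a b s) (e F κ (ng a)) = e F κ (ng a) - s • e F κ (ng b) := fun s => by
      rw [act_E QW h, e_inl, e_inl, if_pos rfl, if_neg (Ne.symm e1)]; module
    have g2 : ∀ s, act (E QW b a s) (e F κ (ng b)) = e F κ (ng b) - s • e F κ (ng a) := fun s => by
      rw [act_E QW h.symm, e_inl, e_inl, if_pos rfl, if_neg (Ne.symm e2)]; module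
    have k1 : ∀ s, act (E QW a b s) (e F κ a) = e F κ a := fun s =>
      act_E_e_fix QW h s (ng_ne a).symm n1
    have k2 : ∀ s, act (E QW b a s) (e F κ b) = e F κ b := fun s =>
      act_E_e_fix QW h.symm s (ng_ne b).symm n1.symm
    have k3 : ∀ s, act (E QW a b s) (e F κ (ng b)) = e F κ (ng b) := fun s =>
      act_E_e_fix QW h s e3 (ng_ne b)
    have k4 : ∀ s, act (E QW b a s) (e F κ (ng a)) = e F κ (ng a) := fun s =>
      act_E_e_fix QW h.symm s e3.symm (ng_ne a)
    simp only [DModel.wc]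
    by_cases h1 : c = a
    · subst h1
      rw [k1, f1, map_add, map_smul, k1, f2, sw_left h, if_pos rfl]
      match_scalars <;> field_simp <;> ring
    by_cases h2 : c = b
    · subst h2
      rw [f2, map_add, map_smul, k2, f1, sw_right h, if_neg h1, if_pos rfl]
      simp only [map_add, map_smul, k1, f2]
      match_scalars <;> field_simp <;> ring
    by_cases h3 : c = ng a
    · subst h3
      rw [g1, map_sub, map_smul, k4, g2, sw_ng h, sw_left h, if_neg h1, if_neg h2, if_pos rfl]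
      simp only [map_sub, map_smul, g1, k3]
      match_scalars <;> field_simp <;> ring
    by_cases h4 : c = ng b
    · subst h4
      rw [k3, g2, map_sub, map_smul, k3, g1, sw_ng h, sw_right h, if_neg h1, if_neg h2, if_neg h3, if_pos rfl]
      match_scalars <;> field_simp <;> ring
    rw [act_E_e_fix QW h t h3 h2, act_E_e_fix QW h.symm _ h4 h1, act_E_e_fix QW h t h3 h2,
      sw_apply_of_ne (DType.lv_ne.2 ⟨h1, h3⟩) (DType.lv_ne.2 ⟨h2, h4⟩), if_neg h1, if_neg h2, if_neg h3, if_neg h4,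
      one_smul]
  · show act (E QW a b t * E QW b a (-t⁻¹) * E QW a b t) (wv n w) = _
    simp only [act_mul, act_E_wv QW h, act_E_wv QW h.symm, LinearMap.id_apply]

/-! ### Generation -/

variable [Finite F]

theorem five_le (hn : 3 ≤ n) : 5 ≤ Fintype.card (J n κ) := by simp; omega

theorem E_mem_omega (hn : 3 ≤ n) (hW : (QuadraticMap.polarBilin QW).Nondegenerate) (a b : SIdx n) (t : F) :
    E QW a b t ∈ Cfsg.Geo.omegaGL ⇑(qf n QW) := sg_mem_omega (nondegenerate QW hW) (five_le hn) _ _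

theorem S_mem_omega (hn : 3 ≤ n) (hW : (QuadraticMap.polarBilin QW).Nondegenerate) (a : SIdx n) (w : κ → F) :
    S QW a w ∈ Cfsg.Geo.omegaGL ⇑(qf n QW) := sg_mem_omega (nondegenerate QW hW) (five_le hn) _ _

omit [Finite F] in
theorem full_e {M : Subgroup (GL (J n κ) F)} (hE : ∀ a b, lv a ≠ lv b → ∀ t : F, E QW a b t ∈ M)
    (hS' : ∀ a w, S QW a w ∈ M) (a : SIdx n) : Full (qf n QW) M (e F κ a) := by
  classical
  intro x hx
  rw [B_e] at hx
  have key : ∀ s : Finset (SIdx n), (∀ p ∈ s, lv p ≠ lv a) →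
      Bf (e F κ a) (∑ p ∈ s, x (.inl p) • e F κ p) = 0 ∧
        sg (qf n QW) (e F κ a) (∑ p ∈ s, x (.inl p) • e F κ p) ∈ M := by
    intro s
    induction s using Finset.induction_on with
    | empty => intro _; exact ⟨B_zero_right _ _, by rw [Finset.sum_empty, sg_zero]; exact one_mem _⟩
    | @insert p s hp ih =>
      intro hs
      obtain ⟨h1, h2⟩ := ih fun q hq => hs q (Finset.mem_insert_of_mem hq)
      have hne : lv a ≠ lv (ng p) := by rw [lv_ng]; exact (hs p (Finset.mem_insert_self _ _)).symm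
      have hB : Bf (e F κ a) (x (.inl p) • e F κ p) = 0 := by
        have := OrthW.hE QW (κ := κ) hne (x (.inl p)); rwa [ng_ng] at this
      have hm : sg (qf n QW) (e F κ a) (x (.inl p) • e F κ p) ∈ M := by
        have := hE a (ng p) hne (-(x (.inl p)))
        rwa [E, neg_neg, ng_ng] at this
      rw [Finset.sum_insert hp, B_add_right, hB, h1, add_zero, ← sg_add _ (Q_e QW a) hB h1]
      exact ⟨rfl, mul_mem hm h2⟩
  obtain ⟨h1, h2⟩ := key (Finset.univ.filter fun p => lv p ≠ lv a) fun p hp => (Finset.mem_filter.1 hp).2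
  have hx' : x = ((∑ p ∈ Finset.univ.filter (fun p => lv p ≠ lv a), x (.inl p) • e F κ p) +
      wv n (fun k => x (.inr k))) + x (.inl a) • e F κ a := by
    funext q
    rcases q with q | k
    · simp only [Finset.sum_apply, Pi.add_apply, Pi.smul_apply, e_inl, wv_inl, add_zero, smul_eq_mul, mul_ite,
        mul_one, mul_zero, Finset.sum_ite_eq, Finset.mem_filter, Finset.mem_univ, true_and]
      by_cases hq : lv q = lv a
      · rw [if_neg (not_not.2 hq), zero_add]
        rcases lv_eq.1 hq with rfl | rfl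
        · rw [if_pos rfl]
        · rw [if_neg (ng_ne a), hx]
      · rw [if_pos hq, if_neg fun e => hq (congrArg lv e), add_zero]
    · simp [Finset.sum_apply, e_inr, wv_inr]
  have hsum : sg (qf n QW) (e F κ a) ((∑ p ∈ Finset.univ.filter (fun p => lv p ≠ lv a), x (.inl p) • e F κ p) +
      wv n (fun k => x (.inr k))) ∈ M := by
    rw [← sg_add _ (Q_e QW a) h1 (OrthW.hS QW a _)]
    exact mul_mem h2 (hS' a _)
  rw [hx', sg_add_smul _ (Q_e QW a) (by rw [B_add_right, h1, OrthW.hS QW a, add_zero])]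
  exact hsum

/-- The root elements generate the derived group. -/
theorem omega_le (hn : 3 ≤ n) (hW : (QuadraticMap.polarBilin QW).Nondegenerate) {M : Subgroup (GL (J n κ) F)}
    (hE : ∀ a b, lv a ≠ lv b → ∀ t : F, E QW a b t ∈ M) (hS' : ∀ a w, S QW a w ∈ M) :
    Cfsg.Geo.omegaGL ⇑(qf n QW) ≤ M := by
  refine omega_le_of_full (nondegenerate QW hW) (five_le hn)
    (Q_e QW (.inl ⟨0, by omega⟩)) (Q_e QW (.inr ⟨0, by omega⟩)) ?_ (full_e QW hE hS' _) (full_e QW hE hS' _)
  simp [B_e_e]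

end Cfsg.Agent.Schur.OrthW
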