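import Cfsg.Agent.Lib.Schur.OrthW.Centre
import Cfsg.Agent.Lib.Schur.OrthW.Reindex

/-!
# The multiplier of `PΩ` in odd dimension
-/

set_option autoImplicit false

namespace Cfsg.Agent.Schur.OrthW

open CurtisTits CurtisTits.DType
open Cfsg.Agent.MaxCl Cfsg.Agent.MaxCl.Orth
open scoped MatrixGroups

universe u

variable (F : Type u) [Field F]

/-- The form `x ^ 2` on a line. -/
noncomputable def sqQ : QuadraticForm F (Unit → F) := QuadraticMap.sq.comp (LinearMap.proj ())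

variable {F}

theorem sqQ_apply (w : Unit → F) : sqQ F w = w () * w () := rfl

theorem polar_sqQ (w w' : Unit → F) : QuadraticMap.polar (⇑(sqQ F)) w w' = 2 * (w () * w' ()) := by
  simp only [QuadraticMap.polar, sqQ_apply, Pi.add_apply]
  ring

variable [Finite F]

theorem good_odd {n : ℕ} (hn : 3 ≤ n) (h2 : (2 : F) ≠ 0) (hexc : ¬ (n = 3 ∧ Nat.card F = 3)) :
    Good n (sqQ F) := by
  classical
  have := Fintype.ofFinite F
  have hA : ∀ w : Unit → F, sqQ F w = 0 → w = 0 := fun w hw => funext fun i => mul_self_eq_zero.1 hw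
  have key : ∀ w : Unit → F, (∀ w', QuadraticMap.polar (⇑(sqQ F)) w w' = 0) → w = 0 := fun w hw => funext fun _ => by
    have := hw fun _ => 1
    rw [polar_sqQ, mul_one] at this
    exact (mul_eq_zero.1 this).resolve_left h2
  have hW : (QuadraticMap.polarBilin (sqQ F)).Nondegenerate :=
    ⟨key, fun w hw => key w fun w' => by rw [QuadraticMap.polar_comm]; exact hw w'⟩
  have hrot : Rot (sqQ F) = ⊥ := by
    rw [Rot, Subgroup.closure_eq_bot_iff]
    rintro _ ⟨x, y, hx, hy, rfl⟩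
    have hneg : ∀ v : Unit → F, sqQ F v ≠ 0 → ∀ w, rW (sqQ F) v w = -w := fun v hv w => by
      rw [sqQ_apply] at hv
      have hv0 := left_ne_zero_of_mul hv
      rw [rW_apply, polar_sqQ, sqQ_apply]
      funext i
      simp only [Pi.sub_apply, Pi.smul_apply, Pi.neg_apply, smul_eq_mul]
      field_simp
      ring
    refine Set.mem_singleton_iff.2 (LinearEquiv.ext fun w => ?_)
    show rW (sqQ F) x (rW (sqQ F) y w) = w
    rw [hneg x hx, hneg y hy, neg_neg]
  refine ⟨hn, hA, hW, ⟨fun _ => 1, fun _ => (2 : F)⁻¹, ?_⟩, ?_, ?_⟩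
  · rw [polar_sqQ, one_mul, mul_inv_cancel₀ h2]
  · rw [hrot]; infer_instance
  intro a c d hcd h1 h2'
  have torus : ∀ α β : SIdx n, lv α ≠ lv β → ∀ s : F, s ≠ 0 → ∃ g : GL (J n Unit) F,
      g ∈ Cfsg.Geo.omegaGL ⇑(qf n (sqQ F)) ∧
      IsMono (sqQ F) g 1 (fun p => DModel.wc α β s (sw α β p) * DModel.wc α β (-1) p) LinearMap.id := by
    intro α β h s hs
    refine ⟨(longRels (sqQ F)).w α β s * (longRels (sqQ F)).w α β (-1), ?_, ?_⟩
    · have hE := E_mem_omega (sqQ F) hn hW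
      exact mul_mem (mul_mem (mul_mem (hE _ _ _) (hE _ _ _)) (hE _ _ _))
        (mul_mem (mul_mem (hE _ _ _) (hE _ _ _)) (hE _ _ _))
    · have hm := (mono_w (sqQ F) h hs).mul (mono_w (sqQ F) h (t := (-1 : F)) (neg_ne_zero.2 one_ne_zero))
      rwa [show sw α β * sw α β = 1 from Equiv.ext fun p => sw_sw h p, LinearMap.id_comp] at hm
  have val1 : ∀ α β : SIdx n, lv α ≠ lv β → ∀ s : F,
      (DModel.wc α β s (sw α β α) * DModel.wc α β (-1) α = s) ∧
      (DModel.wc α β s (sw α β (ng α)) * DModel.wc α β (-1) (ng α) = s⁻¹) ∧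
      ∀ p, lv p ≠ lv α → lv p ≠ lv β → DModel.wc α β s (sw α β p) * DModel.wc α β (-1) p = 1 := by
    intro α β h s
    obtain ⟨n1, n2⟩ := DType.lv_ne.1 h
    have e1 : ng α ≠ β := fun e => n2 (by rw [← e, ng_ng])
    have e3 : ng β ≠ ng α := fun e => n1 (ng_inj.1 e).symm
    refine ⟨?_, ?_, fun p hp hq => ?_⟩
    · rw [sw_left h]; simp [DModel.wc, n1.symm]
    · rw [sw_ng h, sw_left h]; simp [DModel.wc, n1, n2.symm, e1, e3, ng_ne]
    · rw [sw_apply_of_ne hp hq]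
      obtain ⟨a1, a2⟩ := DType.lv_ne.1 hp
      obtain ⟨b1, b2⟩ := DType.lv_ne.1 hq
      simp [DModel.wc, a1, a2, b1, b2]
  have hcase : ∀ {g : GL (J n Unit) F} {k : SIdx n → F}, g ∈ Cfsg.Geo.omegaGL ⇑(qf n (sqQ F)) →
      IsMono (sqQ F) g 1 k LinearMap.id → k a = 1 → k c * k (ng d) ≠ 1 → ∃ (g : GL (J n Unit) F) (k : SIdx n → F)
      (R : (Unit → F) →ₗ[F] (Unit → F)), g ∈ Cfsg.Geo.omegaGL ⇑(qf n (sqQ F)) ∧ IsMono (sqQ F) g 1 k R ∧
      ((k c * k (ng d) = 1 ∧ ∀ w, k a • R w = w → w = 0) ∨ ((∀ w, k a • R w = w) ∧ k c * k (ng d) ≠ 1)) :=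
    fun hg hm e1 e2 => ⟨_, _, _, hg, hm, Or.inr ⟨fun w => by rw [e1, one_smul, LinearMap.id_apply], e2⟩⟩
  have hcard3 : 3 ≤ Fintype.card F := by
    by_contra hlt
    have : Fintype.card F ≤ 2 := by omega
    apply h2
    have e0 : (Fintype.card F : F) = 0 := FiniteField.cast_card_eq_zero F
    have := Fintype.one_lt_card (α := F)
    rwa [show Fintype.card F = 2 by omega, Nat.cast_ofNat] at e0
  obtain ⟨s, hs0, hs1⟩ : ∃ s : F, s ≠ 0 ∧ s ≠ 1 := ⟨-1, neg_ne_zero.2 one_ne_zero, fun e => h2 (by linear_combination -e)⟩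
  obtain ⟨e', hce, hde⟩ := RelsD.exists_third hn c d
  by_cases hac : lv a = lv c
  · obtain ⟨g, hg, hm⟩ := torus d e' hde s hs0
    obtain ⟨v1, v2, v3⟩ := val1 d e' hde s
    refine hcase hg hm (v3 a (by rwa [hac]) (by rwa [hac])) ?_
    rw [v3 c hcd hce, one_mul, v2]
    exact fun e => hs1 (inv_eq_one.1 e)
  by_cases had : lv a = lv d
  · obtain ⟨g, hg, hm⟩ := torus c e' hce s hs0
    obtain ⟨v1, v2, v3⟩ := val1 c e' hce s
    refine hcase hg hm (v3 a (by rw [had]; exact hcd.symm) (by rwa [had])) ?_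
    rw [v1, v3 (ng d) (by rw [lv_ng]; exact hcd.symm) (by rwa [lv_ng]), mul_one]
    exact hs1
  by_cases h4 : 4 ≤ n
  · obtain ⟨e4, he1, he2, he3⟩ : ∃ e4 : SIdx n, lv e4 ≠ lv a ∧ lv e4 ≠ lv c ∧ lv e4 ≠ lv d := by
      obtain ⟨i, -, hi⟩ := Finset.exists_mem_notMem_of_card_lt_card
        (s := ({lv a, lv c, lv d} : Finset (Fin n))) (t := Finset.univ)
        (lt_of_le_of_lt Finset.card_le_three (by simp; omega))
      simp only [Finset.mem_insert, Finset.mem_singleton, not_or] at hi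
      exact ⟨Sum.inl i, hi⟩
    obtain ⟨g, hg, hm⟩ := torus c e4 he2.symm s hs0
    obtain ⟨v1, v2, v3⟩ := val1 c e4 he2.symm s
    refine hcase hg hm (v3 a hac he1.symm) ?_
    rw [v1, v3 (ng d) (by rw [lv_ng]; exact hcd.symm) (by rw [lv_ng]; exact he3.symm), mul_one]
    exact hs1
  · obtain ⟨t, ht⟩ : ∃ t : F, t * t ≠ 1 ∧ t ≠ 0 := by
      obtain ⟨t, -, ht⟩ := Finset.exists_mem_notMem_of_card_lt_card (s := ({0, 1, -1} : Finset F)) (t := Finset.univ) (by
        refine lt_of_le_of_lt Finset.card_le_three ?_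
        rw [Finset.card_univ]
        rcases hcard3.lt_or_eq with h | h
        · exact h
        · exact absurd ⟨by omega, by rw [Nat.card_eq_fintype_card]; exact h.symm⟩ hexc)
      simp only [Finset.mem_insert, Finset.mem_singleton, not_or] at ht
      exact ⟨t, fun e => (mul_self_eq_one_iff.1 e).elim ht.2.1 ht.2.2, ht.1⟩
    obtain ⟨g, hg, hm⟩ := torus c d hcd t ht.2
    obtain ⟨v1, v2, v3⟩ := val1 c d hcd t
    refine hcase hg hm (v3 a hac had) ?_
    obtain ⟨n1, n2⟩ := DType.lv_ne.1 hcd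
    have e1 : ng c ≠ d := fun e => n2 (by rw [← e, ng_ng])
    have vd : DModel.wc c d t (sw c d (ng d)) * DModel.wc c d (-1) (ng d) = t := by
      rw [sw_ng hcd, sw_right hcd]
      simp [DModel.wc, n2.symm, ng_ne, e1, show ng d ≠ ng c from fun e => n1.symm (ng_inj.1 e)]
    rw [v1, vd]
    exact ht.1

theorem pomega_odd_mult {m : ℕ} (hm : 3 ≤ m) (h2 : (2 : F) ≠ 0) (hexc : ¬ (m = 3 ∧ Nat.card F = 3)) :
    Cfsg.HasCyclicSchurMultiplier (Cfsg.POmega F (Cfsg.quadFormOdd m F)) 2 := by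
  have G := good_odd (F := F) hm h2 hexc
  have hodd : Odd (Fintype.card (J m Unit)) := by
    rw [Fintype.card_sum, Fintype.card_sum, Fintype.card_fin, Fintype.card_unit]
    exact ⟨m, by ring⟩
  have h := hasMult_two G h2 (not_neg_one_of_odd G h2 hodd)
  obtain ⟨e⟩ := pomega_reindex (Equiv.sumComm (SIdx m) Unit) (⇑(qf m (sqQ F))) (Cfsg.quadFormOdd m F) fun v => by
    rw [qf_apply, sqQ_apply, QForm.plusForm_apply, Cfsg.quadFormOdd, Cfsg.quadFormPlus, pow_two, add_comm]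
    rfl
  exact hasSchurMultiplier_congr e h

end Cfsg.Agent.Schur.OrthW
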