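import Cfsg.Agent.Lib.CurtisTits.DRoots

/-!
# The root system `B_n` on signed indices

Long roots are the roots of type `D_n`, short roots are the signed indices.
-/

set_option autoImplicit false

namespace Cfsg.Agent.Schur.OrthW

open CurtisTits CurtisTits.DType

/-- The roots. -/
abbrev Root (n : ℕ) : Type := DRoot n ⊕ SIdx n

variable {n : ℕ}

/-- A permutation respecting the signs. -/
def Signed (σ : Equiv.Perm (SIdx n)) : Prop := ∀ a, σ (ng a) = ng (σ a)

theorem Signed.lv_ne {σ : Equiv.Perm (SIdx n)} (h : Signed σ) {a b : SIdx n} (hab : lv a ≠ lv b) :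
    lv (σ a) ≠ lv (σ b) := by
  rw [DType.lv_ne] at hab ⊢
  exact ⟨fun e => hab.1 (σ.injective e), fun e => hab.2 (σ.injective (by rw [h b]; exact e))⟩

/-- The action on the roots. -/
def mapR (σ : Equiv.Perm (SIdx n)) (h : Signed σ) : Root n → Root n
  | .inl r => .inl (canon (σ r.1.1) (σ r.1.2) (h.lv_ne r.ne))
  | .inr a => .inr (σ a)

theorem mapR_canon (σ : Equiv.Perm (SIdx n)) (hσ : Signed σ) {a b : SIdx n} (h : lv a ≠ lv b) :
    mapR σ hσ (.inl (canon a b h)) = .inl (canon (σ a) (σ b) (hσ.lv_ne h)) := by
  show Sum.inl _ = Sum.inl _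
  congr 1
  rcases canon_cases a b h with e | e
  · simp only [e]
  · simp only [e, hσ b, hσ a]
    exact canon_swap _ _ (hσ.lv_ne h) _

/-- The opposite root. -/
def oppR : Root n → Root n
  | .inl r => .inl (opp r)
  | .inr a => .inr (ng a)

theorem oppR_oppR (r : Root n) : oppR (oppR r) = r := by
  rcases r with r | a <;> simp [oppR, opp_opp, ng_ng]

/-- Positive roots. -/
def Pos : Root n → Prop
  | .inl r => IsPos r
  | .inr a => ∃ i, a = Sum.inl i

theorem pos_oppR (r : Root n) : Pos (oppR r) ↔ ¬ Pos r := by
  rcases r with r | a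
  · exact isPos_opp r
  · rcases a with i | i <;> simp [oppR, Pos]

theorem oppR_mapR (σ : Equiv.Perm (SIdx n)) (hσ : Signed σ) (r : Root n) :
    mapR σ hσ (oppR r) = oppR (mapR σ hσ r) := by
  rcases r with r | a
  · have e : opp r = canon r.1.2 r.1.1 r.ne.symm := by rw [canon_flip _ _ r.ne, canon_val]
    show mapR σ hσ (.inl (opp r)) = _
    rw [e, mapR_canon]
    exact congrArg Sum.inl (canon_flip _ _ _)
  · exact congrArg Sum.inr (hσ a)

/-- The permutation of a node. -/
def tau (i : Fin n) : Equiv.Perm (SIdx n) :=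
  if h : i.val + 1 < n then sw (Sum.inl i) (Sum.inl ⟨i.val + 1, h⟩) else Equiv.swap (Sum.inl i) (ng (Sum.inl i))

theorem node_ne {i : Fin n} (h : i.val + 1 < n) :
    lv (Sum.inl i : SIdx n) ≠ lv (Sum.inl (⟨i.val + 1, h⟩ : Fin n) : SIdx n) := by
  simp [lv, Fin.ext_iff]

theorem swap_signed (a : SIdx n) : Signed (Equiv.swap a (ng a)) := by
  intro c
  by_cases h1 : c = a
  · subst h1; rw [Equiv.swap_apply_left, Equiv.swap_apply_right, ng_ng]
  by_cases h2 : c = ng a
  · subst h2; rw [Equiv.swap_apply_right, ng_ng, Equiv.swap_apply_left]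
  rw [Equiv.swap_apply_of_ne_of_ne h1 h2,
    Equiv.swap_apply_of_ne_of_ne (fun e => h2 (by rw [← e, ng_ng])) (fun e => h1 (ng_inj.1 e))]

theorem signed_tau (i : Fin n) : Signed (tau i) := by
  unfold tau
  split_ifs with h
  · exact sw_ng (node_ne h)
  · exact swap_signed _

theorem tau_tau (i : Fin n) (a : SIdx n) : tau i (tau i a) = a := by
  unfold tau
  split_ifs with h
  · exact sw_sw (node_ne h) a
  · exact Equiv.swap_apply_self _ _ _

/-- The simple reflection on the roots. -/
def reflR (i : Fin n) : Equiv.Perm (Root n) where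
  toFun := mapR (tau i) (signed_tau i)
  invFun := mapR (tau i) (signed_tau i)
  left_inv r := by
    rcases r with r | a
    · show mapR _ _ (.inl (canon _ _ _)) = _
      rw [mapR_canon]
      simp only [tau_tau, canon_val]
    · exact congrArg Sum.inr (tau_tau i a)
  right_inv r := by
    rcases r with r | a
    · show mapR _ _ (.inl (canon _ _ _)) = _
      rw [mapR_canon]
      simp only [tau_tau, canon_val]
    · exact congrArg Sum.inr (tau_tau i a)

theorem reflR_apply (i : Fin n) (r : Root n) : reflR i r = mapR (tau i) (signed_tau i) r := rfl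

theorem reflR_reflR (i : Fin n) (r : Root n) : reflR i (reflR i r) = r := (reflR i).left_inv r

/-- The simple roots. -/
def simpB (i : Fin n) : Root n :=
  if h : i.val + 1 < n then .inl ⟨(Sum.inl i, Sum.inl ⟨i.val + 1, h⟩), by simp [lv, Fin.lt_def]⟩
  else .inr (Sum.inl i)

theorem pos_simpB (i : Fin n) : Pos (simpB i) := by
  unfold simpB
  split_ifs
  · exact ⟨i, rfl⟩
  · exact ⟨i, rfl⟩

theorem simpB_injective : Function.Injective (simpB (n := n)) := by
  intro i j h
  unfold simpB at h
  split_ifs at h with hi hj hj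
  · exact Sum.inl.inj (congrArg (fun r : DRoot n => r.1.1) (Sum.inl.inj h))
  all_goals simp_all

theorem reflR_simpB (i : Fin n) : reflR i (simpB i) = oppR (simpB i) := by
  rw [reflR_apply]
  by_cases h : i.val + 1 < n
  · have e : (⟨(Sum.inl i, Sum.inl ⟨i.val + 1, h⟩), by simp [lv, Fin.lt_def]⟩ : DRoot n) =
        canon (Sum.inl i) (Sum.inl ⟨i.val + 1, h⟩) (node_ne h) := (canon_val _).symm
    rw [simpB, dif_pos h, e, mapR_canon]
    simp only [tau, dif_pos h, sw_left (node_ne h), sw_right (node_ne h)]
    exact congrArg Sum.inl (canon_flip _ _ _)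
  · rw [simpB, dif_neg h]
    show Sum.inr (tau i (Sum.inl i)) = Sum.inr _
    rw [tau, dif_neg h, Equiv.swap_apply_left]

/-- The pair of a node in the sense of type `D`. -/
theorem node_eq {i : Fin n} (h : i.val + 1 < n) :
    na i = Sum.inl i ∧ nb i = Sum.inl ⟨i.val + 1, h⟩ := by
  constructor
  · simp [na, h]
  · simp [nb, h]

theorem simpB_long (hn : 2 ≤ n) {i : Fin n} (h : i.val + 1 < n) : simpB i = .inl (simpR hn i) := by
  rw [simpB, dif_pos h]
  refine congrArg Sum.inl (Subtype.ext ?_)
  show _ = (na i, nb i)
  rw [(node_eq h).1, (node_eq h).2]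

theorem reflR_pos (hn : 2 ≤ n) (i : Fin n) (r : Root n) (hr : Pos r) (hne : r ≠ simpB i) :
    Pos (reflR i r) := by
  rw [reflR_apply]
  by_cases h : i.val + 1 < n
  · have ht : tau i = sw (na i) (nb i) := by rw [tau, dif_pos h, (node_eq h).1, (node_eq h).2]
    rcases r with r | a
    · show IsPos _
      have hne' : r ≠ simpR hn i := fun e => hne (by rw [simpB_long hn h, e])
      have := reflN_pos hn i r hr hne'
      rw [reflN, reflAt_apply] at this
      convert this using 3
    · obtain ⟨j, rfl⟩ := hr
      show ∃ k, tau i (Sum.inl j) = Sum.inl k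
      rw [tau, dif_pos h]
      by_cases h1 : j = i
      · subst h1; exact ⟨_, sw_left (node_ne h)⟩
      by_cases h2 : j = ⟨i.val + 1, h⟩
      · subst h2; exact ⟨_, sw_right (node_ne h)⟩
      exact ⟨j, sw_apply_of_ne h1 h2⟩
  · have hfix : ∀ c : SIdx n, lv c ≠ i → tau i c = c := fun c hc => by
      rw [tau, dif_neg h, Equiv.swap_apply_of_ne_of_ne (fun e => hc (by rw [e]; rfl))
        (fun e => hc (by rw [e, lv_ng]; rfl))]
    rcases r with r | a
    · obtain ⟨j, hj⟩ := hr
      have hlt := r.2
      rw [hj] at hlt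
      have hlt' : j.val < (lv r.1.2).val := hlt
      have := (lv r.1.2).isLt
      show IsPos _
      rw [isPos_canon, hj, hfix (Sum.inl j) (fun e => by rw [show j = i from e] at hlt'; omega)]
      obtain ⟨⟨c, d⟩, hcd⟩ := r
      change c = Sum.inl j at hj
      subst hj
      rcases hd : tau i d with k | k
      · show j.val < k.val
        have e : lv (tau i d) = lv d := by
          rw [tau, dif_neg h]
          by_cases h1 : d = Sum.inl i
          · subst h1; rw [Equiv.swap_apply_left, lv_ng]
          by_cases h2 : d = ng (Sum.inl i)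
          · subst h2; rw [Equiv.swap_apply_right, lv_ng]
          rw [Equiv.swap_apply_of_ne_of_ne h1 h2]
        rw [hd] at e
        exact (congrArg Fin.val e).symm ▸ hlt'
      · simp only [pos]
        have := k.isLt; have := j.isLt
        omega
    · obtain ⟨j, rfl⟩ := hr
      refine ⟨j, hfix _ fun e => hne ?_⟩
      rw [simpB, dif_neg h]
      exact congrArg (fun k => Sum.inr (Sum.inl k)) e

theorem ext_val {i j : Fin n} (h : i.val = j.val) : i = j := Fin.ext h

/-- The orbit of the simple roots is everything. -/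
theorem reach (r : Root n) : ∃ (l : List (Fin n)) (i : Fin n), (l.map reflR).prod (simpB i) = r := by
  classical
  let P : Root n → Prop := fun r => ∃ (l : List (Fin n)) (i : Fin n), (l.map reflR).prod (simpB i) = r
  have step : ∀ i r, P r → P (reflR i r) := fun i r ⟨l, j, e⟩ => ⟨i :: l, j, by simp [e]⟩
  have base : ∀ i, P (simpB i) := fun i => ⟨[], i, rfl⟩
  have hlast : 0 < n := by
    rcases r with r | a
    · exact (lv r.1.1).pos
    · exact (lv a).pos
  let L : Fin n := ⟨n - 1, by omega⟩
  have nL : ¬ L.val + 1 < n := by simp [L]; omega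
  -- the short roots
  have shortP : ∀ m (k : Fin n), k.val + m = n - 1 → P (.inr (Sum.inl k)) ∧ P (.inr (Sum.inr k)) := by
    intro m
    induction m with
    | zero =>
      intro k hk
      obtain rfl : k = L := Fin.ext (by simp [L] at hk ⊢; omega)
      have e : simpB L = (.inr (Sum.inl L) : Root n) := by rw [simpB, dif_neg nL]
      refine ⟨e ▸ base L, ?_⟩
      have := step L _ (base L)
      rwa [reflR_simpB, e] at this
    | succ m ih =>
      intro k hk
      have hk1 : k.val + 1 < n := by omega
      obtain ⟨p1, p2⟩ := ih ⟨k.val + 1, hk1⟩ (by simp only; omega)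
      have a1 := step k _ p1
      have a2 := step k _ p2
      rw [reflR_apply] at a1 a2
      simp only [mapR, tau, dif_pos hk1, sw_right (node_ne hk1)] at a1 a2
      refine ⟨a1, ?_⟩
      have e := sw_ng (node_ne hk1) (Sum.inl (⟨k.val + 1, hk1⟩ : Fin n))
      rw [sw_right (node_ne hk1)] at e
      rw [show (Sum.inr (⟨k.val + 1, hk1⟩ : Fin n) : SIdx n) = ng (Sum.inl ⟨k.val + 1, hk1⟩) from rfl, e] at a2
      exact a2
  -- the long roots
  have longU : ∀ m (i j : Fin n) (h : i.val < j.val), j.val = i.val + 1 + m →
      P (.inl ⟨(Sum.inl i, Sum.inl j), h⟩) := by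
    intro m
    induction m with
    | zero =>
      intro i j h hj
      have hi : i.val + 1 < n := by have := j.isLt; omega
      obtain rfl : j = ⟨i.val + 1, hi⟩ := Fin.ext hj
      have := base i
      rwa [simpB, dif_pos hi] at this
    | succ m ih =>
      intro i j h hj
      have := j.isLt
      obtain ⟨j', hj', rfl⟩ : ∃ (j' : Fin n) (hj' : j'.val + 1 < n), j = ⟨j'.val + 1, hj'⟩ :=
        ⟨⟨j.val - 1, by omega⟩, by simp only; omega, Fin.ext (by simp only; omega)⟩
      simp only at hj
      have hij : i.val < j'.val := by omega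
      have := step j' _ (ih i j' hij (by omega))
      have e : (⟨(Sum.inl i, Sum.inl j'), hij⟩ : DRoot n) = canon (Sum.inl i) (Sum.inl j') (ne_of_lt hij) :=
        (canon_val _).symm
      rw [reflR_apply, e, mapR_canon] at this
      simp only [tau, dif_pos hj'] at this
      convert this using 2
      rw [← canon_val (⟨(Sum.inl i, Sum.inl _), h⟩ : DRoot n)]
      congr 1
      · exact (sw_apply_of_ne (fun e => by have := congrArg Fin.val (show i = j' from e); omega)
          (fun e => by have := congrArg Fin.val (show i = _ from e); simp [lv] at this; omega)).symm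
      · exact (sw_left (node_ne hj')).symm
  have longD : ∀ m (i j : Fin n) (h : i.val < j.val), j.val + m = n - 1 →
      P (.inl ⟨(Sum.inl i, Sum.inr j), h⟩) := by
    intro m
    induction m with
    | zero =>
      intro i j h hj
      obtain rfl : j = L := Fin.ext (by simp [L] at hj ⊢; omega)
      have := step L _ (longU (L.val - i.val - 1) i L h (by omega))
      rw [reflR_apply, ← canon_val (⟨(Sum.inl i, Sum.inl L), h⟩ : DRoot n), mapR_canon] at this
      simp only [tau, dif_neg nL, Equiv.swap_apply_left] at this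
      convert this using 2
      rw [← canon_val (⟨(Sum.inl i, Sum.inr L), h⟩ : DRoot n)]
      congr 1
      exact (Equiv.swap_apply_of_ne_of_ne (fun e => by have := congrArg Fin.val (Sum.inl.inj e); omega)
        (fun e => by simp at e)).symm
    | succ m ih =>
      intro i j h hj
      have hj1 : j.val + 1 < n := by omega
      have h' : i.val < (⟨j.val + 1, hj1⟩ : Fin n).val := by simp only; omega
      have := step j _ (ih i ⟨j.val + 1, hj1⟩ h' (by simp only; omega))
      rw [reflR_apply, ← canon_val (⟨(Sum.inl i, Sum.inr ⟨j.val + 1, hj1⟩), h'⟩ : DRoot n), mapR_canon] at this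
      simp only [tau, dif_pos hj1] at this
      convert this using 2
      rw [← canon_val (⟨(Sum.inl i, Sum.inr j), h⟩ : DRoot n)]
      congr 1
      · exact (sw_apply_of_ne (fun e => by have := congrArg Fin.val (show i = j from e); omega)
          (fun e => by have := congrArg Fin.val (show i = _ from e); simp [lv] at this; omega)).symm
      · have e := sw_ng (node_ne hj1) (Sum.inl (⟨j.val + 1, hj1⟩ : Fin n))
        rw [sw_right (node_ne hj1)] at e
        exact e.symm
  have wl_opp : ∀ (l : List (Fin n)) r, (l.map reflR).prod (oppR r) = oppR ((l.map reflR).prod r) := by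
    intro l r
    induction l with
    | nil => rfl
    | cons a l ih => simp [ih, reflR_apply, oppR_mapR]
  have negP : ∀ r, P r → P (oppR r) := fun r ⟨l, i, e⟩ =>
    ⟨l ++ [i], i, by simp [reflR_simpB, wl_opp, e]⟩
  have hP : ∀ r : Root n, Pos r → P r := by
    intro r hr
    rcases r with ⟨⟨c, d⟩, h⟩ | a
    · obtain ⟨i, hi⟩ := hr
      change c = Sum.inl i at hi
      subst hi
      rcases d with j | j <;> have h' : i.val < j.val := h <;> have := j.isLt
      · exact longU (j.val - i.val - 1) i j h' (by omega)
      · exact longD (n - 1 - j.val) i j h' (by omega)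
    · obtain ⟨i, rfl⟩ := hr
      exact (shortP (n - 1 - i.val) i (by have := i.isLt; omega)).1
  by_cases hr : Pos r
  · exact hP r hr
  · have := negP _ (hP _ ((pos_oppR r).2 hr))
    rwa [oppR_oppR] at this

end Cfsg.Agent.Schur.OrthW
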