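import Cfsg.Agent.Lib.Schur.OrthW.Lift

/-!
# Canonical lifts of the short root elements, and conjugation by monomial elements
-/

set_option autoImplicit false

namespace Cfsg.Agent.Schur.OrthW

open CurtisTits CurtisTits.DType
open Cfsg.Agent.MaxCl Cfsg.Agent.MaxCl.Orth
open scoped MatrixGroups commutatorElement

universe u

namespace Ext

variable {F : Type u} [Field F] {n : ℕ} {κ : Type} [Fintype κ] [DecidableEq κ]
  {QW : QuadraticForm F (κ → F)} {M : Type u} [Group M] (D : Ext (n := n) QW M)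

set_option quotPrecheck false in
local notation "P2" => QuadraticMap.polar (⇑QW)

/-- The short root element obtained from `X a b t` and a lift at `b`. -/
noncomputable def delta (a b : SIdx n) (t : F) (w : κ → F) : M :=
  ⁅D.X a b t, D.lY b w⁆ * (D.X a (ng b) (t * QW w))⁻¹

theorem p_delta {a b : SIdx n} (h : lv a ≠ lv b) (t : F) (w : κ → F) :
    D.p (D.delta a b t w) = S QW a (t • w) := by
  rw [delta, map_mul, map_inv, map_commutatorElement, D.p_X h, D.p_lY, D.p_X (show lv a ≠ lv (ng b) by rwa [lv_ng]),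
    comm_ES QW h, mul_inv_cancel_right]

theorem comm_eq_delta {a b : SIdx n} (t : F) (w : κ → F) :
    ⁅D.X a b t, D.lY b w⁆ = D.delta a b t w * D.X a (ng b) (t * QW w) := by
  rw [delta, inv_mul_cancel_right]

theorem delta_add_right {a b : SIdx n} (h : lv a ≠ lv b) (t : F) (w w' : κ → F) :
    D.delta a b t (w + w') = D.delta a b t w * D.delta a b t w' := by
  have h' : lv a ≠ lv (ng b) := by rwa [lv_ng]
  set y := D.lY b w
  have e0 : ⁅D.X a b t, D.lY b (w + w')⁆ = ⁅D.X a b t, y⁆ * (y * ⁅D.X a b t, D.lY b w'⁆ * y⁻¹) := by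
    rw [D.congr (g' := D.X a b t) (h' := y * D.lY b w') rfl (by rw [map_mul, D.p_lY, D.p_lY, D.p_lY, S_add])]
    simp only [commutatorElement_def]; group
  have ey : ⁅y, D.delta a b t w'⁆ = D.X a (ng b) (t * P2 w w') := by
    rw [D.lam_eq (D.p_lY b w) (D.p_delta h t w'), D.lam_X h.symm, QuadraticMap.polar_smul_right, smul_eq_mul]
    have := D.X_symm h' (-(t * P2 w w'))
    rw [ng_ng, neg_neg] at this
    exact this
  have cX : ∀ s, Commute (D.X a (ng b) s) y := fun s => (D.long_commute h (D.p_X h' s) w).2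
  have cd : ∀ s v, Commute (D.X a (ng b) s) (D.delta a b t v) := fun s v =>
    D.commute_congr' (g' := D.lY a (t • v)) (by rw [D.p_delta h, D.p_lY]) (D.long_commute h (D.p_X h' s) _).1
  have cX' : Commute (D.X a (ng b) (t * QW w')) y⁻¹ := (cX _).inv_right
  rw [delta, e0, comm_eq_delta, comm_eq_delta,
    show y * (D.delta a b t w' * D.X a (ng b) (t * QW w')) * y⁻¹ =
      ⁅y, D.delta a b t w'⁆ * D.delta a b t w' * D.X a (ng b) (t * QW w') by
      rw [← mul_assoc, mul_assoc (y * D.delta a b t w'), cX'.eq]; simp only [commutatorElement_def]; group,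
    ey]
  calc D.delta a b t w * D.X a (ng b) (t * QW w) *
        (D.X a (ng b) (t * P2 w w') * D.delta a b t w' * D.X a (ng b) (t * QW w')) *
        (D.X a (ng b) (t * QW (w + w')))⁻¹
      = D.delta a b t w * ((D.X a (ng b) (t * QW w) * D.X a (ng b) (t * P2 w w')) * D.delta a b t w') *
          D.X a (ng b) (t * QW w') * (D.X a (ng b) (t * QW (w + w')))⁻¹ := by group
    _ = D.delta a b t w * D.delta a b t w' * ((D.X a (ng b) (t * QW w) * D.X a (ng b) (t * P2 w w') *
          D.X a (ng b) (t * QW w')) * (D.X a (ng b) (t * QW (w + w')))⁻¹) := by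
        rw [((cd _ w').mul_left (cd _ w')).eq]; group
    _ = _ := by
        rw [← D.X_add h', ← D.X_add h', show t * QW w + t * P2 w w' + t * QW w' = t * QW (w + w') by
          rw [QuadraticMap.map_add QW w w']; ring, mul_inv_cancel, mul_one]

/-- **Changing the middle index.** -/
theorem delta_change {a b c : SIdx n} (h1 : lv a ≠ lv b) (h2 : lv b ≠ lv c) (h3 : lv a ≠ lv c) (t u : F)
    (w : κ → F) : D.delta a b t (u • w) = D.delta a c (t * u) w := by
  have h1' : lv a ≠ lv (ng b) := by rwa [lv_ng]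
  have h2' : lv b ≠ lv (ng c) := by rwa [lv_ng]
  have h3' : lv a ≠ lv (ng c) := by rwa [lv_ng]
  have hcb : lv c ≠ lv (ng b) := by rw [lv_ng]; exact h2.symm
  have n1 := DType.lv_ne.1 h1
  have n2 := DType.lv_ne.1 h2
  have n3 := DType.lv_ne.1 h3
  set K := D.X a b t with hK
  set Y := D.lY c w with hY
  set X1 := D.X a c (t * u) with hX1
  set L1 := D.X b (ng c) (u * QW w) with hL1
  set Z := ⁅D.X b c u, Y⁆ with hZ
  set db := D.delta b c u w with hdb
  set dc := D.delta a c (t * u) w with hdc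
  have eZ : Z = db * L1 := D.comm_eq_delta u w
  have pdb : D.p db = D.p (D.lY b (u • w)) := by rw [D.p_delta h2, D.p_lY]
  have pdc : D.p dc = D.p (D.lY a ((t * u) • w)) := by rw [D.p_delta h3, D.p_lY]
  have e0 : D.delta a b t (u • w) = ⁅K, db⁆ * (D.X a (ng b) (t * QW (u • w)))⁻¹ := by
    rw [delta, D.congr rfl pdb]
  have cKY : Commute K Y := D.X_commute_lY h1 n2.1.symm (fun e => n3.2 (by rw [e, ng_ng])) t w (D.p_lY c w)
  have cL : Commute db L1 :=
    (D.X_commute_lY h2' (fun e => n2.2 e) (ng_ne b).symm _ _ (pdb.trans (D.p_lY b _))).symm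
  have eKX : K * D.X b c u * K⁻¹ = X1 * D.X b c u := by
    rw [hK, D.X_chain h1 h2 h3, mul_inv_cancel_right]
  have eKL : K * L1 * K⁻¹ = D.X a (ng c) (t * (u * QW w)) * L1 := by
    rw [hK, hL1, D.X_chain h1 h2' h3', mul_inv_cancel_right]
  have eK : K * Z * K⁻¹ = X1 * Z * X1⁻¹ * (dc * D.X a (ng c) (t * u * QW w)) := by
    rw [hZ, conjugate_commutatorElement, eKX, cKY.eq, mul_inv_cancel_right, ← D.comm_eq_delta, ← hX1, ← hY]
    simp only [commutatorElement_def]; group
  have cdbX : Commute X1 db := D.X_commute_lY h3 (fun e => n2.1 e) (fun e => n1.2 (by rw [e, ng_ng])) _ _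
    (pdb.trans (D.p_lY b _))
  have eX1 : X1 * L1 * X1⁻¹ = D.X a (ng b) (-(t * u * (u * QW w))) * L1 := by
    have : L1 = D.X c (ng b) (-(u * QW w)) := by
      have := D.X_symm h2' (-(u * QW w))
      rw [ng_ng, neg_neg] at this
      rw [hL1, this]
    rw [this, hX1, D.X_chain h3 hcb h1', mul_inv_cancel_right, mul_neg]
  have cA2 : ∀ s, Commute (D.X a (ng c) s) L1 := fun s =>
    D.X_comm h3' h2' n3.2 (fun e => n2.2 (by rw [← e])) n1.2 (fun e => ng_ne c (by rwa [ng_ng] at e)) s _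
  have cdL : Commute dc L1 := D.commute_congr pdc
    (D.X_commute_lY h2' n3.2 n1.2 _ _ (D.p_lY a _)).symm
  have cAB : ∀ s, Commute (D.X a (ng b) s) db := fun s =>
    D.commute_congr' pdb (D.long_commute h1 (D.p_X h1' s) _).2
  have ebc : ⁅db, dc⁆ = D.X a (ng b) (t * u * u * (2 * QW w)) := by
    rw [D.congr pdb pdc, show ⁅D.lY b (u • w), D.lY a ((t * u) • w)⁆ = D.lam b a (u • w) ((t * u) • w) from rfl,
      D.lam_X h1.symm, QuadraticMap.polar_smul_left, QuadraticMap.polar_smul_right, QuadraticMap.polar_self,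
      two_nsmul, ← two_mul, smul_eq_mul, smul_eq_mul]
    have := D.X_symm h1' (-(t * u * u * (2 * QW w)))
    rw [ng_ng, neg_neg] at this
    rw [← this]
    congr 1
    ring
  -- put the two evaluations of `K Z K⁻¹` together
  have e2 : K * Z * K⁻¹ = K * db * K⁻¹ * (D.X a (ng c) (t * (u * QW w)) * L1) := by
    rw [← eKL, eZ]; group
  have e3 : X1 * Z * X1⁻¹ * (dc * D.X a (ng c) (t * u * QW w)) =
      D.X a (ng b) (t * QW (u • w)) * dc * db * (D.X a (ng c) (t * (u * QW w)) * L1) := by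
    rw [eZ, show X1 * (db * L1) * X1⁻¹ = (X1 * db * X1⁻¹) * (X1 * L1 * X1⁻¹) by group, cdbX.eq,
      mul_inv_cancel_right, eX1, mul_assoc t u (QW w)]
    set A := D.X a (ng b) (-(t * u * (u * QW w)))
    set N := D.X a (ng c) (t * (u * QW w))
    have eA : D.X a (ng b) (t * QW (u • w)) = A * ⁅db, dc⁆ := by
      rw [ebc, ← D.X_add h1', QuadraticMap.map_smul, smul_eq_mul]
      congr 1
      ring
    rw [eA]
    have cA : Commute A db := cAB _
    have cN : Commute N L1 := cA2 _
    clear_value A N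
    calc db * (A * L1) * (dc * N) = A * db * (L1 * dc) * N := by rw [← mul_assoc db A, ← cA.eq]; group
      _ = A * db * dc * (L1 * N) := by rw [cdL.eq.symm]; group
      _ = A * ⁅db, dc⁆ * dc * db * (N * L1) := by rw [cN.eq, commutatorElement_def]; group
  have e4 : K * db * K⁻¹ = D.X a (ng b) (t * QW (u • w)) * dc * db := mul_right_cancel (e2.symm.trans (eK.trans e3))
  have cXd : Commute (D.X a (ng b) (t * QW (u • w))) dc :=
    D.commute_congr' pdc (D.long_commute h1 (D.p_X h1' _) _).1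
  rw [e0, commutatorElement_def, e4, mul_inv_cancel_right, cXd.eq, mul_inv_cancel_right]

/-- **The canonical lift of a short root element.** -/
noncomputable def Y (a : SIdx n) (w : κ → F) : M :=
  D.delta a (RelsD.exists_third D.hn a a).choose 1 w

theorem delta_one_congr {a b c : SIdx n} (h1 : lv a ≠ lv b) (h3 : lv a ≠ lv c) (w : κ → F) :
    D.delta a b 1 w = D.delta a c 1 w := by
  by_cases h2 : lv b = lv c
  · obtain ⟨d, hd1, hd2⟩ := RelsD.exists_third D.hn a b
    have e1 := D.delta_change h1 hd2 hd1 1 1 w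
    have e2 := D.delta_change (b := c) h3 (by rwa [← h2]) hd1 1 1 w
    rw [one_smul, one_mul] at e1 e2
    rw [e1, e2]
  · have e1 := D.delta_change h1 h2 h3 1 1 w
    rwa [one_smul, one_mul] at e1

theorem delta_eq {a b : SIdx n} (h : lv a ≠ lv b) (t : F) (w : κ → F) : D.delta a b t w = D.Y a (t • w) := by
  obtain ⟨d, hd1, hd2⟩ := RelsD.exists_third D.hn a b
  rw [Y, D.delta_one_congr (RelsD.exists_third D.hn a a).choose_spec.1 hd1]
  have e := D.delta_change hd1 hd2.symm h 1 t w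
  rw [one_mul] at e
  exact e.symm

theorem p_Y (a : SIdx n) (w : κ → F) : D.p (D.Y a w) = S QW a w := by
  rw [Y, D.p_delta (RelsD.exists_third D.hn a a).choose_spec.1, one_smul]

theorem Y_add (a : SIdx n) (w w' : κ → F) : D.Y a (w + w') = D.Y a w * D.Y a w' :=
  D.delta_add_right (RelsD.exists_third D.hn a a).choose_spec.1 1 w w'

theorem Y_zero (a : SIdx n) : D.Y a 0 = 1 := by
  have := D.Y_add a 0 0
  rw [add_zero] at this
  exact left_eq_mul.1 this

theorem Y_neg (a : SIdx n) (w : κ → F) : D.Y a (-w) = (D.Y a w)⁻¹ :=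
  eq_inv_of_mul_eq_one_left (by rw [← D.Y_add, neg_add_cancel, D.Y_zero])

theorem Y_commute_self (a : SIdx n) (w w' : κ → F) : Commute (D.Y a w) (D.Y a w') := by
  show _ = _
  rw [← D.Y_add, add_comm, D.Y_add]

theorem comm_YY {a b : SIdx n} (h : lv a ≠ lv b) (w w' : κ → F) :
    ⁅D.Y a w, D.Y b w'⁆ = D.X a (ng b) (-P2 w w') :=
  (D.lam_eq (D.p_Y a w) (D.p_Y b w')).trans (D.lam_X h w w')

theorem comm_XY {a b : SIdx n} (h : lv a ≠ lv b) (t : F) (w : κ → F) :
    ⁅D.X a b t, D.Y b w⁆ = D.Y a (t • w) * D.X a (ng b) (t * QW w) := by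
  rw [D.congr (g' := D.X a b t) (h' := D.lY b w) rfl (by rw [D.p_Y, D.p_lY]), D.comm_eq_delta, D.delta_eq h]

theorem X_commute_Y {a c d : SIdx n} (h : lv c ≠ lv d) (h1 : a ≠ d) (h2 : a ≠ ng c) (t : F) (w : κ → F) :
    Commute (D.X c d t) (D.Y a w) := D.X_commute_lY h h1 h2 t w (D.p_Y a w)

/-! ### Conjugation by monomial elements -/

variable {g : M} {σ : Equiv.Perm (SIdx n)} {c : SIdx n → F} {R : (κ → F) →ₗ[F] (κ → F)}

theorem conj_X (hg : IsMono QW (D.p g) σ c R) {a b : SIdx n} (h : lv a ≠ lv b) (t : F) :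
    g * D.X a b t * g⁻¹ = D.X (σ a) (σ b) (c a * c (ng b) * t) := by
  have hσ := (hg.c_mul b).1
  have hne := hg.lv_ne h
  have hp : ∀ p v, D.p (g * D.lY p v * g⁻¹) = S QW (σ p) (c p • R v) := fun p v => by
    rw [map_mul, map_mul, map_inv, D.p_lY, hg.conj_S]
  rw [X, show D.lam a (ng b) ((-t) • D.w1) D.w2 = ⁅D.lY a ((-t) • D.w1), D.lY (ng b) D.w2⁆ from rfl,
    conjugate_commutatorElement, D.lam_eq (hp _ _) (hp _ _), D.lam_X (by rw [hσ, lv_ng]; exact hne), hσ, ng_ng]
  congr 1
  simp only [map_smul, QuadraticMap.polar_smul_left, QuadraticMap.polar_smul_right, smul_eq_mul]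
  have : P2 (R D.w1) (R D.w2) = 1 := by
    rw [← D.B_w12]
    simp only [QuadraticMap.polar, ← map_add, hg.Q_map]
  rw [this]; ring

theorem conj_Y (hg : IsMono QW (D.p g) σ c R) (a : SIdx n) (w : κ → F) :
    g * D.Y a w * g⁻¹ = D.Y (σ a) (c a • R w) := by
  obtain ⟨b, hab, -⟩ := RelsD.exists_third D.hn a a
  have hab' : lv a ≠ lv (ng b) := by rwa [lv_ng]
  have hne := hg.lv_ne hab
  have hσ := (hg.c_mul b).1
  have hp : D.p (g * D.lY b w * g⁻¹) = D.p (D.lY (σ b) (c b • R w)) := by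
    rw [map_mul, map_mul, map_inv, D.p_lY, D.p_lY, hg.conj_S]
  have e := D.comm_eq_delta (a := a) (b := b) 1 w
  rw [D.delta_eq hab, one_smul, one_mul, eq_comm, ← eq_mul_inv_iff_mul_eq] at e
  rw [e, ← conj_mul, ← conj_inv, conjugate_commutatorElement, D.conj_X hg hab, D.congr rfl hp, D.conj_X hg hab',
    D.comm_eq_delta, D.delta_eq hne, smul_smul, hσ, QuadraticMap.map_smul, smul_eq_mul, hg.Q_map, ng_ng,
    show c a * c (ng b) * 1 * (c b * c b * QW w) = c a * c b * QW w by
      linear_combination (c a * c b * QW w) * (hg.c_mul b).2,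
    mul_inv_cancel_right]
  congr 2
  linear_combination c a * (hg.c_mul b).2

end Ext

end Cfsg.Agent.Schur.OrthW
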