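import Cfsg.Agent.Lib.Schur.OrthW.Centre
import Cfsg.Agent.Lib.Schur.OrthW.Odd

/-!
# Perfect central extensions of `Ω₇(3)`: the kernel is cyclic of order dividing six
-/

set_option autoImplicit false

namespace Cfsg.Agent.Schur.OrthW

open CurtisTits CurtisTits.DType
open Cfsg.Agent.MaxCl Cfsg.Agent.MaxCl.Orth
open scoped MatrixGroups commutatorElement

universe u

variable {F : Type u} [Field F] [Finite F] {n : ℕ} {κ : Type} [Fintype κ] [DecidableEq κ]
  {QW : QuadraticForm F (κ → F)}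

/-- A perfect central extension with commuting lifts as a setting. -/
noncomputable def extOfC (hn : 3 ≤ n) (hW : (QuadraticMap.polarBilin QW).Nondegenerate)
    (hB : ∃ w w' : κ → F, QuadraticMap.polar (⇑QW) w w' = 1) {M : Type u} [Group M] (p : M →* GL (J n κ) F)
    (hz : p.ker ≤ Subgroup.center M) (hr : p.range = Cfsg.Geo.omegaGL ⇑(qf n QW))
    (hC : ∀ a c d, lv c ≠ lv d → a ≠ d → a ≠ ng c → ∀ (t : F) (w : κ → F) (g h : M),
      p g = E QW c d t → p h = S QW a w → Commute g h) : Ext (n := n) QW M where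
  p := p
  central := hz
  memE a b _ t := by rw [hr]; exact E_mem_omega QW hn hW a b t
  memS a w := by rw [hr]; exact S_mem_omega QW hn hW a w
  hn := hn
  hC := hC
  hB := hB

/-- The kernel bound for extensions with commuting lifts. -/
theorem card_ker_leC (hn : 3 ≤ n) (hA : ∀ w, QW w = 0 → w = 0) (hrot : IsCyclic (Rot QW))
    (hW : (QuadraticMap.polarBilin QW).Nondegenerate) (hB : ∃ w w' : κ → F, QuadraticMap.polar (⇑QW) w w' = 1)
    {M : Type u} [Group M] [Finite M] (p : M →* GL (J n κ) F) (hz : p.ker ≤ Subgroup.center M)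
    (hr : p.range = Cfsg.Geo.omegaGL ⇑(qf n QW)) (hperf : _root_.commutator M = ⊤)
    (hC : ∀ a c d, lv c ≠ lv d → a ≠ d → a ≠ ng c → ∀ (t : F) (w : κ → F) (g h : M),
      p g = E QW c d t → p h = S QW a w → Commute g h) : Nat.card p.ker ≤ 2 := by
  classical
  let D := extOfC hn hW hB p hz hr hC
  have hgen : Subgroup.closure ({g | ∃ a b, lv a ≠ lv b ∧ ∃ t : F, g = D.X a b t} ∪
      {g | ∃ a, ∃ w, g = D.Y a w}) = ⊤ := by
    set C := Subgroup.closure ({g | ∃ a b, lv a ≠ lv b ∧ ∃ t : F, g = D.X a b t} ∪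
        {g | ∃ a, ∃ w, g = D.Y a w})
    have hmap : Cfsg.Geo.omegaGL ⇑(qf n QW) ≤ C.map p :=
      omega_le QW hn hW
        (fun a b h t => ⟨_, Subgroup.subset_closure (Or.inl ⟨a, b, h, t, rfl⟩), D.p_X h t⟩)
        (fun a w => ⟨_, Subgroup.subset_closure (Or.inr ⟨a, w, rfl⟩), D.p_Y a w⟩)
    rw [eq_top_iff, ← hperf, commutator_def, Subgroup.commutator_le]
    rintro a - b -
    obtain ⟨a', ha', ea⟩ := hmap (show p a ∈ _ by rw [← hr]; exact ⟨a, rfl⟩)
    obtain ⟨b', hb', eb⟩ := hmap (show p b ∈ _ by rw [← hr]; exact ⟨b, rfl⟩)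
    rw [Schur.commutator_congr hz ea.symm eb.symm, commutatorElement_def]
    exact mul_mem (mul_mem (mul_mem ha' hb') (inv_mem ha')) (inv_mem hb')
  have hex : ∀ g : p.ker, ∃ q : Schur.OrthPlus.P F n,
      (q : Fˣ × Fˣ).1 = 1 ∧ (g : M) = D.L (Schur.OrthPlus.phi D.hn q) :=
    fun g => D.exists_of_mem_ker hA hrot hgen g.2
  choose q hq1 hq2 using hex
  refine le_trans (Nat.card_le_card_of_injective
    (fun g => (⟨(q g : Fˣ × Fˣ).2, ?_⟩ : (powMonoidHom 2 : Fˣ →* Fˣ).ker)) fun g g' h => ?_) card_roots_le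
  · rw [MonoidHom.mem_ker, powMonoidHom_apply, (q g).2.2, hq1, one_pow]
  · have h2 : (q g : Fˣ × Fˣ).2 = (q g' : Fˣ × Fˣ).2 := congrArg Subtype.val h
    have : q g = q g' := Subtype.ext (Prod.ext ((hq1 g).trans (hq1 g').symm) h2)
    exact Subtype.ext (by rw [hq2, hq2, this])

/-- Some monomial element of `Ω` moves one signed index to another and fixes the other levels. -/
theorem exists_move (hn : 3 ≤ n) (hW : (QuadraticMap.polarBilin QW).Nondegenerate) {u : κ → F} (hu : QW u ≠ 0)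
    (x y : SIdx n) : ∃ (g : GL (J n κ) F) (σ : Equiv.Perm (SIdx n)) (k : SIdx n → F)
      (R : (κ → F) →ₗ[F] (κ → F)), g ∈ Cfsg.Geo.omegaGL ⇑(qf n QW) ∧ IsMono QW g σ k R ∧ σ x = y ∧
        ∀ z, lv z ≠ lv x → lv z ≠ lv y → σ z = z := by
  by_cases h : lv x = lv y
  · rcases lv_eq.1 h with rfl | rfl
    · exact ⟨1, 1, 1, LinearMap.id, one_mem _, isMono_one, rfl, fun _ _ _ => rfl⟩
    · refine ⟨_, _, _, _, mul_mem (mul_mem (S_mem_omega QW hn hW _ _) (S_mem_omega QW hn hW _ _))
        (S_mem_omega QW hn hW _ _), mono_wS QW (ng y) hu, ?_, fun z hz hz' => ?_⟩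
      · rw [Equiv.swap_apply_left, ng_ng]
      · exact Equiv.swap_apply_of_ne_of_ne (DType.lv_ne.1 hz).1 (by rw [ng_ng]; exact (DType.lv_ne.1 hz').1)
  · refine ⟨_, _, _, _, mul_mem (mul_mem (E_mem_omega QW hn hW _ _ _) (E_mem_omega QW hn hW _ _ _))
      (E_mem_omega QW hn hW _ _ _), mono_w QW h one_ne_zero, sw_left h, fun z hz hz' => sw_apply_of_ne hz hz'⟩

section Gamma

variable {M : Type u} [Group M] {p : M →* GL (J n κ) F} (hz : p.ker ≤ Subgroup.center M)
  (hr : p.range = Cfsg.Geo.omegaGL ⇑(qf n QW))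

variable (p) in
/-- All commutators of lifts at a configuration lie in `N`. -/
def CommIn (QW : QuadraticForm F (κ → F)) (N : Subgroup M) (a c d : SIdx n) : Prop :=
  ∀ (t : F) (w : κ → F) (g h : M), p g = E QW c d t → p h = S QW a w → ⁅g, h⁆ ∈ N

include hz hr

/-- The commutators of lifts as a biadditive function. -/
theorem gamma_facts (hn : 3 ≤ n) (hW : (QuadraticMap.polarBilin QW).Nondegenerate) {a c d : SIdx n}
    (hcd : lv c ≠ lv d) (h1 : a ≠ d) (h2 : a ≠ ng c) : ∃ γ : F → (κ → F) → M,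
      (∀ t w g h, p g = E QW c d t → p h = S QW a w → ⁅g, h⁆ = γ t w) ∧ (∀ t w, γ t w ∈ p.ker) ∧
      (∀ t t' w, γ (t + t') w = γ t w * γ t' w) ∧ ∀ t w w', γ t (w + w') = γ t w * γ t w' := by
  classical
  have hE : ∀ t, E QW c d t ∈ p.range := fun t => by rw [hr]; exact E_mem_omega QW hn hW c d t
  have hS : ∀ w, S QW a w ∈ p.range := fun w => by rw [hr]; exact S_mem_omega QW hn hW a w
  choose x hx using hE
  choose y hy using hS
  let γ : F → (κ → F) → M := fun t w => ⁅x t, y w⁆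
  have hγ : ∀ {t w g h}, p g = E QW c d t → p h = S QW a w → ⁅g, h⁆ = γ t w := fun h1 h2 =>
    Schur.commutator_congr hz (h1.trans (hx _).symm) (h2.trans (hy _).symm)
  have hk : ∀ t w, γ t w ∈ p.ker := fun t w => by
    rw [MonoidHom.mem_ker, map_commutatorElement, hx, hy, commutatorElement_eq_one_iff_commute]
    exact S_comm_E QW hcd h1 h2 t w
  have hc : ∀ t w, γ t w ∈ Subgroup.center M := fun t w => hz (hk t w)
  refine ⟨γ, fun t w g h => hγ, hk, fun t t' w => ?_, fun t w w' => ?_⟩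
  · rw [← hγ (show p (x t * x t') = E QW c d (t + t') by rw [map_mul, hx, hx, E_add QW hcd]) (hy w),
      show ⁅x t * x t', y w⁆ = x t * ⁅x t', y w⁆ * (x t)⁻¹ * ⁅x t, y w⁆ by simp only [commutatorElement_def]; group,
      Subgroup.mem_center_iff.1 (hc t' w) (x t), mul_inv_cancel_right]
    exact Subgroup.mem_center_iff.1 (hc t w) _
  · rw [← hγ (hx t) (show p (y w * y w') = S QW a (w + w') by rw [map_mul, hy, hy, S_add]),
      show ⁅x t, y w * y w'⁆ = ⁅x t, y w⁆ * (y w * ⁅x t, y w'⁆ * (y w)⁻¹) by simp only [commutatorElement_def]; group,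
      Subgroup.mem_center_iff.1 (hc t w') (y w), mul_inv_cancel_right]

/-- Monomial elements transport configurations. -/
theorem CommIn.move (hn : 3 ≤ n) (hW : (QuadraticMap.polarBilin QW).Nondegenerate) (hA : ∀ w, QW w = 0 → w = 0)
    {N : Subgroup M} {a c d : SIdx n} (H : CommIn p QW N a c d) (hcd : lv c ≠ lv d) (h1 : a ≠ d) (h2 : a ≠ ng c)
    {g : GL (J n κ) F} {σ : Equiv.Perm (SIdx n)} {k : SIdx n → F} {R : (κ → F) →ₗ[F] (κ → F)}
    (hg : g ∈ Cfsg.Geo.omegaGL ⇑(qf n QW)) (hm : IsMono QW g σ k R) : CommIn p QW N (σ a) (σ c) (σ d) := by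
  classical
  intro t w g' h' hg' hh'
  obtain ⟨m, rfl⟩ : g ∈ p.range := by rw [hr]; exact hg
  have hk : ∀ z, k z ≠ 0 := fun z e => by have := (hm.c_mul z).2; rw [e, zero_mul] at this; exact zero_ne_one this
  have hinj : Function.Injective R := by
    rw [← LinearMap.ker_eq_bot, Submodule.eq_bot_iff]
    intro v hv
    exact hA v (by rw [← hm.Q_map, LinearMap.mem_ker.1 hv, QuadraticMap.map_zero])
  obtain ⟨w', hw'⟩ := LinearMap.injective_iff_surjective.1 hinj ((k a)⁻¹ • w)
  obtain ⟨x, hx⟩ : E QW c d ((k c * k (ng d))⁻¹ * t) ∈ p.range := by rw [hr]; exact E_mem_omega QW hn hW _ _ _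
  obtain ⟨y, hy⟩ : S QW a w' ∈ p.range := by rw [hr]; exact S_mem_omega QW hn hW _ _
  have e1 : p (m * x * m⁻¹) = p g' := by
    rw [map_mul, map_mul, map_inv, hx, hm.conj_E hcd, hg']
    congr 1
    have := hk c
    have := hk (ng d)
    field_simp
  have e2 : p (m * y * m⁻¹) = p h' := by
    rw [map_mul, map_mul, map_inv, hy, hm.conj_S, hh', hw', smul_smul, mul_inv_cancel₀ (hk a), one_smul]
  have hmem := H _ _ x y hx hy
  have hcen : ⁅x, y⁆ ∈ Subgroup.center M := hz (by
    rw [MonoidHom.mem_ker, map_commutatorElement, hx, hy, commutatorElement_eq_one_iff_commute]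
    exact S_comm_E QW hcd h1 h2 _ _)
  rwa [Schur.commutator_congr hz e1.symm e2.symm, ← conjugate_commutatorElement, Subgroup.mem_center_iff.1 hcen m,
    mul_inv_cancel_right]

end Gamma

/-- Every element of a field of order three is `0`, `1` or `-1`. -/
theorem three_cases [Fintype F] (h3 : Fintype.card F = 3) (t : F) : t = 0 ∨ t = 1 ∨ t = -1 := by
  have h := FiniteField.pow_card t
  rw [h3] at h
  have e : t * (t - 1) * (t + 1) = 0 := by linear_combination h
  rcases mul_eq_zero.1 e with e' | e'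
  · rcases mul_eq_zero.1 e' with e'' | e''
    · exact Or.inl e''
    · exact Or.inr (Or.inl (sub_eq_zero.1 e''))
  · exact Or.inr (Or.inr (eq_neg_of_add_eq_zero_left e'))

/-- An element of `Ω` with diagonal action fixing the levels other than those of `α`, `β`. -/
theorem exists_flip (hn : 3 ≤ n) (hW : (QuadraticMap.polarBilin QW).Nondegenerate) {α β : SIdx n}
    (h : lv α ≠ lv β) : ∃ (g : GL (J n κ) F) (k : SIdx n → F), g ∈ Cfsg.Geo.omegaGL ⇑(qf n QW) ∧
      IsMono QW g 1 k LinearMap.id ∧ k α = -1 ∧ k (ng α) = -1 ∧ ∀ z, lv z ≠ lv α → lv z ≠ lv β → k z = 1 := by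
  have hE := E_mem_omega QW hn hW
  refine ⟨(longRels QW).w α β (-1) * (longRels QW).w α β (-1),
    fun z => DModel.wc α β (-1) (sw α β z) * DModel.wc α β (-1) z,
    mul_mem (mul_mem (mul_mem (hE _ _ _) (hE _ _ _)) (hE _ _ _))
      (mul_mem (mul_mem (hE _ _ _) (hE _ _ _)) (hE _ _ _)), ?_, ?_, ?_, fun z hz hz' => ?_⟩
  · have hm := (mono_w QW h (neg_ne_zero.2 (one_ne_zero (α := F)))).mul (mono_w QW h (neg_ne_zero.2 (one_ne_zero (α := F))))
    rwa [show sw α β * sw α β = 1 from Equiv.ext fun p => sw_sw h p, LinearMap.id_comp] at hm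
  · obtain ⟨n1, n2⟩ := DType.lv_ne.1 h
    simp only
    rw [sw_left h]
    simp [DModel.wc, n1.symm]
  · obtain ⟨n1, n2⟩ := DType.lv_ne.1 h
    have e1 : ng α ≠ β := fun e => n2 (by rw [← e, ng_ng])
    have e3 : ng β ≠ ng α := fun e => n1 (ng_inj.1 e).symm
    simp only
    rw [sw_ng h, sw_left h]
    simp [DModel.wc, n1, n2.symm, e1, e3, ng_ne]
  · obtain ⟨a1, a2⟩ := DType.lv_ne.1 hz
    obtain ⟨b1, b2⟩ := DType.lv_ne.1 hz'
    simp only
    rw [sw_apply_of_ne hz hz']
    simp [DModel.wc, a1, a2, b1, b2]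

omit [Finite F] in
/-- The form `x ^ 2` is anisotropic, nondegenerate and has a trivial rotation group. -/
theorem sqQ_facts (h2 : (2 : F) ≠ 0) : (∀ w, sqQ F w = 0 → w = 0) ∧
    (QuadraticMap.polarBilin (sqQ F)).Nondegenerate ∧ IsCyclic (Rot (sqQ F)) ∧
    ∃ w w' : Unit → F, QuadraticMap.polar (⇑(sqQ F)) w w' = 1 := by
  have key : ∀ w : Unit → F, (∀ w', QuadraticMap.polar (⇑(sqQ F)) w w' = 0) → w = 0 := fun w hw => funext fun _ => by
    have := hw fun _ => 1
    rw [polar_sqQ, mul_one] at this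
    exact (mul_eq_zero.1 this).resolve_left h2
  have hrot : Rot (sqQ F) = ⊥ := by
    rw [Rot, Subgroup.closure_eq_bot_iff]
    rintro _ ⟨x, y, hx, hy, rfl⟩
    have hneg : ∀ v : Unit → F, sqQ F v ≠ 0 → ∀ w, rW (sqQ F) v w = -w := fun v hv w => by
      rw [sqQ_apply] at hv
      have hv0 := left_ne_zero_of_mul hv
      rw [rW_apply, polar_sqQ, sqQ_apply]
      funext i
      simp only [Pi.sub_apply, Pi.smul_apply, Pi.neg_apply, smul_eq_mul]
      field_simp
      ring
    refine Set.mem_singleton_iff.2 (LinearEquiv.ext fun w => ?_)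
    show rW (sqQ F) x (rW (sqQ F) y w) = w
    rw [hneg x hx, hneg y hy, neg_neg]
  refine ⟨fun w hw => funext fun i => mul_self_eq_zero.1 hw,
    ⟨key, fun w hw => key w fun w' => by rw [QuadraticMap.polar_comm]; exact hw w'⟩,
    by rw [hrot]; infer_instance, fun _ => 1, fun _ => (2 : F)⁻¹, ?_⟩
  rw [polar_sqQ, one_mul, mul_inv_cancel₀ h2]

omit [Finite F] in
theorem two_ne_of_card_three [Fintype F] (h3 : Fintype.card F = 3) : (2 : F) ≠ 0 := fun e => by
  have h0 : (Fintype.card F : F) = 0 := FiniteField.cast_card_eq_zero F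
  rw [h3, Nat.cast_ofNat] at h0
  exact one_ne_zero (α := F) (by linear_combination h0 - e)

/-- **Perfect central extensions of `Ω₇(3)` have cyclic kernel of order dividing six.** -/
theorem ker_cyclic_six [Fintype F] (h3 : Fintype.card F = 3) {M : Type u} [Group M] [Finite M]
    (p : M →* GL (J 3 Unit) F) (hz : p.ker ≤ Subgroup.center M)
    (hr : p.range = Cfsg.Geo.omegaGL ⇑(qf 3 (sqQ F))) (hperf : _root_.commutator M = ⊤) :
    IsCyclic p.ker ∧ Nat.card p.ker ∣ 6 := by
  classical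
  obtain ⟨hA, hW, hrot, hB⟩ := sqQ_facts (F := F) (two_ne_of_card_three h3)
  have hn : 3 ≤ 3 := le_rfl
  let a0 : SIdx 3 := Sum.inl 0
  let c0 : SIdx 3 := Sum.inl 1
  let d0 : SIdx 3 := Sum.inl 2
  have e01 : lv a0 ≠ lv c0 := by decide
  have e02 : lv a0 ≠ lv d0 := by decide
  have e12 : lv c0 ≠ lv d0 := by decide
  obtain ⟨γ, hγ, hk, addL, addR⟩ := gamma_facts hz hr hn hW (a := a0) e12 (by decide) (by decide)
  have z3 : (1 : F) + 1 + 1 = 0 := by
    have h0 : (Fintype.card F : F) = 0 := FiniteField.cast_card_eq_zero F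
    rw [h3, Nat.cast_ofNat] at h0
    linear_combination h0
  have hL0 : ∀ w, γ 0 w = 1 := fun w => by
    have := addL 0 0 w
    rw [add_zero] at this
    exact left_eq_mul.1 this
  have hR0 : ∀ t, γ t 0 = 1 := fun t => by
    have := addR t 0 0
    rw [add_zero] at this
    exact left_eq_mul.1 this
  set u1 : Unit → F := fun _ => 1 with hu1
  set z := γ 1 u1 with hzdef
  have hz3 : z ^ 3 = 1 := by rw [pow_succ, pow_two, hzdef, ← addL, ← addL, z3, hL0]
  let N : Subgroup M := Subgroup.zpowers z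
  have hNp : N ≤ p.ker := Subgroup.zpowers_le.2 (hk _ _)
  have hNz : N ≤ Subgroup.center M := hNp.trans hz
  have hw : ∀ w : Unit → F, γ 1 w ∈ N := fun w => by
    have hw' : w = fun _ => w () := funext fun _ => rfl
    rcases three_cases h3 (w ()) with h | h | h <;> rw [hw', h]
    · rw [show (fun _ : Unit => (0 : F)) = 0 from rfl, hR0]; exact one_mem _
    · exact Subgroup.mem_zpowers z
    · have := addR 1 (fun _ => -1) u1
      rw [show (fun _ : Unit => (-1 : F)) + u1 = 0 from funext fun _ => by simp [hu1], hR0] at this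
      rw [eq_inv_of_mul_eq_one_left this.symm]
      exact inv_mem (Subgroup.mem_zpowers z)
  have hbase : CommIn p (sqQ F) N a0 c0 d0 := fun t w g h hg hh => by
    rw [hγ t w g h hg hh]
    rcases three_cases h3 t with e | e | e <;> subst e
    · rw [hL0]; exact one_mem _
    · exact hw w
    · have := addL (-1) 1 w
      rw [neg_add_cancel, hL0] at this
      rw [eq_inv_of_mul_eq_one_left this.symm]
      exact inv_mem (hw w)
  have hu : sqQ F u1 ≠ 0 := by rw [sqQ_apply]; simp [hu1]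
  have hall : ∀ a c d, lv c ≠ lv d → a ≠ d → a ≠ ng c → CommIn p (sqQ F) N a c d := by
    intro a c d hcd h1 h2
    by_cases hdist : lv a ≠ lv c ∧ lv a ≠ lv d
    · obtain ⟨hac, had⟩ := hdist
      obtain ⟨g1, s1, k1, R1, hg1, hm1, es1, -⟩ := exists_move hn hW hu a0 a
      have H1 := hbase.move hz hr hn hW hA e12 (by decide) (by decide) hg1 hm1
      have f01 := hm1.lv_ne e01
      have f02 := hm1.lv_ne e02
      have f12 := hm1.lv_ne e12
      rw [es1] at H1 f01 f02
      have side : ∀ {c' d' : SIdx 3}, lv a ≠ lv c' → lv a ≠ lv d' → a ≠ d' ∧ a ≠ ng c' := fun h h' =>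
        ⟨fun e => h' (congrArg lv e), fun e => h (by rw [e, lv_ng])⟩
      obtain ⟨g2, s2, k2, R2, hg2, hm2, es2, hf2⟩ := exists_move hn hW hu (s1 c0) c
      have H2 := H1.move hz hr hn hW hA f12 (side f01 f02).1 (side f01 f02).2 hg2 hm2
      have ea := hf2 a f01 hac
      have k01 := hm2.lv_ne f01
      have k02 := hm2.lv_ne f02
      have k12 := hm2.lv_ne f12
      rw [ea, es2] at H2 k01
      rw [ea] at k02
      rw [es2] at k12
      obtain ⟨g3, s3, k3, R3, hg3, hm3, es3, hf3⟩ := exists_move hn hW hu (s2 (s1 d0)) d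
      have H3 := H2.move hz hr hn hW hA k12 (side k01 k02).1 (side k01 k02).2 hg3 hm3
      rwa [es3, hf3 a k02 had, hf3 c k12 hcd] at H3
    · obtain ⟨γ', hγ', hk', addL', -⟩ := gamma_facts hz hr hn hW hcd h1 h2
      obtain ⟨e', hce, hde⟩ := RelsD.exists_third hn c d
      obtain ⟨g, k, hg, hm, hka, hkl⟩ : ∃ (g : GL (J 3 Unit) F) (k : SIdx 3 → F),
          g ∈ Cfsg.Geo.omegaGL ⇑(qf 3 (sqQ F)) ∧ IsMono (sqQ F) g 1 k LinearMap.id ∧ k a = 1 ∧
            k c * k (ng d) = -1 := by
        by_cases hac : lv a = lv c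
        · obtain ⟨g, k, hg, hm, v1, v2, v3⟩ := exists_flip (QW := sqQ F) hn hW hde
          exact ⟨g, k, hg, hm, v3 a (by rwa [hac]) (by rwa [hac]), by rw [v3 c hcd hce, v2, one_mul]⟩
        · have had : lv a = lv d := by
            by_contra h
            exact hdist ⟨hac, h⟩
          obtain ⟨g, k, hg, hm, v1, v2, v3⟩ := exists_flip (QW := sqQ F) hn hW hce
          exact ⟨g, k, hg, hm, v3 a hac (by rwa [had]),
            by rw [v1, v3 (ng d) (by rw [lv_ng]; exact hcd.symm) (by rwa [lv_ng]), mul_one]⟩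
      obtain ⟨m, rfl⟩ : g ∈ p.range := by rw [hr]; exact hg
      intro t w x y hx hy
      rw [hγ' t w x y hx hy]
      have inv : γ' (-t) w = γ' t w := by
        rw [← hγ' (-t) w (m * x * m⁻¹) (m * y * m⁻¹)
          (by rw [map_mul, map_mul, map_inv, hx, hm.conj_E hcd, hkl, neg_one_mul]; rfl)
          (by rw [map_mul, map_mul, map_inv, hy, hm.conj_S, hka, one_smul, LinearMap.id_apply]; rfl),
          ← conjugate_commutatorElement, hγ' t w x y hx hy, Subgroup.mem_center_iff.1 (hz (hk' t w)) m,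
          mul_inv_cancel_right]
      have h00 : γ' 0 w = 1 := by
        have := addL' 0 0 w
        rw [add_zero] at this
        exact left_eq_mul.1 this
      have h2 : γ' t w * γ' t w = 1 := by
        nth_rw 1 [← inv]
        rw [← addL', neg_add_cancel, h00]
      have h3' : γ' t w * γ' t w * γ' t w = 1 := by
        rw [← addL', ← addL', show t + t + t = 0 by linear_combination t * z3, h00]
      rw [h2, one_mul] at h3'
      rw [h3']
      exact one_mem _
  have hNn : N.Normal := ⟨fun x hx g => by rwa [Subgroup.mem_center_iff.1 (hNz hx) g, mul_inv_cancel_right]⟩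
  let p' : M ⧸ N →* GL (J 3 Unit) F := QuotientGroup.lift N p hNp
  have hker : p'.ker = p.ker.map (QuotientGroup.mk' N) := QuotientGroup.ker_lift N p hNp
  have hz' : p'.ker ≤ Subgroup.center (M ⧸ N) := by
    rw [hker]
    rintro _ ⟨x, hx, rfl⟩
    refine Subgroup.mem_center_iff.2 fun y => ?_
    obtain ⟨y, rfl⟩ := QuotientGroup.mk'_surjective N y
    rw [← map_mul, ← map_mul, Subgroup.mem_center_iff.1 (hz hx) y]
  have hr' : p'.range = Cfsg.Geo.omegaGL ⇑(qf 3 (sqQ F)) := by
    rw [← hr, show p = p'.comp (QuotientGroup.mk' N) from rfl, MonoidHom.range_comp, MonoidHom.range_eq_top.2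
      (QuotientGroup.mk'_surjective N), ← MonoidHom.range_eq_map]
  have hperf' : _root_.commutator (M ⧸ N) = ⊤ := by
    rw [commutator_def, ← Subgroup.map_top_of_surjective _ (QuotientGroup.mk'_surjective N), ← Subgroup.map_commutator,
      ← commutator_def, hperf]
  have hC : ∀ a c d, lv c ≠ lv d → a ≠ d → a ≠ ng c → ∀ (t : F) (w : Unit → F) (g h : M ⧸ N),
      p' g = E (sqQ F) c d t → p' h = S (sqQ F) a w → Commute g h := by
    intro a c d hcd h1 h2 t w g h hg hh
    obtain ⟨g, rfl⟩ := QuotientGroup.mk'_surjective N g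
    obtain ⟨h, rfl⟩ := QuotientGroup.mk'_surjective N h
    rw [← commutatorElement_eq_one_iff_commute, ← map_commutatorElement, QuotientGroup.mk'_apply,
      QuotientGroup.eq_one_iff]
    exact hall a c d hcd h1 h2 t w g h hg hh
  have hle := card_ker_leC hn hA hrot hW hB p' hz' hr' hperf' hC
  let r : p.ker →* p'.ker := ((QuotientGroup.mk' N).comp p.ker.subtype).codRestrict _ fun x => x.2
  have hrs : Function.Surjective r := fun x => by
    obtain ⟨y, hy, e⟩ : (x : M ⧸ N) ∈ p.ker.map (QuotientGroup.mk' N) := hker ▸ x.2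
    exact ⟨⟨y, hy⟩, Subtype.ext e⟩
  have hrk : r.ker = N.subgroupOf p.ker := by
    ext x
    rw [MonoidHom.mem_ker, Subgroup.mem_subgroupOf, ← QuotientGroup.eq_one_iff]
    exact Subtype.ext_iff
  have hcard : Nat.card p.ker = Nat.card p'.ker * Nat.card N := by
    rw [Subgroup.card_eq_card_quotient_mul_card_subgroup r.ker,
      Nat.card_congr (QuotientGroup.quotientKerEquivOfSurjective r hrs).toEquiv, hrk,
      Nat.card_congr (Subgroup.subgroupOfEquivOfLe hNp).toEquiv]
  have hN : Nat.card N ∣ 3 := by rw [Nat.card_zpowers]; exact orderOf_dvd_of_pow_eq_one hz3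
  have hdvd : Nat.card p.ker ∣ 6 := by
    rw [hcard]
    refine (Nat.mul_dvd_mul ?_ hN).trans (dvd_refl (2 * 3))
    have := Nat.card_pos (α := p'.ker)
    interval_cases h : Nat.card p'.ker <;> norm_num
  refine ⟨?_, hdvd⟩
  let _ : CommGroup p.ker :=
    { (inferInstance : Group p.ker) with
      mul_comm := fun a b => Subtype.ext (Subgroup.mem_center_iff.1 (hz b.2) a) }
  have := IsZGroup.of_squarefree (Squarefree.squarefree_of_dvd hdvd (by decide +kernel : Squarefree 6))
  exact IsCyclic.of_exponent_eq_card (IsZGroup.exponent_eq_card p.ker)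

end Cfsg.Agent.Schur.OrthW
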