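import Cfsg.Agent.Lib.Schur.OrthW.Kernel
import Cfsg.Agent.Lib.Schur.OrthPlus.Center
import Mathlib.GroupTheory.SpecificGroups.Cyclic

/-!
# The torus modulo the long torus

The classes of `WY u * WY (-v)` modulo the long torus form a group isomorphic to the rotations they induce;
hence the kernel has at most two elements.
-/

set_option autoImplicit false

namespace Cfsg.Agent.Schur.OrthW

open CurtisTits CurtisTits.DType
open Cfsg.Agent.MaxCl Cfsg.Agent.MaxCl.Orth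
open scoped MatrixGroups commutatorElement

universe u

variable {F : Type u} [Field F] {n : ℕ} {κ : Type} [Fintype κ] [DecidableEq κ] (QW : QuadraticForm F (κ → F))

theorem rW_self {u : κ → F} (hu : QW u ≠ 0) : rW QW u u = -u := by
  rw [rW_apply, QuadraticMap.polar_self, two_nsmul, ← two_mul]
  match_scalars
  field_simp
  ring

theorem rW_rW (u w : κ → F) : rW QW u (rW QW u w) = w := by
  by_cases hu : QW u = 0
  · simp [rW_apply, hu]
  rw [rW_apply, rW_apply, QuadraticMap.polar_sub_right, QuadraticMap.polar_smul_right, QuadraticMap.polar_self,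
    two_nsmul, smul_eq_mul]
  match_scalars <;> field_simp <;> ring

theorem Q_rW (u w : κ → F) : QW (rW QW u w) = QW w := by
  by_cases hu : QW u = 0
  · simp [rW_apply, hu]
  rw [rW_apply, sub_eq_add_neg, ← neg_smul, QuadraticMap.map_add QW, QuadraticMap.map_smul,
    QuadraticMap.polar_smul_right, QuadraticMap.polar_comm (⇑QW) w u, smul_eq_mul, smul_eq_mul]
  field_simp
  ring

/-- The reflection as an equivalence. -/
noncomputable def rWe (u : κ → F) : (κ → F) ≃ₗ[F] (κ → F) :=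
  LinearEquiv.ofInvolutive (rW QW u) (rW_rW QW u)

theorem rWe_apply (u w : κ → F) : rWe QW u w = rW QW u w := rfl

/-- The rotations. -/
def Rot : Subgroup ((κ → F) ≃ₗ[F] (κ → F)) :=
  Subgroup.closure {g | ∃ x y, QW x ≠ 0 ∧ QW y ≠ 0 ∧ g = rWe QW x * rWe QW y}

namespace Ext

variable {QW} {M : Type u} [Group M] (D : Ext (n := n) QW M)

/-- The long torus. -/
def TD : Subgroup M :=
  Subgroup.closure {g | ∃ a b, lv a ≠ lv b ∧ ∃ t u : F, t ≠ 0 ∧ u ≠ 0 ∧ g = D.rels.w a b t * D.rels.w a b u}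

theorem ww_mem_TD {a b : SIdx n} (h : lv a ≠ lv b) {t u : F} (ht : t ≠ 0) (hu : u ≠ 0) :
    D.rels.w a b t * D.rels.w a b u ∈ D.TD := Subgroup.subset_closure ⟨a, b, h, t, u, ht, hu, rfl⟩

theorem TD_le_H : D.TD ≤ D.H := Subgroup.closure_mono Set.subset_union_left

theorem conj_TD {g : M} {σ : Equiv.Perm (SIdx n)} {c : SIdx n → F} {R : (κ → F) →ₗ[F] (κ → F)}
    (hg : IsMono QW (D.p g) σ c R) {h : M} (hh : h ∈ D.TD) : g * h * g⁻¹ ∈ D.TD := by
  refine (show D.TD ≤ D.TD.comap (MulAut.conj g).toMonoidHom from ?_) hh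
  conv_lhs => rw [TD]
  rw [Subgroup.closure_le]
  rintro _ ⟨a, b, h, t, u, ht, hu, rfl⟩
  show g * (_ * _) * g⁻¹ ∈ D.TD
  have hne : c a * c (ng b) ≠ 0 := mul_ne_zero (left_ne_zero_of_mul (by rw [(hg.c_mul a).2]; exact one_ne_zero))
    (right_ne_zero_of_mul (by rw [(hg.c_mul b).2]; exact one_ne_zero))
  rw [← conj_mul, D.conj_w hg h, D.conj_w hg h]
  exact D.ww_mem_TD (hg.lv_ne h) (mul_ne_zero hne ht) (mul_ne_zero hne hu)

/-- Scaling the vector of a short Weyl element changes it by the long torus. -/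
theorem scal (a : SIdx n) {u : κ → F} (hu : QW u ≠ 0) {s : F} (hs : s ≠ 0) :
    D.WY a (s • u) * D.WY a (-u) ∈ D.TD := by
  obtain ⟨b, hab, -⟩ := RelsD.exists_third D.hn a a
  set d := D.rels.w a b s * D.rels.w a b (-1)
  have hd : d ∈ D.TD := D.ww_mem_TD hab hs (neg_ne_zero.2 one_ne_zero)
  have hm := (D.mono_w' hab hs).mul (D.mono_w' hab (t := (-1 : F)) (neg_ne_zero.2 one_ne_zero))
  rw [show sw a b * sw a b = 1 from Equiv.ext fun c => sw_sw hab c, ← map_mul] at hm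
  have e := D.conj_WY hm a u
  have hca : DModel.wc a b s (sw a b a) * DModel.wc a b (-1 : F) a = s := by
    rw [sw_left hab]
    simp [DModel.wc, ((DType.lv_ne.1 hab).1).symm]
  rw [hca, Equiv.Perm.one_apply, LinearMap.id_comp, LinearMap.id_apply] at e
  rw [← e, D.WY_neg, show d * D.WY a u * d⁻¹ * (D.WY a u)⁻¹ = d * (D.WY a u * d⁻¹ * (D.WY a u)⁻¹) by group]
  exact mul_mem hd (D.conj_TD (D.mono_WY a hu) (inv_mem hd))

/-- The reference index. -/
def a0 (hn : 3 ≤ n) : SIdx n := Sum.inl ⟨0, by omega⟩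

/-- The torus at the reference index. -/
def H1 : Subgroup M :=
  D.TD ⊔ Subgroup.closure {g | ∃ x y, QW x ≠ 0 ∧ QW y ≠ 0 ∧ g = D.WY (a0 D.hn) x * D.WY (a0 D.hn) y}

theorem YY_mem_H1 {x y : κ → F} (hx : QW x ≠ 0) (hy : QW y ≠ 0) :
    D.WY (a0 D.hn) x * D.WY (a0 D.hn) y ∈ D.H1 :=
  Subgroup.mem_sup_right (Subgroup.subset_closure ⟨x, y, hx, hy, rfl⟩)

theorem H1_le_H : D.H1 ≤ D.H :=
  sup_le D.TD_le_H ((Subgroup.closure_le _).2 (by
    rintro _ ⟨x, y, hx, hy, rfl⟩; exact D.YY_mem_H _ hx hy))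

theorem H_le_H1 : D.H ≤ D.H1 := by
  rw [H, Subgroup.closure_le]
  rintro _ (⟨a, b, h, t, u, ht, hu, rfl⟩ | ⟨a, v, v', hv, hv', rfl⟩)
  · exact Subgroup.mem_sup_left (D.ww_mem_TD h ht hu)
  have hq : ∀ w : κ → F, QW w ≠ 0 → QW ((QW w)⁻¹ • w) ≠ 0 := fun w hw => by
    rw [QuadraticMap.map_smul, smul_eq_mul]
    exact mul_ne_zero (mul_ne_zero (inv_ne_zero hw) (inv_ne_zero hw)) hw
  by_cases hl : lv (a0 D.hn) = lv a
  · rcases lv_eq.1 hl.symm with rfl | rfl
    · exact D.YY_mem_H1 hv hv'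
    · rw [D.WY_flip _ hv, D.WY_flip _ hv', ng_ng]
      exact D.YY_mem_H1 (hq v hv) (hq v' hv')
  · set g := D.rels.w (a0 D.hn) a 1
    set P := D.WY (a0 D.hn) (-v) * D.WY (a0 D.hn) (-v')
    have hg := D.mono_w' hl (one_ne_zero (α := F))
    have hv1 : QW (-v) ≠ 0 := by rwa [QuadraticMap.map_neg]
    have hv2 : QW (-v') ≠ 0 := by rwa [QuadraticMap.map_neg]
    have hc : DModel.wc (a0 D.hn) a (1 : F) (a0 D.hn) = -1 := by simp [DModel.wc]
    have e : D.WY a v * D.WY a v' = g * P * g⁻¹ := by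
      rw [← conj_mul, D.conj_WY hg, D.conj_WY hg, sw_left hl, hc]
      simp
    have hP : P ∈ D.H1 := D.YY_mem_H1 hv1 hv2
    obtain ⟨c, R, hm⟩ := D.H_le_Diag (D.H1_le_H hP)
    have hk : c (a0 D.hn) * c (ng a) * -1 ≠ 0 := mul_ne_zero (mul_ne_zero
      (left_ne_zero_of_mul (by rw [(hm.c_mul (a0 D.hn)).2]; exact one_ne_zero))
      (right_ne_zero_of_mul (by rw [(hm.c_mul a).2]; exact one_ne_zero))) (neg_ne_zero.2 one_ne_zero)
    have hc2 : g * (P * g⁻¹ * P⁻¹) ∈ D.TD := by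
      rw [← D.rels.w_neg hl, D.conj_w hm hl, Equiv.Perm.one_apply, Equiv.Perm.one_apply]
      exact D.ww_mem_TD hl one_ne_zero hk
    show D.WY a v * D.WY a v' ∈ D.H1
    rw [e, show g * P * g⁻¹ = g * (P * g⁻¹ * P⁻¹) * P by group]
    exact mul_mem (Subgroup.mem_sup_left hc2) hP

instance normal_TD : (D.TD.subgroupOf D.H1).Normal := by
  refine ⟨fun x hx g => ?_⟩
  obtain ⟨c, R, hm⟩ := D.H_le_Diag (D.H1_le_H g.2)
  rw [Subgroup.mem_subgroupOf] at hx ⊢
  exact D.conj_TD hm hx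

/-- The quotient by the long torus. -/
abbrev A : Type u := D.H1 ⧸ D.TD.subgroupOf D.H1

/-- The `W`-part of an element. -/
noncomputable def rPart (g : M) : (κ → F) →ₗ[F] (κ → F) :=
  (LinearMap.funLeft F F Sum.inr) ∘ₗ (act (D.p g)) ∘ₗ
    { toFun := wv n, map_add' := wv_add, map_smul' := fun c w => wv_smul c w }

theorem rPart_eq {g : M} {σ : Equiv.Perm (SIdx n)} {c : SIdx n → F} {R : (κ → F) →ₗ[F] (κ → F)}
    (hg : IsMono QW (D.p g) σ c R) : D.rPart g = R := by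
  refine LinearMap.ext fun w => ?_
  show (fun j => act (D.p g) (wv n w) (Sum.inr j)) = _
  rw [hg.map_wv]
  rfl

theorem rPart_mul {g h : M} (hg : g ∈ D.Diag) (hh : h ∈ D.Diag) :
    D.rPart (g * h) = D.rPart g ∘ₗ D.rPart h := by
  obtain ⟨c, R, hm⟩ := hg
  obtain ⟨c', R', hm'⟩ := hh
  have := hm.mul hm'
  rw [← map_mul] at this
  rw [D.rPart_eq this, D.rPart_eq hm, D.rPart_eq hm']

theorem rPart_mul_mono {g h : M} {σ σ' : Equiv.Perm (SIdx n)} {c c' : SIdx n → F}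
    {R R' : (κ → F) →ₗ[F] (κ → F)} (hg : IsMono QW (D.p g) σ c R) (hh : IsMono QW (D.p h) σ' c' R') :
    D.rPart (g * h) = R ∘ₗ R' := by
  have := hg.mul hh
  rw [← map_mul] at this
  exact D.rPart_eq this

theorem rPart_one : D.rPart 1 = LinearMap.id := D.rPart_eq (by rw [map_one]; exact isMono_one)

/-- The `W`-part as a homomorphism. -/
noncomputable def chi : D.Diag →* ((κ → F) ≃ₗ[F] (κ → F)) :=
  MonoidHom.mk' (fun g => LinearEquiv.ofLinearMap (D.rPart g) (D.rPart g⁻¹)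
      (by rw [← D.rPart_mul g.2 (inv_mem g.2), mul_inv_cancel, D.rPart_one])
      (by rw [← D.rPart_mul (inv_mem g.2) g.2, inv_mul_cancel, D.rPart_one]))
    fun g h => LinearEquiv.ext fun w => by
      show D.rPart (g * h : M) w = D.rPart g (D.rPart h w)
      rw [D.rPart_mul g.2 h.2]; rfl

theorem chi_apply (g : D.Diag) (w : κ → F) : D.chi g w = D.rPart g w := rfl

theorem chi_TD {g : M} (hg : g ∈ D.TD) : D.rPart g = LinearMap.id := by
  unfold TD at hg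
  suffices ∀ g ∈ D.TD, g ∈ D.Diag ∧ D.rPart g = LinearMap.id from (this g hg).2
  intro g hg
  unfold TD at hg
  induction hg using Subgroup.closure_induction with
  | mem x hx =>
    obtain ⟨a, b, h, t, u, ht, hu, rfl⟩ := hx
    refine ⟨D.H_le_Diag (D.ww_mem_H h ht hu), ?_⟩
    have hm := (D.mono_w' h ht).mul (D.mono_w' h hu)
    rw [← map_mul] at hm
    rw [D.rPart_eq hm, LinearMap.id_comp]
  | one => exact ⟨one_mem _, D.rPart_one⟩
  | mul x y _ _ ihx ihy => exact ⟨mul_mem ihx.1 ihy.1, by rw [D.rPart_mul ihx.1 ihy.1, ihx.2, ihy.2, LinearMap.id_comp]⟩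
  | inv x _ ih =>
    refine ⟨inv_mem ih.1, ?_⟩
    have := D.rPart_mul (inv_mem ih.1) ih.1
    rw [inv_mul_cancel, D.rPart_one, ih.2, LinearMap.comp_id] at this
    exact this.symm

/-- The rotation of an element of the quotient. -/
noncomputable def chiA : D.A →* ((κ → F) ≃ₗ[F] (κ → F)) :=
  QuotientGroup.lift _ (D.chi.comp (Subgroup.inclusion (D.H1_le_H.trans D.H_le_Diag))) fun g hg => by
    rw [MonoidHom.mem_ker]
    exact LinearEquiv.ext fun w => by
      show D.rPart (g : M) w = w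
      rw [D.chi_TD (Subgroup.mem_subgroupOf.1 hg)]; rfl

/-- The class of an element of `H1`. -/
def mkA (g : M) (hg : g ∈ D.H1) : D.A := QuotientGroup.mk ⟨g, hg⟩

theorem mkA_eq {g g' : M} (hg : g ∈ D.H1) (hg' : g' ∈ D.H1) (h : g * g'⁻¹ ∈ D.TD) :
    D.mkA g hg = D.mkA g' hg' := by
  rw [mkA, mkA, QuotientGroup.eq, Subgroup.mem_subgroupOf]
  show g⁻¹ * g' ∈ D.TD
  obtain ⟨c, R, hm⟩ := D.H_le_Diag (D.H1_le_H (inv_mem hg))
  have := D.conj_TD hm (inv_mem h)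
  rw [show g⁻¹ * (g * g'⁻¹)⁻¹ * g⁻¹⁻¹ = g⁻¹ * g' by group] at this
  exact this

variable (hA : ∀ w, QW w = 0 → w = 0)

/-- The non-zero vectors of `W`. -/
abbrev V0 (F : Type u) [Zero F] (κ : Type) : Type u := {w : κ → F // w ≠ 0}

include hA in
theorem Q_ne {w : κ → F} (hw : w ≠ 0) : QW w ≠ 0 := fun e => hw (hA w e)

/-- The class of a pair. -/
noncomputable def cls (x y : V0 F κ) : D.A :=
  D.mkA (D.WY (a0 D.hn) x.1 * D.WY (a0 D.hn) (-y.1))
    (D.YY_mem_H1 (Q_ne hA x.2) (by rw [QuadraticMap.map_neg]; exact Q_ne hA y.2))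

theorem cls_mul (x y z : V0 F κ) : D.cls hA x y * D.cls hA y z = D.cls hA x z := by
  rw [cls, cls, cls, mkA, mkA, mkA, ← QuotientGroup.mk_mul]
  congr 1
  refine Subtype.ext ?_
  show _ * _ * (_ * _) = _
  simp only [D.WY_neg]
  group

theorem cls_self (x : V0 F κ) : D.cls hA x x = 1 := by
  have := D.cls_mul hA x x x
  rwa [mul_eq_left] at this

theorem cls_inv (x y : V0 F κ) : (D.cls hA x y)⁻¹ = D.cls hA y x :=
  inv_eq_of_mul_eq_one_right (by rw [D.cls_mul, D.cls_self])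

theorem cls_left {x x' : V0 F κ} (y : V0 F κ) {s : F} (h : x'.1 = s • x.1) : D.cls hA x' y = D.cls hA x y := by
  have hs : s ≠ 0 := fun e => x'.2 (by rw [h, e, zero_smul])
  refine D.mkA_eq _ _ ?_
  rw [show D.WY (a0 D.hn) x'.1 * D.WY (a0 D.hn) (-y.1) * (D.WY (a0 D.hn) x.1 * D.WY (a0 D.hn) (-y.1))⁻¹ =
    D.WY (a0 D.hn) x'.1 * (D.WY (a0 D.hn) x.1)⁻¹ by group, ← D.WY_neg, h]
  exact D.scal _ (Q_ne hA x.2) hs

theorem cls_right (x : V0 F κ) {y y' : V0 F κ} {s : F} (h : y'.1 = s • y.1) : D.cls hA x y' = D.cls hA x y := by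
  rw [← D.cls_inv hA y' x, ← D.cls_inv hA y x, D.cls_left hA x h]

/-- The reflected vector. -/
noncomputable def sv (QW : QuadraticForm F (κ → F)) (v x : V0 F κ) : V0 F κ :=
  ⟨rW QW v.1 x.1, fun e => x.2 (by rw [← rW_rW QW v.1 x.1, e, map_zero])⟩

theorem neg_v (y : V0 F κ) : ∃ y' : V0 F κ, y'.1 = (-1 : F) • y.1 :=
  ⟨⟨-y.1, neg_ne_zero.2 y.2⟩, (neg_one_smul F y.1).symm⟩

theorem cls_refl (v x y : V0 F κ) :
    D.cls hA (sv QW v x) (sv QW v y) = D.cls hA v x * D.cls hA y v := by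
  set a := a0 D.hn
  set g := D.WY a v.1
  have hv := Q_ne hA v.2
  have hg := D.mono_WY a hv
  have hQ : ∀ z : V0 F κ, QW ((-(QW v.1)⁻¹) • rW QW v.1 z.1) ≠ 0 := fun z => by
    rw [QuadraticMap.map_smul, smul_eq_mul, Q_rW]
    exact mul_ne_zero (mul_ne_zero (neg_ne_zero.2 (inv_ne_zero hv)) (neg_ne_zero.2 (inv_ne_zero hv))) (Q_ne hA z.2)
  have flip : ∀ z : V0 F κ, ∃ z' : V0 F κ, (∃ s : F, z'.1 = s • (sv QW v z).1) ∧
      g * D.WY a z.1 * g⁻¹ = D.WY a z'.1 := by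
    intro z
    have e := D.conj_WY hg a z.1
    rw [Equiv.swap_apply_left, wSc, if_pos rfl, D.WY_flip _ (hQ z), ng_ng, smul_smul] at e
    refine ⟨⟨_, fun h => ?_⟩, ⟨_, rfl⟩, e⟩
    rcases smul_eq_zero.1 h with h' | h'
    · rcases mul_eq_zero.1 h' with h'' | h''
      · exact inv_ne_zero (hQ z) h''
      · exact neg_ne_zero.2 (inv_ne_zero hv) h''
    · exact (sv QW v z).2 h'
  obtain ⟨x', ⟨s, hs⟩, ex⟩ := flip x
  obtain ⟨y', ⟨t, ht⟩, ey⟩ := flip y
  obtain ⟨xn, hxn⟩ := neg_v x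
  obtain ⟨yn, hyn⟩ := neg_v y
  rw [← D.cls_left hA _ hs, ← D.cls_right hA _ ht, ← D.cls_right hA v hxn, ← D.cls_left hA v hyn, cls, cls, cls, mkA, mkA, mkA,
    ← QuotientGroup.mk_mul]
  congr 1
  refine Subtype.ext ?_
  show _ * _ = _ * _ * (_ * _)
  rw [hxn, hyn, neg_one_smul, neg_one_smul, neg_neg, D.WY_neg _ y'.1, ← ex, ← ey, D.WY_neg _ v.1, D.WY_neg _ y.1]
  group
  rfl

theorem cls_generate : Subgroup.closure {z : D.A | ∃ x y, z = D.cls hA x y} = ⊤ := by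
  rw [eq_top_iff]
  rintro z -
  obtain ⟨⟨g, hg⟩, rfl⟩ := QuotientGroup.mk_surjective z
  suffices ∀ g ∈ D.H1, ∃ h : g ∈ D.H1, D.mkA g h ∈ Subgroup.closure {z : D.A | ∃ x y, z = D.cls hA x y} from
    (this g hg).2
  intro g hg
  have hsub : ∀ g ∈ D.TD, ∀ h : g ∈ D.H1, D.mkA g h = 1 := fun g hg h =>
    (QuotientGroup.eq_one_iff _).2 (Subgroup.mem_subgroupOf.2 hg)
  rw [H1, Subgroup.sup_eq_closure_mul] at hg
  induction hg using Subgroup.closure_induction with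
  | mem x hx =>
    obtain ⟨t, ht, f, hf, rfl⟩ := hx
    have hf1 : f ∈ D.H1 := Subgroup.mem_sup_right hf
    have ht1 : t ∈ D.H1 := Subgroup.mem_sup_left ht
    refine ⟨mul_mem ht1 hf1, ?_⟩
    have : D.mkA (t * f) (mul_mem ht1 hf1) = D.mkA t ht1 * D.mkA f hf1 := rfl
    rw [this, hsub t ht, one_mul]
    clear this
    induction hf using Subgroup.closure_induction with
    | mem x hx =>
      obtain ⟨u, v, hu, hv, rfl⟩ := hx
      have hu0 : u ≠ 0 := fun e => hu (by rw [e, QuadraticMap.map_zero])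
      have hv0 : -v ≠ 0 := neg_ne_zero.2 fun e => hv (by rw [e, QuadraticMap.map_zero])
      exact Subgroup.subset_closure ⟨⟨u, hu0⟩, ⟨-v, hv0⟩, by simp [cls]⟩
    | one => exact one_mem _
    | mul x y hx hy ihx ihy =>
      exact mul_mem (ihx (Subgroup.mem_sup_right hx)) (ihy (Subgroup.mem_sup_right hy))
    | inv x hx ih => exact inv_mem (ih (Subgroup.mem_sup_right hx))
  | one => exact ⟨one_mem _, one_mem _⟩
  | mul x y _ _ ihx ihy => exact ⟨mul_mem ihx.1 ihy.1, mul_mem ihx.2 ihy.2⟩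
  | inv x _ ih => exact ⟨inv_mem ih.1, inv_mem ih.2⟩

theorem chiA_cls (x y : V0 F κ) : D.chiA (D.cls hA x y) = rWe QW x.1 * rWe QW y.1 := by
  refine LinearEquiv.ext fun w => ?_
  show D.rPart (D.WY (a0 D.hn) x.1 * D.WY (a0 D.hn) (-y.1)) w = rW QW x.1 (rW QW y.1 w)
  have hy : QW (-y.1) ≠ 0 := by rw [QuadraticMap.map_neg]; exact Q_ne hA y.2
  rw [D.rPart_mul_mono (D.mono_WY _ (Q_ne hA x.2)) (D.mono_WY _ hy)]
  show rW QW x.1 (rW QW (-y.1) w) = _
  congr 1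
  simp [rW_apply]

variable (hrot : IsCyclic (Rot QW))
include hA hrot

/-- **The quotient is commutative.** -/
theorem A_comm (a b : D.A) : a * b = b * a := by
  classical
  have hle : D.chiA.range ≤ Rot QW := by
    rw [MonoidHom.range_eq_map, ← D.cls_generate hA, MonoidHom.map_closure, Subgroup.closure_le]
    rintro _ ⟨_, ⟨x, y, rfl⟩, rfl⟩
    rw [D.chiA_cls]
    exact Subgroup.subset_closure ⟨x.1, y.1, Q_ne hA x.2, Q_ne hA y.2, rfl⟩
  refine commutative_of_cyclic_center_quotient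
    (D.chiA.codRestrict (Rot QW) fun z => hle ⟨z, rfl⟩) ?_ a b
  intro z hz
  have hz' : D.chiA z = 1 := by
    rw [MonoidHom.mem_ker] at hz
    exact congrArg Subtype.val hz
  obtain ⟨⟨g, hg⟩, rfl⟩ := QuotientGroup.mk_surjective z
  obtain ⟨c, R, hm⟩ := D.H_le_Diag (D.H1_le_H hg)
  have hR : ∀ w, R w = w := fun w => by
    rw [← D.rPart_eq hm]
    exact LinearEquiv.congr_fun hz' w
  rw [Subgroup.mem_center_iff]
  intro y
  have hle2 : (⊤ : Subgroup D.A) ≤ Subgroup.centralizer {(QuotientGroup.mk ⟨g, hg⟩ : D.A)} := by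
    rw [← D.cls_generate hA, Subgroup.closure_le]
    rintro _ ⟨u, v, rfl⟩
    rw [SetLike.mem_coe, Subgroup.mem_centralizer_singleton_iff]
    have hc : c (a0 D.hn) ≠ 0 := left_ne_zero_of_mul (by rw [(hm.c_mul (a0 D.hn)).2]; exact one_ne_zero)
    have hu' : c (a0 D.hn) • u.1 ≠ 0 := smul_ne_zero hc u.2
    have hv' : c (a0 D.hn) • v.1 ≠ 0 := smul_ne_zero hc v.2
    have e1 : (QuotientGroup.mk ⟨g, hg⟩ : D.A) * D.cls hA u v * (QuotientGroup.mk ⟨g, hg⟩)⁻¹ =
        D.cls hA ⟨_, hu'⟩ ⟨_, hv'⟩ := by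
      rw [cls, cls, mkA, mkA, ← QuotientGroup.mk_inv, ← QuotientGroup.mk_mul, ← QuotientGroup.mk_mul]
      congr 1
      refine Subtype.ext ?_
      show g * (_ * _) * g⁻¹ = _
      rw [← conj_mul, D.conj_WY hm, D.conj_WY hm, Equiv.Perm.one_apply, hR, hR, smul_neg]
    rw [D.cls_left hA _ (x := u) (x' := ⟨_, hu'⟩) (s := c (a0 D.hn)) rfl, D.cls_right hA _ (y := v) (y' := ⟨_, hv'⟩) (s := c (a0 D.hn)) rfl] at e1
    exact (mul_inv_eq_iff_eq_mul.1 e1).symm
  exact Subgroup.mem_centralizer_singleton_iff.1 (hle2 (Subgroup.mem_top y))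

theorem cls_swap (v x y : V0 F κ) : D.cls hA (sv QW v x) (sv QW v y) = D.cls hA y x := by
  rw [cls_refl, D.A_comm hA hrot, D.cls_mul]

omit hA hrot in
theorem sv_sv (v x : V0 F κ) : sv QW v (sv QW v x) = x := Subtype.ext (rW_rW QW v.1 x.1)

omit hrot in
theorem exists_sv {x y : V0 F κ} {s : F} (h : QW (s • x.1) = QW y.1) :
    ∃ v : V0 F κ, ∃ μ : F, y.1 = μ • (sv QW v x).1 := by
  by_cases e : s • x.1 = y.1
  · refine ⟨x, -s, ?_⟩
    show _ = _ • rW QW x.1 x.1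
    rw [rW_self QW (Q_ne hA x.2), smul_neg, neg_smul, neg_neg, e]
  · have hv : s • x.1 - y.1 ≠ 0 := sub_ne_zero.2 e
    refine ⟨⟨_, hv⟩, s, ?_⟩
    show y.1 = s • rW QW (s • x.1 - y.1) x.1
    have hB : QW (s • x.1 - y.1) = QuadraticMap.polar (⇑QW) (s • x.1 - y.1) (s • x.1) := by
      rw [sub_eq_add_neg, QuadraticMap.map_add QW (s • x.1) (-y.1), QuadraticMap.map_neg,
        QuadraticMap.polar_add_left, QuadraticMap.polar_self, two_nsmul, QuadraticMap.polar_comm (⇑QW) (-y.1), h]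
    have hvq := Q_ne hA hv
    rw [← map_smul, rW_apply, ← hB, inv_mul_cancel₀ hvq]
    module

omit hrot in
theorem same_class [Finite F] (x y z : V0 F κ) :
    (∃ s : F, QW (s • x.1) = QW y.1) ∨ (∃ s : F, QW (s • x.1) = QW z.1) ∨ ∃ s : F, QW (s • y.1) = QW z.1 := by
  classical
  have := Fintype.ofFinite F
  have hx := Q_ne hA x.2
  have hy := Q_ne hA y.2
  have hz := Q_ne hA z.2
  have mk : ∀ (a b : V0 F κ), IsSquare (QW b.1 * QW a.1) → ∃ s : F, QW (s • a.1) = QW b.1 := by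
    rintro a b ⟨r, hr⟩
    have ha := Q_ne hA a.2
    refine ⟨r / QW a.1, ?_⟩
    rw [QuadraticMap.map_smul, smul_eq_mul, div_mul_div_comm, ← hr]
    field_simp
  by_cases h1 : IsSquare (QW y.1 * QW x.1)
  · exact Or.inl (mk _ _ h1)
  by_cases h2 : IsSquare (QW z.1 * QW x.1)
  · exact Or.inr (Or.inl (mk _ _ h2))
  refine Or.inr (Or.inr (mk _ _ ?_))
  have h2' : ringChar F ≠ 2 := fun h => h1 (FiniteField.isSquare_of_char_two h _)
  have e1 := quadraticChar_neg_one_iff_not_isSquare.2 h1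
  have e2 := quadraticChar_neg_one_iff_not_isSquare.2 h2
  have h3 : quadraticChar F (QW z.1 * QW y.1 * (QW x.1 * QW x.1)) = 1 := by
    rw [show QW z.1 * QW y.1 * (QW x.1 * QW x.1) = (QW y.1 * QW x.1) * (QW z.1 * QW x.1) by ring, map_mul, e1, e2]
    norm_num
  obtain ⟨r, hr⟩ := (quadraticChar_one_iff_isSquare (mul_ne_zero (mul_ne_zero hz hy) (mul_ne_zero hx hx))).1 h3
  exact ⟨r / QW x.1, by rw [div_mul_div_comm, ← hr]; field_simp⟩

theorem cls_flip (u x : V0 F κ) : ∃ z, D.cls hA u x = D.cls hA z u := by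
  refine ⟨sv QW u x, ?_⟩
  have e := D.cls_swap hA hrot u x u
  rw [D.cls_right hA _ (y := u) (y' := sv QW u u) (s := -1)
    (by show rW QW u.1 u.1 = _; rw [rW_self QW (Q_ne hA u.2), neg_one_smul])] at e
  exact e.symm

/-- Every class is `cls z u`. -/
theorem cls_normal [Finite F] (u x y : V0 F κ) : ∃ z, D.cls hA x y = D.cls hA z u := by
  rcases same_class hA x y u with ⟨s, h⟩ | ⟨s, h⟩ | ⟨s, h⟩
  · obtain ⟨v, μ, hμ⟩ := exists_sv hA h
    let R : V0 F κ → V0 F κ := fun w => sv QW v (sv QW x w)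
    obtain ⟨z, hz⟩ := D.cls_flip hA hrot u (R u)
    refine ⟨z, ?_⟩
    have inv : ∀ a b, D.cls hA (R a) (R b) = D.cls hA a b := fun a b => by
      show D.cls hA (sv QW v _) (sv QW v _) = _
      rw [D.cls_swap hA hrot, D.cls_swap hA hrot]
    have hy : D.cls hA x y = D.cls hA x (R x) := by
      refine D.cls_right hA x (s := -μ) ?_
      show y.1 = -μ • rW QW v.1 (rW QW x.1 x.1)
      rw [rW_self QW (Q_ne hA x.2), map_neg, smul_neg, neg_smul, neg_neg]
      exact hμ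
    -- invert
    have e1 : D.cls hA (R x) x = D.cls hA (R u) u := by
      rw [← D.cls_mul hA (R x) (R u) x, ← D.cls_mul hA (R u) u x, inv, D.A_comm hA hrot (D.cls hA x u),
        mul_assoc, D.cls_mul, D.cls_self, mul_one]
    rw [hy, ← D.cls_inv hA (R x) x, e1, D.cls_inv, hz]
  · obtain ⟨v, μ, hμ⟩ := exists_sv hA h
    refine ⟨sv QW v y, ?_⟩
    rw [D.cls_right hA _ (y := sv QW v x) hμ, D.cls_swap hA hrot]
  · obtain ⟨v, μ, hμ⟩ := exists_sv hA h
    obtain ⟨z, hz⟩ := D.cls_flip hA hrot u (sv QW v x)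
    refine ⟨z, ?_⟩
    rw [← hz, D.cls_left hA _ (x := sv QW v y) hμ, D.cls_swap hA hrot]

end Ext

end Cfsg.Agent.Schur.OrthW
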