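import Cfsg.Agent.Lib.Schur.OrthW.Short
import Cfsg.Agent.Lib.Schur.OrthW.Roots

/-!
# Weyl elements and the torus in a central extension
-/

set_option autoImplicit false

namespace Cfsg.Agent.Schur.OrthW

open CurtisTits CurtisTits.DType
open Cfsg.Agent.MaxCl Cfsg.Agent.MaxCl.Orth
open scoped MatrixGroups commutatorElement

universe u

variable {F : Type u} [Field F] {n : ℕ} {κ : Type} [Fintype κ] [DecidableEq κ]

theorem IsMono.inv {QW : QuadraticForm F (κ → F)} {g : GL (J n κ) F} {c : SIdx n → F}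
    {R : (κ → F) →ₗ[F] (κ → F)} (h : IsMono QW g 1 c R) :
    ∃ c' R', IsMono QW g⁻¹ 1 c' R' := by
  have hinj : Function.Injective R := fun v v' e => by
    have : act g (wv n v) = act g (wv n v') := by rw [h.map_wv, h.map_wv, e]
    have := act_injective g this
    funext k
    exact congrFun this (.inr k)
  refine ⟨fun a => c (ng a), (LinearEquiv.ofInjectiveEndo R hinj).symm.toLinearMap, inv_mem h.iso, fun a => ?_,
    fun w => ?_⟩
  · have h1 := h.map_e a
    have := congrArg (fun x => c (ng a) • act g⁻¹ x) h1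
    simp only [map_smul, act_inv_act, smul_smul, Equiv.Perm.one_apply] at this
    rw [mul_comm (c (ng a)) (c a), (h.c_mul a).2, one_smul] at this
    rw [Equiv.Perm.one_apply]
    exact this.symm
  · obtain ⟨v, rfl⟩ := (LinearEquiv.ofInjectiveEndo R hinj).surjective w
    rw [LinearEquiv.coe_coe, LinearEquiv.symm_apply_apply]
    conv_lhs => rw [show LinearEquiv.ofInjectiveEndo R hinj v = R v from rfl, ← h.map_wv]
    exact act_inv_act _ _

theorem tau_long {i : Fin n} (h : i.val + 1 < n) :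
    tau i = sw (Sum.inl i) (Sum.inl ⟨i.val + 1, h⟩) := by rw [tau, dif_pos h]

theorem tau_short {i : Fin n} (h : ¬ i.val + 1 < n) :
    tau i = Equiv.swap (Sum.inl i) (ng (Sum.inl i)) := by rw [tau, dif_neg h]

namespace Ext

variable {QW : QuadraticForm F (κ → F)} {M : Type u} [Group M] (D : Ext (n := n) QW M)

/-- The short Weyl element. -/
noncomputable def WY (a : SIdx n) (u : κ → F) : M := D.Y a u * D.Y (ng a) ((QW u)⁻¹ • u) * D.Y a u

theorem p_WY (a : SIdx n) (u : κ → F) : D.p (D.WY a u) = wS QW a u := by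
  rw [WY, map_mul, map_mul, D.p_Y, D.p_Y, wS]

theorem mono_WY (a : SIdx n) {u : κ → F} (hu : QW u ≠ 0) :
    IsMono QW (D.p (D.WY a u)) (Equiv.swap a (ng a)) (wSc a (QW u)) (rW QW u) := by
  rw [D.p_WY]; exact mono_wS QW a hu

theorem p_w {a b : SIdx n} (h : lv a ≠ lv b) (t : F) : D.p (D.rels.w a b t) = (longRels QW).w a b t := by
  simp only [RelsD.w, map_mul]
  show D.p (D.X a b t) * D.p (D.X b a _) * D.p (D.X a b t) = _
  rw [D.p_X h, D.p_X h.symm]
  rfl

theorem mono_w' {a b : SIdx n} (h : lv a ≠ lv b) {t : F} (ht : t ≠ 0) :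
    IsMono QW (D.p (D.rels.w a b t)) (sw a b) (DModel.wc a b t) LinearMap.id := by
  rw [D.p_w h]; exact mono_w QW h ht

variable {g : M} {σ : Equiv.Perm (SIdx n)} {c : SIdx n → F} {R : (κ → F) →ₗ[F] (κ → F)}

theorem conj_w (hg : IsMono QW (D.p g) σ c R) {a b : SIdx n} (h : lv a ≠ lv b) (t : F) :
    g * D.rels.w a b t * g⁻¹ = D.rels.w (σ a) (σ b) (c a * c (ng b) * t) := by
  show g * (D.X a b t * D.X b a (-t⁻¹) * D.X a b t) * g⁻¹ = D.X _ _ _ * D.X _ _ _ * D.X _ _ _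
  rw [← conj_mul, ← conj_mul, D.conj_X hg h, D.conj_X hg h.symm]
  congr 3
  have e1 := (hg.c_mul a).2
  have e2 := (hg.c_mul b).2
  have ha : c a ≠ 0 := left_ne_zero_of_mul (by rw [e1]; exact one_ne_zero)
  have hb : c (ng b) ≠ 0 := right_ne_zero_of_mul (by rw [e2]; exact one_ne_zero)
  rw [eq_inv_of_mul_eq_one_left e2, eq_inv_of_mul_eq_one_right e1, mul_inv, mul_inv]
  field_simp

theorem conj_WY (hg : IsMono QW (D.p g) σ c R) (a : SIdx n) (u : κ → F) :
    g * D.WY a u * g⁻¹ = D.WY (σ a) (c a • R u) := by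
  have e1 := (hg.c_mul a).2
  have ha : c a ≠ 0 := left_ne_zero_of_mul (by rw [e1]; exact one_ne_zero)
  rw [WY, ← conj_mul, ← conj_mul, D.conj_Y hg, D.conj_Y hg, (hg.c_mul a).1, WY]
  congr 3
  rw [map_smul, smul_smul, smul_smul, QuadraticMap.map_smul, smul_eq_mul, hg.Q_map,
    eq_inv_of_mul_eq_one_right e1]
  congr 1
  field_simp

theorem WY_neg (a : SIdx n) (u : κ → F) : D.WY a (-u) = (D.WY a u)⁻¹ := by
  rw [WY, WY, QuadraticMap.map_neg, smul_neg, D.Y_neg, D.Y_neg]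
  group

theorem WY_flip (a : SIdx n) {u : κ → F} (hu : QW u ≠ 0) :
    D.WY a u = D.WY (ng a) ((QW u)⁻¹ • u) := by
  have h := D.conj_WY (D.mono_WY a hu) a u
  rw [mul_inv_cancel_right, Equiv.swap_apply_left] at h
  conv_lhs => rw [h]
  congr 1
  rw [wSc, if_pos rfl, rW_apply, QuadraticMap.polar_self, two_nsmul]
  match_scalars
  field_simp
  ring

theorem w_symm {a b : SIdx n} (h : lv a ≠ lv b) (t : F) : D.rels.w (ng b) (ng a) t = D.rels.w a b (-t) := by
  show D.X _ _ _ * D.X _ _ _ * D.X _ _ _ = D.X _ _ _ * D.X _ _ _ * D.X _ _ _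
  rw [D.X_symm h, D.X_symm h.symm, inv_neg, neg_neg]

/-- The torus. -/
def H : Subgroup M :=
  Subgroup.closure ({g | ∃ a b, lv a ≠ lv b ∧ ∃ t u : F, t ≠ 0 ∧ u ≠ 0 ∧ g = D.rels.w a b t * D.rels.w a b u} ∪
    {g | ∃ a, ∃ v v', QW v ≠ 0 ∧ QW v' ≠ 0 ∧ g = D.WY a v * D.WY a v'})

theorem ww_mem_H {a b : SIdx n} (h : lv a ≠ lv b) {t u : F} (ht : t ≠ 0) (hu : u ≠ 0) :
    D.rels.w a b t * D.rels.w a b u ∈ D.H := Subgroup.subset_closure (Or.inl ⟨a, b, h, t, u, ht, hu, rfl⟩)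

theorem YY_mem_H (a : SIdx n) {v v' : κ → F} (hv : QW v ≠ 0) (hv' : QW v' ≠ 0) :
    D.WY a v * D.WY a v' ∈ D.H := Subgroup.subset_closure (Or.inr ⟨a, v, v', hv, hv', rfl⟩)

/-- The elements acting diagonally on the hyperbolic basis and fixing `W` as a set. -/
def Diag : Subgroup M where
  carrier := {g | ∃ c R, IsMono QW (D.p g) 1 c R}
  one_mem' := ⟨1, LinearMap.id, by rw [map_one]; exact isMono_one⟩
  mul_mem' := by
    rintro a b ⟨c, R, h⟩ ⟨c', R', h'⟩
    have := h.mul h'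
    rw [one_mul, ← map_mul] at this
    exact ⟨_, _, this⟩
  inv_mem' := by
    rintro a ⟨c, R, h⟩
    obtain ⟨c', R', h'⟩ := h.inv
    exact ⟨c', R', by rwa [map_inv]⟩

theorem mem_Diag {g : M} : g ∈ D.Diag ↔ ∃ c R, IsMono QW (D.p g) 1 c R := Iff.rfl

theorem H_le_Diag : D.H ≤ D.Diag := by
  rw [H, Subgroup.closure_le]
  rintro _ (⟨a, b, h, t, u, ht, hu, rfl⟩ | ⟨a, v, v', hv, hv', rfl⟩)
  · have := (D.mono_w' h ht).mul (D.mono_w' h hu)
    rw [show sw a b * sw a b = 1 from Equiv.ext fun c => sw_sw h c, ← map_mul] at this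
    exact ⟨_, _, this⟩
  · have := (D.mono_WY a hv).mul (D.mono_WY a hv')
    rw [Equiv.swap_mul_self, ← map_mul] at this
    exact ⟨_, _, this⟩

/-- Monomial elements normalise the torus. -/
theorem conj_H (hg : IsMono QW (D.p g) σ c R) {h : M} (hh : h ∈ D.H) : g * h * g⁻¹ ∈ D.H := by
  refine (show D.H ≤ D.H.comap (MulAut.conj g).toMonoidHom from ?_) hh
  conv_lhs => rw [H]
  rw [Subgroup.closure_le]
  rintro _ (⟨a, b, h, t, u, ht, hu, rfl⟩ | ⟨a, v, v', hv, hv', rfl⟩)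
  · show g * (_ * _) * g⁻¹ ∈ D.H
    have hne : c a * c (ng b) ≠ 0 := mul_ne_zero (left_ne_zero_of_mul (by rw [(hg.c_mul a).2]; exact one_ne_zero))
      (right_ne_zero_of_mul (by rw [(hg.c_mul b).2]; exact one_ne_zero))
    rw [← conj_mul, D.conj_w hg h, D.conj_w hg h]
    exact D.ww_mem_H (hg.lv_ne h) (mul_ne_zero hne ht) (mul_ne_zero hne hu)
  · show g * (_ * _) * g⁻¹ ∈ D.H
    have hne : c a ≠ 0 := left_ne_zero_of_mul (by rw [(hg.c_mul a).2]; exact one_ne_zero)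
    rw [← conj_mul, D.conj_WY hg, D.conj_WY hg]
    refine D.YY_mem_H _ ?_ ?_ <;>
      rw [QuadraticMap.map_smul, smul_eq_mul, hg.Q_map] <;>
      exact mul_ne_zero (mul_ne_zero hne hne) (by assumption)

end Ext

end Cfsg.Agent.Schur.OrthW
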